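import Groth.Agent.DTenLib.Homotopy
import Groth.Prelude.Def_DTen3

/-!
# The derived tensor product is computed by K-flat complexes
-/

universe u

open CategoryTheory Limits MonoidalCategory HomologicalComplex

namespace Groth.Agent.DTenLib

attribute [local instance] HasDerivedCategory.standard

set_option linter.style.haveILetI false

open Groth.Agent.DRingKFlat Groth.Agent.DRingTorAmp

variable {A : Type u} [CommRing A]

variable (A) in
/-- Pairs of K-projective complexes. -/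
def KPr₂ : ObjectProperty (DRing.Cx A × DRing.Cx A) := fun X => KPr A X.1 ∧ KPr A X.2

variable (A) in
/-- Triples of K-projective complexes. -/
def KPr₃ : ObjectProperty (DRing.Cx A × (DRing.Cx A × DRing.Cx A)) := fun X => KPr A X.1 ∧ KPr₂ A X.2

variable (A) in
theorem liftable₂ : Liftable (DTen.QQ A) (DTen.tensor₂ A) (KPr₂ A) where
  res X := by
    obtain ⟨P, hP, ⟨e⟩⟩ := exists_kproj X.1
    obtain ⟨P', hP', ⟨e'⟩⟩ := exists_kproj X.2
    exact ⟨(P, P'), ⟨hP, hP'⟩, ⟨Iso.prod e e'⟩⟩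
  lift {Y Z} hY g := by
    haveI : Y.1.IsKProjective := hY.1
    haveI : Y.2.IsKProjective := hY.2
    obtain ⟨f, hf⟩ := DRingComplete.exists_Q_map_eq Y.1 Z.1 g.1
    obtain ⟨f', hf'⟩ := DRingComplete.exists_Q_map_eq Y.2 Z.2 g.2
    exact ⟨Prod.mkHom f f', Prod.ext hf hf'⟩
  eq {Y Z} a b hY h := by
    haveI : Y.1.IsKProjective := hY.1
    haveI : Y.2.IsKProjective := hY.2
    obtain ⟨t⟩ := homotopy_of_Q_eq (congrArg Prod.fst h)
    obtain ⟨t'⟩ := homotopy_of_Q_eq (congrArg Prod.snd h)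
    show DerivedCategory.Q.map (a.1 ▷ _ ≫ _ ◁ a.2) = DerivedCategory.Q.map (b.1 ▷ _ ≫ _ ◁ b.2)
    rw [Functor.map_comp, Functor.map_comp, tensor_homotopy₁ t, tensor_homotopy₂ _ t']

variable (A) in
theorem liftable₃ : Liftable (DTen.QQQ A) (DTen.tensor₃ A) (KPr₃ A) where
  res X := by
    obtain ⟨P, hP, ⟨e⟩⟩ := exists_kproj X.1
    obtain ⟨P', hP', ⟨e'⟩⟩ := (liftable₂ A).res X.2
    exact ⟨(P, P'), ⟨hP, hP'⟩, ⟨Iso.prod e e'⟩⟩
  lift {Y Z} hY g := by
    haveI : Y.1.IsKProjective := hY.1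
    obtain ⟨f, hf⟩ := DRingComplete.exists_Q_map_eq Y.1 Z.1 g.1
    obtain ⟨f', hf'⟩ := (liftable₂ A).lift hY.2 g.2
    exact ⟨Prod.mkHom f f', Prod.ext hf hf'⟩
  eq {Y Z} a b hY h := by
    haveI : Y.1.IsKProjective := hY.1
    haveI : Y.2.1.IsKProjective := hY.2.1
    haveI : Y.2.2.IsKProjective := hY.2.2
    obtain ⟨t⟩ := homotopy_of_Q_eq (congrArg Prod.fst h)
    obtain ⟨t'⟩ := homotopy_of_Q_eq (congrArg (fun x => (Prod.snd x).1) h)
    obtain ⟨t''⟩ := homotopy_of_Q_eq (congrArg (fun x => (Prod.snd x).2) h)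
    show DerivedCategory.Q.map (a.1 ▷ _ ≫ _ ◁ (a.2.1 ▷ _ ≫ _ ◁ a.2.2)) =
      DerivedCategory.Q.map (b.1 ▷ _ ≫ _ ◁ (b.2.1 ▷ _ ≫ _ ◁ b.2.2))
    rw [Functor.map_comp, Functor.map_comp, tensor_homotopy₁ t]
    congr 1
    exact tensor_homotopy₂ _ ((mapBifunctorMapHomotopy₁ t' (𝟙 _) _ _).compRight _ |>.trans
      ((mapBifunctorMapHomotopy₂ (𝟙 _) t'' _ _).compLeft _))

variable (A) in
theorem hasLTen : DTen.HasLTen A := (liftable₂ A).hasLeftDerivedFunctor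

variable (A) in
theorem hasLTen₃ : DTen.HasLTen₃ A := (liftable₃ A).hasLeftDerivedFunctor

theorem quasiIso_tensor_left {P K P' L : DRing.Cx A} (p : P ⟶ K) (q : P' ⟶ L) [QuasiIso p] [QuasiIso q]
    (hP : IsKFl P) (hP' : IsKFl P') (hK : IsKFl K) : QuasiIso (p ▷ P' ≫ K ◁ q) := by
  haveI := whiskerRight_qis p hP'
  haveI := whiskerLeft_qis' q hK
  exact quasiIso_comp _ _

theorem quasiIso_tensor_right {P K P' L : DRing.Cx A} (p : P ⟶ K) (q : P' ⟶ L) [QuasiIso p] [QuasiIso q]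
    (hP : IsKFl P) (hP' : IsKFl P') (hL : IsKFl L) : QuasiIso (p ▷ P' ≫ K ◁ q) := by
  haveI := whiskerRight_qis p hP'
  haveI := whiskerLeft_qis K q hP' hL
  exact quasiIso_comp _ _

theorem isIso_QQ_map {X Y : DRing.Cx A × DRing.Cx A} (f : X ⟶ Y) [QuasiIso f.1] [QuasiIso f.2] :
    IsIso ((DTen.QQ A).map f) := by
  haveI : IsIso (DerivedCategory.Q.map f.1) := (DerivedCategory.isIso_Q_map_iff_quasiIso _ _).2 inferInstance
  haveI : IsIso (DerivedCategory.Q.map f.2) := (DerivedCategory.isIso_Q_map_iff_quasiIso _ _).2 inferInstance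
  exact (isIso_prod_iff _ _).2 ⟨‹IsIso (DerivedCategory.Q.map f.1)›, ‹IsIso (DerivedCategory.Q.map f.2)›⟩

/-- The counit is an isomorphism as soon as one of the two complexes is K-flat. -/
theorem isIso_ε [DTen.HasLTen A] {K L : DRing.Cx A} (h : IsKFl K ∨ IsKFl L) :
    IsIso ((DTen.ε A).app (K, L)) := by
  obtain ⟨P, p, hP, hp, -⟩ := DRingKProj.exists_resolution K
  obtain ⟨P', q, hP', hq, -⟩ := DRingKProj.exists_resolution L
  haveI := hP; haveI := hP'; haveI := hp; haveI := hq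
  haveI : QuasiIso (p ▷ P' ≫ K ◁ q) := by
    rcases h with h | h
    · exact quasiIso_tensor_left p q (isKFl_of_isKProjective P) (isKFl_of_isKProjective P') h
    · exact quasiIso_tensor_right p q (isKFl_of_isKProjective P) (isKFl_of_isKProjective P') h
  haveI : IsIso ((DTen.tensor₂ A).map (X := (P, P')) (Y := (K, L)) (Prod.mkHom p q)) :=
    (DerivedCategory.isIso_Q_map_iff_quasiIso _ (p ▷ P' ≫ K ◁ q)).2 inferInstance
  haveI : QuasiIso (Prod.mkHom p q : (P, P') ⟶ (K, L)).1 := hp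
  haveI : QuasiIso (Prod.mkHom p q : (P, P') ⟶ (K, L)).2 := hq
  haveI : IsIso ((DTen.QQ A).map (X := (P, P')) (Y := (K, L)) (Prod.mkHom p q)) := isIso_QQ_map _
  exact (liftable₂ A).isIso_counit_app_of_map (W := DTen.qis₂ A) (Prod.mkHom p q : (P, P') ⟶ (K, L)) ⟨hP, hP'⟩

variable (A) in
theorem kFlatComputes [DTen.HasLTen A] : DTen.KFlatComputes A :=
  ⟨fun _ _ h => isIso_ε h⟩

/-- The counit of the triple product at K-flat complexes. -/
theorem isIso_ε₃ [DTen.HasLTen₃ A] {K L M : DRing.Cx A} (hK : IsKFl K) (hL : IsKFl L) (hM : IsKFl M) :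
    IsIso ((DTen.ε₃ A).app (K, (L, M))) := by
  obtain ⟨P, p, hP, hp, -⟩ := DRingKProj.exists_resolution K
  obtain ⟨P', q, hP', hq, -⟩ := DRingKProj.exists_resolution L
  obtain ⟨P'', r, hP'', hr, -⟩ := DRingKProj.exists_resolution M
  haveI := hP; haveI := hP'; haveI := hP''; haveI := hp; haveI := hq; haveI := hr
  haveI : QuasiIso (q ▷ P'' ≫ L ◁ r) :=
    quasiIso_tensor_left q r (isKFl_of_isKProjective P') (isKFl_of_isKProjective P'') hL
  haveI : QuasiIso (p ▷ (P' ⊗ P'') ≫ K ◁ (q ▷ P'' ≫ L ◁ r)) :=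
    quasiIso_tensor_left p _ (isKFl_of_isKProjective P)
      (isKFl_tensor (isKFl_of_isKProjective P') (isKFl_of_isKProjective P'')) hK
  let f : ((P, (P', P'')) : DRing.Cx A × (DRing.Cx A × DRing.Cx A)) ⟶ (K, (L, M)) :=
    Prod.mkHom p (Prod.mkHom q r)
  haveI : IsIso ((DTen.tensor₃ A).map f) :=
    (DerivedCategory.isIso_Q_map_iff_quasiIso _ (p ▷ (P' ⊗ P'') ≫ K ◁ (q ▷ P'' ≫ L ◁ r))).2 inferInstance
  haveI : QuasiIso f.2.1 := hq
  haveI : QuasiIso f.2.2 := hr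
  haveI : IsIso ((DTen.QQ A).map f.2) := isIso_QQ_map _
  haveI : IsIso (DerivedCategory.Q.map f.1) := (DerivedCategory.isIso_Q_map_iff_quasiIso _ _).2 hp
  haveI : IsIso ((DTen.QQQ A).map f) :=
    (isIso_prod_iff _ _).2 ⟨‹IsIso (DerivedCategory.Q.map f.1)›, ‹IsIso ((DTen.QQ A).map f.2)›⟩
  exact (liftable₃ A).isIso_counit_app_of_map (W := DTen.qis₃ A) f ⟨hP, hP', hP''⟩

theorem isIso_βR [DTen.HasLTen A] {K L M : DRing.Cx A} (hK : IsKFl K) (hL : IsKFl L) :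
    IsIso ((DTen.βR A).app (K, (L, M))) := by
  haveI := isIso_ε (A := A) (K := L) (L := M) (Or.inl hL)
  haveI := isIso_ε (A := A) (K := K) (L := L ⊗ M) (Or.inl hK)
  dsimp [DTen.βR]
  haveI : IsIso (Prod.mkHom (𝟙 (DerivedCategory.Q.obj K)) ((DTen.ε A).app (L, M))) :=
    (isIso_prod_iff _ _).2 ⟨inferInstance, inferInstance⟩
  infer_instance

theorem isIso_βL [DTen.HasLTen A] {K L M : DRing.Cx A} (hK : IsKFl K) (hL : IsKFl L) :
    IsIso ((DTen.βL A).app (K, (L, M))) := by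
  haveI := isIso_ε (A := A) (K := K) (L := L) (Or.inl hK)
  haveI : IsIso ((DTen.ε A).app (K ⊗ L, M) ≫ DerivedCategory.Q.map (α_ K L M).hom) :=
    haveI := isIso_ε (A := A) (K := K ⊗ L) (L := M) (Or.inl (isKFl_tensor hK hL))
    inferInstance
  haveI : IsIso ((DTen.LTen₂ A).map (Prod.mkHom ((DTen.ε A).app (K, L)) (𝟙 (DerivedCategory.Q.obj M)))) :=
    haveI : IsIso (Prod.mkHom ((DTen.ε A).app (K, L)) (𝟙 (DerivedCategory.Q.obj M))) :=
      (isIso_prod_iff _ _).2 ⟨inferInstance, inferInstance⟩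
    Functor.map_isIso _ _
  exact IsIso.comp_isIso' this ‹_›

theorem exists_kfl_triple (X : Dual.D A × (Dual.D A × Dual.D A)) :
    ∃ K L M : DRing.Cx A, IsKFl K ∧ IsKFl L ∧ IsKFl M ∧ Nonempty ((DTen.QQQ A).obj (K, (L, M)) ≅ X) := by
  obtain ⟨⟨K, L, M⟩, ⟨hK, hL, hM⟩, ⟨e⟩⟩ := (liftable₃ A).res X
  haveI : K.IsKProjective := hK
  haveI : L.IsKProjective := hL
  haveI : M.IsKProjective := hM
  exact ⟨K, L, M, isKFl_of_isKProjective K, isKFl_of_isKProjective L, isKFl_of_isKProjective M, ⟨e⟩⟩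

theorem isIso_assocR [DTen.HasLTen A] [DTen.HasLTen₃ A] : IsIso (DTen.assocR A) := by
  refine (NatTrans.isIso_iff_isIso_app _).2 fun X => ?_
  obtain ⟨K, L, M, hK, hL, hM, ⟨e⟩⟩ := exists_kfl_triple X
  refine (NatTrans.isIso_app_iff_of_iso (DTen.assocR A) e).1 ?_
  haveI := isIso_ε₃ (A := A) hK hL hM
  haveI : IsIso ((DTen.assocR A).app ((DTen.QQQ A).obj (K, (L, M))) ≫ (DTen.ε₃ A).app (K, (L, M))) := by
    rw [DTen.assocR_fac]; exact isIso_βR hK hL
  exact IsIso.of_isIso_comp_right _ ((DTen.ε₃ A).app (K, (L, M)))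

theorem isIso_assocL [DTen.HasLTen A] [DTen.HasLTen₃ A] : IsIso (DTen.assocL A) := by
  refine (NatTrans.isIso_iff_isIso_app _).2 fun X => ?_
  obtain ⟨K, L, M, hK, hL, hM, ⟨e⟩⟩ := exists_kfl_triple X
  refine (NatTrans.isIso_app_iff_of_iso (DTen.assocL A) e).1 ?_
  haveI := isIso_ε₃ (A := A) hK hL hM
  haveI : IsIso ((DTen.assocL A).app ((DTen.QQQ A).obj (K, (L, M))) ≫ (DTen.ε₃ A).app (K, (L, M))) := by
    rw [DTen.assocL_fac]; exact isIso_βL hK hL
  exact IsIso.of_isIso_comp_right _ ((DTen.ε₃ A).app (K, (L, M)))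

theorem isIso_symm [DTen.HasLTen A] : IsIso (DTen.symm A) := by
  refine (NatTrans.isIso_iff_isIso_app _).2 fun X => ?_
  obtain ⟨⟨K, L⟩, ⟨hK, hL⟩, ⟨e⟩⟩ := (liftable₂ A).res X
  refine (NatTrans.isIso_app_iff_of_iso (DTen.symm A) e).1 ?_
  haveI : K.IsKProjective := hK
  haveI := isIso_ε (A := A) (K := K) (L := L) (Or.inl (isKFl_of_isKProjective K))
  haveI := isIso_ε (A := A) (K := L) (L := K) (Or.inr (isKFl_of_isKProjective K))
  haveI : IsIso ((DTen.symm A).app (DerivedCategory.Q.obj K, DerivedCategory.Q.obj L) ≫ (DTen.ε A).app (K, L)) := by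
    rw [DTen.symm_fac]; infer_instance
  haveI : IsIso ((DTen.symm A).app ((DTen.QQ A).obj (K, L)) ≫ (DTen.ε A).app (K, L)) := this
  exact IsIso.of_isIso_comp_right _ ((DTen.ε A).app (K, L))

end Groth.Agent.DTenLib
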