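import Groth.Agent.DTenLib.Pairing
import Groth.Agent.DTenLib.Core
import Groth.Agent.DRingTorAmp.Criterion
import Mathlib.RingTheory.Finiteness.Projective
import Mathlib.LinearAlgebra.FreeModule.Finite.Matrix

/-!
# Dualizable representatives of perfect objects
-/

universe u

open CategoryTheory Limits MonoidalCategory HomologicalComplex

namespace Groth.Agent.DTenLib

attribute [local instance] HasDerivedCategory.standard

open Groth.Agent.DRingKFlat Groth.Agent.DRingTorAmp

variable {A : Type u} [CommRing A]

/-- A K-flat complex with a K-flat two-sided dual. -/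
structure Dualizable (K N : DRing.Cx A) where
  pairing : ExactPairing K N
  pairing' : ExactPairing N K
  kflat : IsKFl K
  kflat' : IsKFl N

theorem projective_dual (M : Type u) [AddCommGroup M] [Module A M] [Module.Finite A M] [Module.Projective A M] :
    Module.Projective A (Module.Dual A M) := by
  obtain ⟨n, f, g, -, -, hfg⟩ := Module.Finite.exists_comp_eq_id_of_projective A M
  refine Module.Projective.of_split (M := Module.Dual A (Fin n → A)) f.dualMap g.dualMap ?_
  exact LinearMap.ext fun φ => LinearMap.ext fun x => congrArg φ (LinearMap.congr_fun hfg x)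

theorem exists_dualizable {K : Dual.D A} (hK : DRing.IsPerfect A K) :
    ∃ E N : DRing.Cx A, Nonempty (Dualizable E N) ∧ Nonempty (DRing.toD E ≅ K) := by
  obtain ⟨E, a, b, hE, hf, ⟨e⟩⟩ := hK
  obtain ⟨B⟩ := exists_dualBases hE hf
  refine ⟨E, dualCx E, ⟨⟨B.pairing, B.pairing', ?_, ?_⟩⟩, ⟨e⟩⟩
  · exact isKFl_of_flat (b := b) (fun i hi => hE i (Or.inr hi)) fun i => by
      haveI := (hf i).2
      exact Module.Flat.of_projective
  · refine isKFl_of_flat (b := -a) (fun i hi => ?_) fun i => ?_
    · haveI := ModuleCat.subsingleton_of_isZero (hE (-i) (Or.inl (by omega)))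
      haveI : Subsingleton (Module.Dual A (E.X (-i))) :=
        ⟨fun f g => LinearMap.ext fun x => by rw [Subsingleton.elim x 0, map_zero, map_zero]⟩
      exact ModuleCat.isZero_of_subsingleton (ModuleCat.of A (Module.Dual A (E.X (-i))))
    · haveI := (hf (-i)).1
      haveI := (hf (-i)).2
      haveI := projective_dual (A := A) (E.X (-i))
      exact (Module.Flat.of_projective : Module.Flat A (Module.Dual A (E.X (-i))))

end Groth.Agent.DTenLib
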