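import Groth.Agent.DTenLib.Closed
import Groth.Agent.DTenLib.Dualizable
import Mathlib.Tactic.CategoryTheory.Monoidal.Basic
import Mathlib.CategoryTheory.Localization.Adjunction

/-!
# Evaluation maps at perfect objects
-/

universe u

open CategoryTheory Limits MonoidalCategory HomologicalComplex DTen

namespace Groth.Agent.DTenLib

attribute [local instance] HasDerivedCategory.standard

set_option linter.style.haveILetI false

open Groth.Agent.DRingKFlat Groth.Agent.DRingTorAmp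

variable {A : Type u} [CommRing A]

section Coherence

variable (K L M N : DRing.Cx A)

theorem coherence₁ [ExactPairing M N] :
    (α_ K (L ⊗ N) M).hom ≫ K ◁ ((tensorRightAdjunction M N).counit.app L) =
      (α_ K L N).inv ▷ M ≫ (tensorRightAdjunction M N).counit.app (K ⊗ L) := by
  simp [tensorRightAdjunction, tensorRightHomEquiv, Adjunction.mkOfHomEquiv]

theorem coherence₂ [ExactPairing K N] :
    (α_ N (K ⊗ L) M).hom ≫ N ◁ (α_ K L M).hom ≫ (tensorLeftAdjunction K N).counit.app (L ⊗ M) =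
      (tensorLeftAdjunction K N).counit.app L ▷ M := by
  simp [tensorLeftAdjunction, tensorLeftHomEquiv, Adjunction.mkOfHomEquiv]

theorem coherence₃ [ExactPairing N K] :
    (α_ (M ⊗ K) N L).hom ≫ (α_ M K (N ⊗ L)).hom ≫ M ◁ ((tensorLeftAdjunction N K).counit.app L) =
      (tensorRightAdjunction N K).counit.app M ▷ L := by
  simp [tensorLeftAdjunction, tensorLeftHomEquiv, tensorRightAdjunction, tensorRightHomEquiv,
    Adjunction.mkOfHomEquiv]

end Coherence

variable [HasLTen A] [HasLTen₃ A] [IsSymMonoidal A] [HasRHom A]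

/-- `tensorRight N` preserves acyclic complexes and homotopies. -/
theorem tensorRight_hyps {N : DRing.Cx A} (hN : IsKFl N) :
    (∀ F : DRing.Cx A, F.Acyclic → ((tensorRight N).obj F).Acyclic) ∧
      ∀ {X Y : DRing.Cx A} {a b : X ⟶ Y}, Homotopy a b →
        DerivedCategory.Q.map ((tensorRight N).map a) = DerivedCategory.Q.map ((tensorRight N).map b) :=
  ⟨fun F hF => isKFlat_iff.1 hN F hF, fun h => tensor_homotopy₁ h N⟩

theorem tensorLeft_hyps {N : DRing.Cx A} (hN : IsKFl N) :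
    (∀ F : DRing.Cx A, F.Acyclic → ((tensorLeft N).obj F).Acyclic) ∧
      ∀ {X Y : DRing.Cx A} {a b : X ⟶ Y}, Homotopy a b →
        DerivedCategory.Q.map ((tensorLeft N).map a) = DerivedCategory.Q.map ((tensorLeft N).map b) :=
  ⟨fun F hF => acyclic_tot_left hN hF, fun h => tensor_homotopy₂ N h⟩

/-! ### The hom source is dualizable -/

/-- The composite whose adjunct is `evalTen`, for an abstract evaluation. -/
noncomputable def auxTen (K : Dual.D A) {W M L : Dual.D A} (e : (LTen₂ A).obj (W, M) ⟶ L) :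
    (LTen₂ A).obj ((LTen₂ A).obj (K, W), M) ⟶ (LTen₂ A).obj (K, L) :=
  (DTen.associator K W M).hom ≫ tm (𝟙 K) e

lemma tm_auxTen {K K' W M L : Dual.D A} (i : K ⟶ K') (e : (LTen₂ A).obj (W, M) ⟶ L) :
    tm (tm i (𝟙 W)) (𝟙 M) ≫ auxTen K' e = auxTen K e ≫ tm i (𝟙 L) := by
  rw [auxTen, auxTen, associator_natural_assoc, tm_id, Category.assoc, tm_exchange]

lemma auxTen_comp {K W W' M L : Dual.D A} (j : W' ⟶ W) (e : (LTen₂ A).obj (W, M) ⟶ L) :
    tm (tm (𝟙 K) j) (𝟙 M) ≫ auxTen K e = auxTen K (tm j (𝟙 M) ≫ e) := by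
  rw [auxTen, auxTen, associator_natural_assoc, ← tm_comp_right]

theorem isUniv_auxTen_source {M₀ N : DRing.Cx A} (D : Dualizable M₀ N) (K : Dual.D A) {W L : Dual.D A}
    {e : (LTen₂ A).obj (W, DerivedCategory.Q.obj M₀) ⟶ L} (he : IsUniv e) : IsUniv (auxTen K e) := by
  letI := D.pairing
  obtain ⟨L₀, rfl⟩ := Q_obj_surjective L
  have adj := tensorRightAdjunction M₀ N
  obtain ⟨P, hP, ⟨i⟩⟩ := exists_kproj K
  haveI : P.IsKProjective := hP
  have hP' : IsKFl P := isKFl_of_isKProjective P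
  let v := valueEv (tensorRightAdjunction M₀ N) L₀
  have hv : IsUniv v := isUniv_valueEv _ D.kflat (tensorRight_hyps D.kflat').1 (tensorRight_hyps D.kflat').2 L₀
  haveI := isIso_ε (A := A) (K := P) (L := L₀) (Or.inl hP')
  haveI := isIso_ε (A := A) (K := P) (L := L₀ ⊗ N) (Or.inl hP')
  have key : auxTen (DerivedCategory.Q.obj P) v ≫ (ε A).app (P, L₀) =
      tm ((ε A).app (P, L₀ ⊗ N) ≫ DerivedCategory.Q.map (α_ P L₀ N).inv) (𝟙 _) ≫
        valueEv (tensorRightAdjunction M₀ N) (P ⊗ L₀) := by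
    show ((DTen.associator _ _ _).hom ≫ tm _ ((ε A).app (L₀ ⊗ N, M₀) ≫ _)) ≫ _ = _
    rw [tm_comp_right, Category.assoc, Category.assoc, ε_natural_right]
    erw [associator_ε_assoc]
    rw [valueEv, tm_comp_left, Category.assoc]
    erw [ε_natural_left_assoc, ← Functor.map_comp, ← Functor.map_comp]
    congr 3
    exact coherence₁ P L₀ M₀ N
  have h₀ : IsUniv (auxTen (DerivedCategory.Q.obj P) v) := by
    have h := ((isUniv_valueEv (tensorRightAdjunction M₀ N) D.kflat (tensorRight_hyps D.kflat').1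
      (tensorRight_hyps D.kflat').2 (P ⊗ L₀)).of_iso
        (asIso ((ε A).app (P, L₀ ⊗ N) ≫ DerivedCategory.Q.map (α_ P L₀ N).inv))).comp_iso (inv ((ε A).app (P, L₀)))
    rwa [asIso_hom, ← key, Category.assoc, IsIso.hom_inv_id, Category.comp_id] at h
  -- compare `v` and `e`
  haveI := isIso_adjunct he
  haveI := isIso_adjunct hv
  let j : W ≅ DerivedCategory.Q.obj (L₀ ⊗ N) :=
    asIso (rhomHomEquiv W _ _ e) ≪≫ (asIso (rhomHomEquiv _ _ _ v)).symm
  have hj : tm j.hom (𝟙 _) ≫ v = e := by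
    apply (rhomHomEquiv W _ _).injective
    rw [adjunct_symm]
    simp [j]
  have h₁ := (h₀.of_iso ((LTen₂ A).mapIso (Iso.prod (Iso.refl (DerivedCategory.Q.obj P)) j))).of_iso
    ((LTen₂ A).mapIso (Iso.prod i.symm (Iso.refl W)))
  have h₂ := h₁.comp_iso (tm i.hom (𝟙 (DerivedCategory.Q.obj L₀)))
  have hfin : auxTen K e = (tm (tm i.inv (𝟙 W)) (𝟙 _) ≫ tm (tm (𝟙 _) j.hom) (𝟙 _) ≫
      auxTen (DerivedCategory.Q.obj P) v) ≫ tm i.hom (𝟙 _) := by
    rw [auxTen_comp, hj, tm_auxTen, Category.assoc, ← tm_comp_left, Iso.inv_hom_id, tm_id, Category.comp_id]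
  rw [hfin]
  exact h₂

theorem isIso_evalTen_source {M₀ N : DRing.Cx A} (D : Dualizable M₀ N) (K L : Dual.D A) :
    IsIso (evalTen K L (DerivedCategory.Q.obj M₀)) :=
  isIso_adjunct (isUniv_auxTen_source D K (isUniv_ev _ L))

theorem evalTen_natural_source (K L : Dual.D A) {M M' : Dual.D A} (g : M' ⟶ M) :
    evalTen K L M ≫ RHomMap g _ = tm (𝟙 K) (RHomMap g L) ≫ evalTen K L M' := by
  apply ((rhomAdj A M').homEquiv _ _).symm.injective
  simp only [Adjunction.homEquiv_counit]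
  show tm (evalTen K L M ≫ RHomMap g _) (𝟙 M') ≫ DTen.ev M' _ = tm (tm _ _ ≫ evalTen K L M') (𝟙 M') ≫ DTen.ev M' _
  rw [tm_comp_left_assoc, RHom_map_ev]
  erw [tm_exchange_assoc]
  rw [evalTen_fac, tm_comp_left_assoc, evalTen_fac]
  show tm (𝟙 _) g ≫ (DTen.associator _ _ _).hom ≫ tm _ _ = tm _ (𝟙 _) ≫ (DTen.associator _ _ _).hom ≫ tm _ _
  rw [associator_natural_assoc, ← tm_comp_right, RHom_map_ev, tm_comp_right]
  conv_lhs => rw [show tm (𝟙 ((LTen₂ A).obj (K, (RHomR A M).obj L))) g = tm (tm (𝟙 K) (𝟙 _)) g by rw [tm_id]]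
  rw [associator_natural_assoc]

theorem isIso_evalTen_of_iso_source (K L : Dual.D A) {M M' : Dual.D A} (g : M' ≅ M)
    [IsIso (evalTen K L M')] : IsIso (evalTen K L M) := by
  haveI : ∀ X, IsIso (RHomMap g.hom X) := fun X => inferInstanceAs (IsIso (((RHom A).map g.hom.op).app X))
  haveI : IsIso (evalTen K L M ≫ RHomMap g.hom _) := by
    rw [evalTen_natural_source]; infer_instance
  exact IsIso.of_isIso_comp_right _ (RHomMap g.hom _)

theorem isIso_evalTen_of_iso_left {K K' : Dual.D A} (i : K ≅ K') (L M : Dual.D A)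
    [IsIso (evalTen K L M)] : IsIso (evalTen K' L M) := by
  haveI : IsIso (rhomHomEquiv _ _ _ (auxTen K (DTen.ev M L))) := ‹IsIso (evalTen K L M)›
  have h : IsUniv (auxTen K (DTen.ev M L)) := IsUniv.of_adjunct (auxTen K (DTen.ev M L))
  have h₁ := (h.of_iso ((LTen₂ A).mapIso (Iso.prod i.symm (Iso.refl _)))).comp_iso (tm i.hom (𝟙 L))
  refine isIso_adjunct (a := auxTen K' (DTen.ev M L)) ?_
  have e : auxTen K' (DTen.ev M L) = (tm (tm i.inv (𝟙 _)) (𝟙 M) ≫ auxTen K (DTen.ev M L)) ≫ tm i.hom (𝟙 L) := by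
    rw [tm_auxTen, Category.assoc, ← tm_comp_left, Iso.inv_hom_id, tm_id, Category.comp_id]
  rw [e]
  exact h₁

end Groth.Agent.DTenLib
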