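import Groth.Agent.DTenLib.EvalLeft

/-!
# The evaluation into the double dual at perfect objects
-/

universe u

open CategoryTheory Limits MonoidalCategory HomologicalComplex DTen

namespace Groth.Agent.DTenLib

attribute [local instance] HasDerivedCategory.standard

set_option linter.style.haveILetI false

open Groth.Agent.DRingKFlat Groth.Agent.DRingTorAmp

variable {A : Type u} [CommRing A] [HasLTen A] [HasLTen₃ A] [IsSymMonoidal A] [HasRHom A]

/-- The composite whose adjunct is `evalHom`, for abstract evaluations. -/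
noncomputable def auxHom {K L M R W : Dual.D A} (v : (LTen₂ A).obj (K, W) ⟶ L)
    (e : (LTen₂ A).obj (R, L) ⟶ M) : (LTen₂ A).obj ((LTen₂ A).obj (R, K), W) ⟶ M :=
  (DTen.associator R K W).hom ≫ tm (𝟙 R) v ≫ e

lemma auxHom_congr_R {K L M R R' W : Dual.D A} (j : R' ⟶ R) (v : (LTen₂ A).obj (K, W) ⟶ L)
    (e : (LTen₂ A).obj (R, L) ⟶ M) :
    tm (tm j (𝟙 K)) (𝟙 W) ≫ auxHom v e = auxHom v (tm j (𝟙 L) ≫ e) := by
  rw [auxHom, auxHom, associator_natural_assoc, tm_id, tm_exchange_assoc]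

lemma auxHom_congr_W {K L M R W W' : Dual.D A} (j : W' ⟶ W) (v : (LTen₂ A).obj (K, W) ⟶ L)
    (e : (LTen₂ A).obj (R, L) ⟶ M) :
    tm (𝟙 ((LTen₂ A).obj (R, K))) j ≫ auxHom v e = auxHom (tm (𝟙 K) j ≫ v) e := by
  rw [auxHom, auxHom, ← tm_id R K, associator_natural_assoc, ← tm_comp_right_assoc]

lemma auxHom_congr_K {K K' L M R W : Dual.D A} (i : K' ⟶ K) (v : (LTen₂ A).obj (K, W) ⟶ L)
    (e : (LTen₂ A).obj (R, L) ⟶ M) :
    tm (tm (𝟙 R) i) (𝟙 W) ≫ auxHom v e = auxHom (tm i (𝟙 W) ≫ v) e := by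
  rw [auxHom, auxHom, associator_natural_assoc, ← tm_comp_right_assoc]

omit [HasRHom A] in
theorem adjRight_key {K N : DRing.Cx A} (D : Dualizable K N) {R : DRing.Cx A} (hR : IsKFl R) (L : DRing.Cx A) :
    tm ((adjRight D).counit.app (DerivedCategory.Q.obj R)) (𝟙 (DerivedCategory.Q.obj L)) ≫ (ε A).app (R, L) =
      (DTen.associator _ (DerivedCategory.Q.obj N) (DerivedCategory.Q.obj L)).hom ≫
        tm (𝟙 _) ((ε A).app (N, L)) ≫
          (DTen.associator (DerivedCategory.Q.obj R) (DerivedCategory.Q.obj K) (DerivedCategory.Q.obj (N ⊗ L))).hom ≫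
            tm (𝟙 _) ((ε A).app (K, N ⊗ L) ≫
              DerivedCategory.Q.map (letI := D.pairing'; (tensorLeftAdjunction N K).counit.app L)) ≫
              (ε A).app (R, L) := by
  letI := D.pairing'
  rw [adjRight_counit, tm_comp_right]
  simp only [tm_comp_left, Category.assoc]
  erw [ε_natural_right, associator_ε_assoc, ← tm_exchange_assoc]
  rw [← tm_id (DerivedCategory.Q.obj N) (DerivedCategory.Q.obj L)]
  erw [← associator_natural_assoc, associator_ε_assoc, ε_natural_left]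
  simp only [← Functor.map_comp]
  congr 4
  exact (coherence₃ K L R N).symm

/-- The evaluation `K ⊗ (N ⊗ L) ⟶ L`. -/
noncomputable def dualEv {K N : DRing.Cx A} (D : Dualizable K N) (L : DRing.Cx A) :
    (LTen₂ A).obj (DerivedCategory.Q.obj K, DerivedCategory.Q.obj (N ⊗ L)) ⟶ DerivedCategory.Q.obj L :=
  (ε A).app (K, N ⊗ L) ≫ DerivedCategory.Q.map (letI := D.pairing'; (tensorLeftAdjunction N K).counit.app L)

theorem isUniv_auxHom {K N : DRing.Cx A} (D : Dualizable K N) {R M : Dual.D A} (L : DRing.Cx A)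
    {e : (LTen₂ A).obj (R, DerivedCategory.Q.obj L) ⟶ M} (he : IsUniv e) :
    IsUniv (auxHom (dualEv D L) e) := by
  suffices h : ∀ (R : DRing.Cx A), IsKFl R → ∀ (e : (LTen₂ A).obj (DerivedCategory.Q.obj R, DerivedCategory.Q.obj L) ⟶ M),
      IsUniv e → IsUniv (auxHom (dualEv D L) e) by
    obtain ⟨P, hP, ⟨i⟩⟩ := exists_kproj R
    haveI : P.IsKProjective := hP
    have h' := (h P (isKFl_of_isKProjective P) _ (he.of_iso i)).of_iso
      ((LTen₂ A).mapIso (Iso.prod i.symm (Iso.refl (DerivedCategory.Q.obj K))))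
    have e' : auxHom (dualEv D L) e =
        tm (tm i.inv (𝟙 _)) (𝟙 _) ≫ auxHom (dualEv D L) (tm i.hom (𝟙 _) ≫ e) := by
      rw [auxHom_congr_R, ← tm_comp_left_assoc, Iso.inv_hom_id, tm_id, Category.id_comp]
    rw [e']
    exact h'
  intro R hR e he X
  haveI := isIso_ε (A := A) (K := R) (L := L) (Or.inl hR)
  haveI := isIso_ε (A := A) (K := N) (L := L) (Or.inl D.kflat')
  have key : ∀ g : X ⟶ (LTen₂ A).obj (DerivedCategory.Q.obj R, DerivedCategory.Q.obj K),
      tm (((adjRight D).homEquiv X _).symm g) (𝟙 _) ≫ e =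
        (DTen.associator X (DerivedCategory.Q.obj N) (DerivedCategory.Q.obj L)).hom ≫
          tm (𝟙 _) ((ε A).app (N, L)) ≫ tm g (𝟙 _) ≫ auxHom (dualEv D L) e := fun g => by
    rw [Adjunction.homEquiv_counit]
    show tm (tm g (𝟙 _) ≫ _) (𝟙 _) ≫ e = _
    rw [tm_comp_left, auxHom, dualEv, Category.assoc]
    have hk := congrArg (fun z => z ≫ inv ((ε A).app (R, L))) (adjRight_key D hR L)
    simp only [Category.assoc, IsIso.hom_inv_id, Category.comp_id] at hk
    erw [hk]
    simp only [Category.assoc]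
    erw [associator_natural_assoc]
    rw [tm_id, tm_exchange_assoc]
    rfl
  have efun : (fun g : X ⟶ (LTen₂ A).obj (DerivedCategory.Q.obj R, DerivedCategory.Q.obj K) =>
      tm g (𝟙 _) ≫ auxHom (dualEv D L) e) =
      (fun x => inv (tm (𝟙 X) ((ε A).app (N, L))) ≫ x) ∘
        (fun x => (DTen.associator X (DerivedCategory.Q.obj N) (DerivedCategory.Q.obj L)).inv ≫ x) ∘
        (fun x => tm x (𝟙 _) ≫ e) ∘ ((adjRight D).homEquiv X _).symm :=
    funext fun g => by
      show _ = inv _ ≫ _ ≫ tm (((adjRight D).homEquiv X _).symm g) (𝟙 _) ≫ e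
      rw [key g, Iso.inv_hom_id_assoc, IsIso.inv_hom_id_assoc]
      rfl
  rw [efun]
  exact ((asIso (tm (𝟙 X) ((ε A).app (N, L)))).homFromEquiv).bijective.comp
    (((DTen.associator X (DerivedCategory.Q.obj N) (DerivedCategory.Q.obj L)).homFromEquiv).bijective.comp
      ((he _).comp ((adjRight D).homEquiv X _).symm.bijective))

theorem evalHomAux_eq (K L M : Dual.D A) :
    evalHomAux K L M = auxHom ((DTen.symm A).app ((RHomR A K).obj L, K) ≫ DTen.ev K L) (DTen.ev L M) := rfl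

theorem isUniv_evalHomAux {E N : DRing.Cx A} (D : Dualizable E N) {K : Dual.D A}
    (i : DerivedCategory.Q.obj E ≅ K) (L : DRing.Cx A) (M : Dual.D A) :
    IsUniv (evalHomAux K (DerivedCategory.Q.obj L) M) := by
  letI := D.pairing'
  let σ : tensorLeft E ≅ tensorRight E := NatIso.ofComponents (fun X => braidCx E X)
    (fun {X Y} g => by simpa using braidCx_naturality (𝟙 E) g)
  let adj := (tensorLeftAdjunction N E).ofNatIsoLeft σ
  let v := valueEv adj L
  have hv : IsUniv v := isUniv_valueEv adj D.kflat (tensorLeft_hyps D.kflat').1 (tensorLeft_hyps D.kflat').2 L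
  haveI := isIso_adjunct hv
  -- the comparison of `Q(N ⊗ L)` with `RHom(K, L)`
  let j : DerivedCategory.Q.obj (N ⊗ L) ≅ (RHomR A K).obj (DerivedCategory.Q.obj L) :=
    @asIso _ _ _ _ (rhomHomEquiv _ _ _ v) (isIso_adjunct hv) ≪≫ ((RHom A).mapIso i.symm.op).app (DerivedCategory.Q.obj L)
  have hj : tm j.hom i.hom ≫ DTen.ev K (DerivedCategory.Q.obj L) = v := by
    have h1 := RHom_map_ev i.inv (M := DerivedCategory.Q.obj L)
    show tm (rhomHomEquiv _ _ _ v ≫ RHomMap i.inv _) i.hom ≫ _ = v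
    rw [← Category.comp_id i.hom, tm_comp_assoc]
    erw [h1]
    rw [← tm_comp_assoc, Category.comp_id, Iso.hom_inv_id]
    exact tm_adjunct v
  have hd : tm i.hom j.hom ≫ (DTen.symm A).app ((RHomR A K).obj (DerivedCategory.Q.obj L), K) ≫
      DTen.ev K (DerivedCategory.Q.obj L) = dualEv D L := by
    have hn := (DTen.symm A).naturality
      (X := (DerivedCategory.Q.obj (N ⊗ L), DerivedCategory.Q.obj E))
      (Y := ((RHomR A K).obj (DerivedCategory.Q.obj L), K)) (Prod.mkHom j.hom i.hom)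
    erw [reassoc_of% hn, hj]
    show (DTen.symm A).app _ ≫ (ε A).app (N ⊗ L, E) ≫ _ = _
    erw [reassoc_of% (DTen.symm_fac (A := A) (N ⊗ L) E)]
    rw [dualEv, ← Functor.map_comp]
    congr 2
    simp [adj, σ, Adjunction.ofNatIsoLeft, Adjunction.mkOfHomEquiv, Adjunction.equivHomsetLeftOfNatIso]
  intro X
  have h := ((isUniv_auxHom D L (isUniv_ev (DerivedCategory.Q.obj L) M)).of_iso
    ((LTen₂ A).mapIso (Iso.prod (Iso.refl ((RHomR A (DerivedCategory.Q.obj L)).obj M)) i.symm))) X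
  have efun : (fun g : X ⟶ (LTen₂ A).obj ((RHomR A (DerivedCategory.Q.obj L)).obj M, K) =>
      tm g (𝟙 _) ≫ evalHomAux K (DerivedCategory.Q.obj L) M) =
      (fun x => inv (tm (𝟙 X) j.hom) ≫ x) ∘ fun g => tm g (𝟙 _) ≫ tm (tm (𝟙 _) i.inv) (𝟙 _) ≫
        auxHom (dualEv D L) (DTen.ev (DerivedCategory.Q.obj L) M) := funext fun g => by
    show _ = inv _ ≫ _
    rw [IsIso.eq_inv_comp, evalHomAux_eq, ← tm_exchange_assoc, auxHom_congr_W, auxHom_congr_K, ← hd,
      ← tm_comp_assoc, Category.id_comp, Iso.inv_hom_id]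
  rw [efun]
  exact ((asIso (tm (𝟙 X) j.hom)).homFromEquiv).bijective.comp h

theorem isIso_evalHom {K : Dual.D A} (hK : DRing.IsPerfect A K) (L M : Dual.D A) :
    IsIso (evalHom K L M) := by
  obtain ⟨E, N, ⟨D⟩, ⟨e⟩⟩ := exists_dualizable hK
  obtain ⟨L₀, rfl⟩ := Q_obj_surjective L
  exact isIso_adjunct (isUniv_evalHomAux D e L₀ M)

end Groth.Agent.DTenLib
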