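import Groth.Agent.DTenLib.Amp
import Groth.Agent.DTenLib.Eval
import Groth.Agent.DTenLib.EvalHom
import Groth.Agent.DRingKProj.PCIff
import Mathlib.Algebra.Homology.HomotopyCategory.KInjective
import Mathlib.Algebra.Homology.DerivedCategory.KInjective

/-!
# Evaluation maps at pseudo-coherent objects
-/

universe u

open CategoryTheory Limits MonoidalCategory HomologicalComplex DTen Pretriangulated

namespace Groth.Agent.DTenLib

attribute [local instance] HasDerivedCategory.standard

set_option linter.style.haveILetI false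

open Groth.Agent.DRingKFlat Groth.Agent.DRingTorAmp

variable {A : Type u} [CommRing A]

set_option quotPrecheck false in
local notation "H" => DerivedCategory.homologyFunctor (ModuleCat A)

theorem isLE_cone {X Y C : Dual.D A} {g : X ⟶ Y} {g' : Y ⟶ C} {δ : C ⟶ X⟦(1 : ℤ)⟧}
    (hT : Triangle.mk g g' δ ∈ distTriang _) {m : ℤ} (hg : DRingKProj.IsoAbove m g) :
    C.IsLE (m - 1) := by
  rw [DerivedCategory.isLE_iff]
  exact fun i hi => (DRingKProj.isoAbove_mor₁_iff _ hT m).1 hg i (by omega)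

theorem isGE_cone {X Y C : Dual.D A} {g : X ⟶ Y} {g' : Y ⟶ C} {δ : C ⟶ X⟦(1 : ℤ)⟧}
    (hT : Triangle.mk g g' δ ∈ distTriang _) {n : ℤ} (hg : ∀ i, i < n → IsIso ((H i).map g)) :
    C.IsGE (n - 1) := by
  rw [DerivedCategory.isGE_iff]
  intro i hi
  haveI := hg i (by omega)
  haveI := hg (i + 1) (by omega)
  have h2 := (DerivedCategory.HomologySequence.epi_homologyMap_mor₁_iff _ hT i).1
    (inferInstanceAs (Epi ((H i).map g)))
  have hδ := (DerivedCategory.HomologySequence.mono_homologyMap_mor₁_iff _ hT i (i + 1) rfl).1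
    (inferInstanceAs (Mono ((H (i + 1)).map g)))
  exact @IsZero.of_epi_eq_zero _ _ _ _ _ _
    ((DerivedCategory.HomologySequence.epi_homologyMap_mor₂_iff _ hT i (i + 1) rfl).2 hδ) h2

/-- Precomposition into an object in high degrees. -/
theorem bijective_precomp_ge {X Y M : Dual.D A} {g : X ⟶ Y} {m n : ℤ} (hg : DRingKProj.IsoAbove m g)
    [M.IsGE n] (h : m < n) : Function.Bijective fun f : Y ⟶ M => g ≫ f :=
  bijective_precomp g fun C _ _ hT => by
    haveI := isLE_cone hT hg
    haveI : (C⟦(-1 : ℤ)⟧).IsLE m :=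
      DerivedCategory.TStructure.t.isLE_shift C (m - 1) (-1) m (by omega)
    exact ⟨fun f => DerivedCategory.TStructure.t.zero f (m - 1) n (by omega),
      fun f => DerivedCategory.TStructure.t.zero f m n h⟩

/-- No maps from high degrees into a complex of injectives concentrated in low degrees. -/
theorem eq_zero_of_injective {E : DRing.Cx A} {a b : ℤ} (hE : DRing.VanishesOutside E a b)
    (hI : DRing.TermwiseInjective E) {M X : Dual.D A} (e : DRing.toD E ≅ M) [X.IsGE (b + 1)]
    (f : X ⟶ M) : f = 0 := by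
  haveI : CochainComplex.IsStrictlyGE E a := by
    rw [CochainComplex.isStrictlyGE_iff]
    exact fun i hi => hE i (Or.inl hi)
  haveI : ∀ n, Injective (E.X n) := fun n => (Module.injective_iff_injective_object A (E.X n)).1 (hI n)
  haveI := CochainComplex.isKInjective_of_injective E a
  obtain ⟨X', hX', ⟨i⟩⟩ := DerivedCategory.exists_iso_Q_obj_of_isGE X (b + 1)
  haveI := hX'
  suffices h : ∀ k : DerivedCategory.Q.obj X' ⟶ DRing.toD E, k = 0 by
    have := h (i.inv ≫ f ≫ e.inv)
    rwa [Preadditive.IsIso.comp_left_eq_zero, Preadditive.IsIso.comp_right_eq_zero] at this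
  intro k
  let iso := DerivedCategory.quotientCompQhIso (ModuleCat.{u} A)
  obtain ⟨f', hf'⟩ := (CochainComplex.IsKInjective.Qh_map_bijective
    ((HomotopyCategory.quotient _ _).obj X') E).surjective (iso.hom.app X' ≫ k ≫ iso.inv.app E)
  obtain ⟨f₀, rfl⟩ := (HomotopyCategory.quotient _ _).map_surjective f'
  have hz : f₀ = 0 := HomologicalComplex.hom_ext _ _ fun n => by
    by_cases hn : b < n
    · exact (hE n (Or.inr hn)).eq_of_tgt _ _
    · exact (CochainComplex.isZero_of_isStrictlyGE X' (b + 1) n (by omega)).eq_of_src _ _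
  rw [hz, Functor.map_zero, Functor.map_zero] at hf'
  exact ((Preadditive.IsIso.comp_right_eq_zero _ _).1
    ((Preadditive.IsIso.comp_left_eq_zero _ _).1 hf'.symm))

section Main

variable [HasLTen A] [HasLTen₃ A] [IsSymMonoidal A] [HasRHom A]

theorem bijective_RHomMap_test {E K M Z : Dual.D A} (g : E ⟶ K)
    (h : Function.Bijective fun f : (LTen₂ A).obj (Z, K) ⟶ M => tm (𝟙 Z) g ≫ f) :
    Function.Bijective fun t : Z ⟶ (RHomR A K).obj M => t ≫ RHomMap g M := by
  have e : (fun t : Z ⟶ (RHomR A K).obj M => t ≫ RHomMap g M) =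
      (rhomHomEquiv Z E M) ∘ (fun f => tm (𝟙 Z) g ≫ f) ∘ (rhomHomEquiv Z K M).symm := funext fun t => by
    apply (rhomHomEquiv Z E M).symm.injective
    rw [Function.comp_apply, Equiv.symm_apply_apply]
    show ((rhomAdj A E).homEquiv Z M).symm _ = tm (𝟙 Z) g ≫ ((rhomAdj A K).homEquiv Z M).symm t
    simp only [Adjunction.homEquiv_counit]
    show tm (t ≫ RHomMap g M) (𝟙 E) ≫ _ = tm (𝟙 Z) g ≫ tm t (𝟙 K) ≫ _
    rw [tm_comp_left_assoc, RHom_map_ev, ← tm_exchange_assoc]
  rw [e]
  exact (rhomHomEquiv Z E M).bijective.comp (h.comp (rhomHomEquiv Z K M).symm.bijective)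

/-- `RHom` into an object in high degrees only depends on the source in high degrees. -/
theorem isIso_H_RHomMap {E K : Dual.D A} {g : E ⟶ K} {m n : ℤ} (hg : DRingKProj.IsoAbove m g)
    (M : Dual.D A) [M.IsGE n] {i : ℤ} (hi : i + m + 1 < n) : IsIso ((H i).map (RHomMap g M)) := by
  refine isIso_H_of_bijective _ (bijective_RHomMap_test g ?_)
  refine bijective_precomp_ge (m := i + m + 1) (n := n) ⟨fun j hj => ?_, ?_⟩ hi
  · exact isIso_H_tm_above (isKFl_sgl i) (sgl_above i) hg (by omega)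
  · haveI := isIso_H_tm_above (A := A) (isKFl_sgl i) (sgl_above i) hg (i := i + m + 1) (by omega)
    infer_instance

theorem exists_perfect_approx {K : Dual.D A} (hK : DRing.IsPseudoCoherent' A K) (m : ℤ) :
    ∃ (E : Dual.D A) (g : E ⟶ K), DRing.IsPerfect A E ∧ DRingKProj.IsoAbove m g := by
  obtain ⟨E, b, α, hE, hf, hα⟩ :=
    DRingKProj.exists_witness (DRingKProj.isPseudoCoherent_of_pseudoCoherent' hK m)
  refine ⟨_, α, ⟨E, m, b, hE, fun i => ?_, ⟨Iso.refl _⟩⟩, hα⟩
  haveI := (hf i).2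
  exact ⟨(hf i).1, inferInstance⟩

theorem isIso_evalTen_perfect {E : Dual.D A} (hE : DRing.IsPerfect A E) (S M : Dual.D A) :
    IsIso (evalTen S M E) := by
  obtain ⟨E₀, N, ⟨D⟩, ⟨i⟩⟩ := exists_dualizable hE
  haveI := isIso_evalTen_source D S M
  exact isIso_evalTen_of_iso_source S M i

/-- `K ⊗ RHom(P, L) = RHom(P, K ⊗ L)` for `K` of finite flat amplitude, `L` bounded below, `P` pseudo-coherent. -/
theorem isIso_evalTen_of_pseudoCoherent {S M K : Dual.D A} {a b : ℤ}
    (hS : DRing.HasTorAmplitudeIn A a b S) (hK : DRing.IsPseudoCoherent' A K) (n : ℤ) [M.IsGE n] :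
    IsIso (evalTen S M K) := by
  obtain ⟨F, hF, hFf, ⟨i₀⟩⟩ := hS
  have hFk : IsKFl F := isKFl_of_flat (fun p hp => hF p (Or.inr hp)) hFf
  suffices h : IsIso (evalTen (DerivedCategory.Q.obj F) M K) from isIso_evalTen_of_iso_left i₀ M K
  refine isIso_of_H _ fun i => ?_
  obtain ⟨E, g, hE, hg⟩ := exists_perfect_approx hK (a + n - i - 4)
  haveI : ((LTen₂ A).obj (DerivedCategory.Q.obj F, M)).IsGE (a + n) :=
    isGE_tensor hFk (fun p hp => hF p (Or.inl hp)) M
  haveI := isIso_H_RHomMap hg ((LTen₂ A).obj (DerivedCategory.Q.obj F, M)) (n := a + n) (i := i) (by omega)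
  haveI : IsIso ((H i).map (tm (𝟙 (DerivedCategory.Q.obj F)) (RHomMap g M))) :=
    isIso_H_tm_below hFk (fun p hp => hF p (Or.inl hp)) (n := i - a + 2)
      (fun j hj => isIso_H_RHomMap hg M (n := n) (by omega)) (by omega)
  haveI := isIso_evalTen_perfect hE (DerivedCategory.Q.obj F) M
  have h := congrArg (H i).map (evalTen_natural_source (DerivedCategory.Q.obj F) M g)
  simp only [Functor.map_comp] at h
  haveI : IsIso ((H i).map (evalTen (DerivedCategory.Q.obj F) M K) ≫
      (H i).map (RHomMap g ((LTen₂ A).obj (DerivedCategory.Q.obj F, M)))) := by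
    rw [h]
    infer_instance
  exact IsIso.of_isIso_comp_right _ ((H i).map (RHomMap g ((LTen₂ A).obj (DerivedCategory.Q.obj F, M))))

theorem evalHom_natural_source {E K : Dual.D A} (g : E ⟶ K) (L M : Dual.D A) :
    tm (𝟙 ((RHomR A L).obj M)) g ≫ evalHom K L M = evalHom E L M ≫ RHomMap (RHomMap g L) M := by
  apply ((rhomAdj A ((RHomR A K).obj L)).homEquiv _ _).symm.injective
  simp only [Adjunction.homEquiv_counit]
  show tm (tm _ g ≫ evalHom K L M) (𝟙 _) ≫ _ = tm (evalHom E L M ≫ RHomMap _ M) (𝟙 _) ≫ _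
  rw [tm_comp_left_assoc, tm_comp_left_assoc, RHom_map_ev, evalHom_fac]
  erw [tm_exchange_assoc]
  rw [evalHom_fac, evalHomAux_eq, evalHomAux_eq, auxHom_congr_K, auxHom_congr_W]
  congr 1
  have h1 := (DTen.symm A).naturality (X := ((RHomR A K).obj L, E)) (Y := ((RHomR A K).obj L, K))
    (Prod.mkHom (𝟙 _) g)
  have h2 := (DTen.symm A).naturality (X := ((RHomR A K).obj L, E)) (Y := ((RHomR A E).obj L, E))
    (Prod.mkHom (RHomMap g L) (𝟙 _))
  erw [reassoc_of% h1, reassoc_of% h2]
  congr 1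
  exact (RHom_map_ev g L).symm

theorem isIso_evalHom_of_pseudoCoherent {K L M : Dual.D A} (hK : DRing.IsPseudoCoherent' A K) (n : ℤ)
    [L.IsGE n] (hM : DRing.HasFiniteInjDim A M) : IsIso (evalHom K L M) := by
  obtain ⟨a, b, I, hI, hIi, ⟨e⟩⟩ := hM
  have hz : ∀ (X : Dual.D A) (k : ℤ), b < k → X.IsGE k → ∀ f : X ⟶ M, f = 0 := fun X k hk hX f => by
    haveI : X.IsGE (b + 1) := DerivedCategory.TStructure.t.isGE_of_ge X (b + 1) k (by omega)
    exact eq_zero_of_injective hI hIi e f
  -- `RHom(L, M)` is bounded above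
  have hW : ∀ i, b - n < i → IsZero ((H i).obj ((RHomR A L).obj M)) := fun i hi => by
    refine isZero_H_of_subsingleton _ ⟨fun f f' => ?_⟩
    apply (rhomHomEquiv _ L M).symm.injective
    haveI : ((LTen₂ A).obj (DerivedCategory.Q.obj (sgl A i), L)).IsGE (i + n) :=
      isGE_tensor (isKFl_sgl i) (fun p hp => sgl_outside i p hp.ne) L
    exact (hz _ (i + n) (by omega) ‹_› _).trans (hz _ (i + n) (by omega) ‹_› _).symm
  obtain ⟨W₀, hW₀⟩ := Q_obj_surjective ((RHomR A L).obj M)
  obtain ⟨P, π, hP, hπ, -, hPb⟩ := DRingKProj.exists_resolution_of_exactAt (K := W₀) (S := fun j => j ≤ b - n)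
    (fun j hj => by
      rw [exactAt_iff_isZero_homology]
      refine (hW j (by omega)).of_iso ?_
      exact ((DerivedCategory.homologyFunctorFactors _ j).app W₀).symm ≪≫ (H j).mapIso (eqToIso hW₀))
    (fun j hj => by omega)
  haveI := hP
  haveI : IsIso (DerivedCategory.Q.map π) := (DerivedCategory.isIso_Q_map_iff_quasiIso _ π).2 hπ
  let w : DerivedCategory.Q.obj P ⟶ (RHomR A L).obj M := DerivedCategory.Q.map π ≫ eqToHom hW₀
  refine isIso_of_H _ fun i => ?_
  obtain ⟨m, hm₁, hm₂⟩ : ∃ m, b - n + m + 1 < i ∧ b + 4 + m - n < i := ⟨-|b - n| - |i| - |b + 4 - n| - 2,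
    by
      have := le_abs_self (b - n); have := neg_abs_le i; have := abs_nonneg (b + 4 - n)
      omega, by
      have := le_abs_self (b + 4 - n); have := neg_abs_le i; have := abs_nonneg (b - n)
      omega⟩
  obtain ⟨E, g, hE, hg⟩ := exists_perfect_approx hK m
  haveI : IsIso ((H i).map (tm (𝟙 ((RHomR A L).obj M)) g)) := by
    haveI := isIso_H_tm_above (A := A) (isKFl_of_isKProjective P) (c := b - n) (fun p hp => hPb p (by omega))
      hg (i := i) (by omega)
    have h := congrArg (H i).map (tm_exchange w g)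
    simp only [Functor.map_comp] at h
    haveI : IsIso ((H i).map (tm w (𝟙 E)) ≫ (H i).map (tm (𝟙 ((RHomR A L).obj M)) g)) := by
      first
        | (rw [h]; infer_instance)
        | (rw [← h]; infer_instance)
    exact IsIso.of_isIso_comp_left ((H i).map (tm w (𝟙 E))) _
  haveI : IsIso ((H i).map (RHomMap (RHomMap g L) M)) := by
    refine isIso_H_of_bijective _ (bijective_RHomMap_test _ ?_)
    refine bijective_precomp _ fun C g' δ hT => ?_
    haveI : C.IsGE (i + (n - m - 1) - 1 - 1) := isGE_cone hT fun j hj =>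
        isIso_H_tm_below (isKFl_sgl i) (fun p hp => sgl_outside i p hp.ne) (n := n - m - 1)
          (fun k hk => isIso_H_RHomMap hg L (n := n) (by omega)) (by omega)
    haveI : C.IsGE (b + 1) :=
      DerivedCategory.TStructure.t.isGE_of_ge C (b + 1) (i + (n - m - 1) - 1 - 1) (by omega)
    haveI : (C⟦(-1 : ℤ)⟧).IsGE (b + 2) :=
      DerivedCategory.TStructure.t.isGE_shift C (b + 1) (-1) (b + 2) (by omega)
    exact ⟨fun f => hz C (b + 1) (by omega) ‹_› f, fun f => hz _ (b + 2) (by omega) ‹_› f⟩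
  haveI := isIso_evalHom hE L M
  have h := congrArg (H i).map (evalHom_natural_source g L M)
  simp only [Functor.map_comp] at h
  haveI : IsIso ((H i).map (tm (𝟙 ((RHomR A L).obj M)) g) ≫ (H i).map (evalHom K L M)) := by
    rw [h]
    infer_instance
  exact IsIso.of_isIso_comp_left ((H i).map (tm (𝟙 ((RHomR A L).obj M)) g)) _

end Main

end Groth.Agent.DTenLib
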