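import Mathlib.Algebra.Homology.Additive
import Mathlib.Algebra.Homology.HomotopyCategory.KProjective
import Mathlib.CategoryTheory.Preadditive.AdditiveFunctor

/-!
# Adjunctions on cochain complexes
-/

universe v v' u u'

open CategoryTheory Limits HomologicalComplex

namespace Groth.Agent.DTenLib

variable {C : Type u} [Category.{v} C] [Preadditive C] {D : Type u'} [Category.{v'} D] [Preadditive D]
  {ι : Type*} {c : ComplexShape ι} {F : C ⥤ D} {G : D ⥤ C} [F.Additive] [G.Additive] (adj : F ⊣ G)

/-- The termwise adjunction. -/
noncomputable def mapAdj : F.mapHomologicalComplex c ⊣ G.mapHomologicalComplex c :=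
  Adjunction.mkOfUnitCounit
    { unit :=
        { app := fun K =>
            { f := fun i => adj.unit.app (K.X i)
              comm' := fun i j _ => (adj.unit.naturality (K.d i j)).symm }
          naturality := fun _ _ f => HomologicalComplex.hom_ext _ _ fun i => adj.unit.naturality (f.f i) }
      counit :=
        { app := fun K =>
            { f := fun i => adj.counit.app (K.X i)
              comm' := fun i j _ => (adj.counit.naturality (K.d i j)).symm }
          naturality := fun _ _ f => HomologicalComplex.hom_ext _ _ fun i => adj.counit.naturality (f.f i) }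
      left_triangle := by ext K i; simp; exact adj.left_triangle_components (K.X i)
      right_triangle := by ext K i; simp; exact adj.right_triangle_components (K.X i) }

/-- Homotopies pass to adjuncts. -/
theorem adjunct_homotopy {K : HomologicalComplex C c} {L : HomologicalComplex D c}
    {f g : (F.mapHomologicalComplex c).obj K ⟶ L}
    (h : Homotopy ((mapAdj (c := c) adj).homEquiv _ _ f) ((mapAdj (c := c) adj).homEquiv _ _ g)) :
    Nonempty (Homotopy f g) :=
  ⟨(Homotopy.ofEq ((((mapAdj (c := c) adj).homEquiv _ _).symm_apply_apply f).symm.trans
      ((mapAdj (c := c) adj).homEquiv_counit _ _ _))).trans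
    (((F.mapHomotopy h).compRight ((mapAdj (c := c) adj).counit.app L)).trans
      (Homotopy.ofEq (((mapAdj (c := c) adj).homEquiv_counit _ _ _).symm.trans
        (((mapAdj (c := c) adj).homEquiv _ _).symm_apply_apply g))))⟩

end Groth.Agent.DTenLib
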