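import Groth.Agent.DTenLib.Core
import Groth.Agent.DTenLib.MapAdj
import Groth.Agent.DCohBridge.RingBC
import Groth.Prelude.Def_DTen4

/-!
# Derived base change and the mixed tensor product on K-flat complexes
-/

universe u

open CategoryTheory Limits MonoidalCategory HomologicalComplex

namespace Groth.Agent.DTenLib

attribute [local instance] HasDerivedCategory.standard

set_option linter.style.haveILetI false

open Groth.Agent.DRingKFlat Groth.Agent.DRingTorAmp

variable {R A : Type u} [CommRing R] [CommRing A] (φ : R →+* A)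

/-- `extCx ⊣ resCx` -/
noncomputable abbrev cxAdj : DTen.extCx φ ⊣ DTen.resCx φ :=
  mapAdj (ModuleCat.extendRestrictScalarsAdj.{u, u, u} φ)

theorem acyclic_res {F : DRing.Cx A} (hF : F.Acyclic) : ((DTen.resCx φ).obj F).Acyclic := fun i =>
  (hF i).map (ModuleCat.restrictScalars.{u} φ)

theorem isKProjective_ext (P : DRing.Cx R) [P.IsKProjective] : ((DTen.extCx φ).obj P).IsKProjective where
  nonempty_homotopy_zero {L} f hL := by
    obtain ⟨h⟩ := CochainComplex.IsKProjective.nonempty_homotopy_zero ((cxAdj φ).homEquiv _ _ f) (acyclic_res φ hL)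
    refine adjunct_homotopy (ModuleCat.extendRestrictScalarsAdj.{u, u, u} φ) (h.trans (Homotopy.ofEq ?_))
    rw [Adjunction.homEquiv_unit, Functor.map_zero, comp_zero]

theorem baseγ_eq [DTen.HasLBase φ] (K : DRing.Cx R) {L : DRing.Cx A} (g : (DTen.extCx φ).obj K ⟶ L) :
    (DTen.baseγ φ).app K ≫ (DRing.restrictD φ).map (DerivedCategory.Q.map g) =
      DerivedCategory.Q.map ((cxAdj φ).homEquiv _ _ g) ≫ (DTen.resFactors φ).inv.app L := by
  have h := (DTen.resFactors φ).inv.naturality g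
  dsimp at h
  dsimp [DTen.baseγ]
  rw [Category.assoc]
  erw [← h, ← Category.assoc, ← Functor.map_comp]
  rfl

theorem isIso_baseCmp_kproj [DTen.HasLBase φ] (P : DRing.Cx R) [P.IsKProjective] :
    IsIso ((DTen.baseCmp φ).app P) := by
  haveI := isKProjective_ext φ P
  refine isIso_of_coyoneda_map_bijective _ fun Y => ?_
  obtain ⟨L, ⟨e⟩⟩ : ∃ L : DRing.Cx A, Nonempty (DerivedCategory.Q.obj L ≅ Y) :=
    ⟨_, ⟨DerivedCategory.Q.objObjPreimageIso Y⟩⟩
  have key : ∀ g : (DTen.extCx φ).obj P ⟶ L,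
      (DTen.baseAdj φ).homEquiv _ _ ((DTen.baseCmp φ).app P ≫ DerivedCategory.Q.map g ≫ e.hom) =
        DerivedCategory.Q.map ((cxAdj φ).homEquiv _ _ g) ≫ (DTen.resFactors φ).inv.app L ≫
          (DRing.restrictD φ).map e.hom := fun g => by
    rw [Adjunction.homEquiv_unit, Functor.map_comp, Functor.map_comp, reassoc_of% DTen.baseCmp_fac φ P,
      reassoc_of% baseγ_eq φ P g]
  have hrepr : ∀ x : DerivedCategory.Q.obj ((DTen.extCx φ).obj P) ⟶ Y,
      ∃ g : (DTen.extCx φ).obj P ⟶ L, DerivedCategory.Q.map g ≫ e.hom = x := fun x => by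
    obtain ⟨g, hg⟩ := DRingComplete.exists_Q_map_eq ((DTen.extCx φ).obj P) L (x ≫ e.inv)
    exact ⟨g, by rw [hg, Category.assoc, Iso.inv_hom_id, Category.comp_id]⟩
  constructor
  · intro x y hxy
    obtain ⟨g, rfl⟩ := hrepr x
    obtain ⟨g', rfl⟩ := hrepr y
    have h := congrArg ((DTen.baseAdj φ).homEquiv _ _) hxy
    erw [key g, key g'] at h
    rw [cancel_mono] at h
    obtain ⟨t⟩ := homotopy_of_Q_eq h
    obtain ⟨t'⟩ := adjunct_homotopy (ModuleCat.extendRestrictScalarsAdj.{u, u, u} φ) t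
    rw [DerivedCategory.Q_map_eq_of_homotopy (ModuleCat.{u} A) t']
  · intro m
    obtain ⟨g, hg⟩ := DRingComplete.exists_Q_map_eq P ((DTen.resCx φ).obj L)
      ((DTen.baseAdj φ).homEquiv _ _ m ≫ (DRing.restrictD φ).map e.inv ≫ (DTen.resFactors φ).hom.app L)
    refine ⟨DerivedCategory.Q.map (((cxAdj φ).homEquiv _ _).symm g) ≫ e.hom,
      ((DTen.baseAdj φ).homEquiv _ _).injective ?_⟩
    dsimp only
    erw [key]
    rw [Equiv.apply_symm_apply, hg]
    simp

theorem isIso_Q_ext_map {K L : DRing.Cx R} (f : K ⟶ L) [QuasiIso f] (hK : IsKFl K) (hL : IsKFl L) :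
    IsIso (DerivedCategory.Q.map ((DTen.extCx φ).map f)) :=
  (DerivedCategory.isIso_Q_map_iff_quasiIso _ _).2
    (quasiIso_map (ModuleCat.extendScalars.{u, u, u} φ) (fun _ h hac => acyclic_baseChange φ h hac) hK hL f)

theorem isIso_baseCmp [DTen.HasLBase φ] {K : DRing.Cx R} (hK : IsKFl K) : IsIso ((DTen.baseCmp φ).app K) := by
  obtain ⟨P, p, hP, hp, -⟩ := DRingKProj.exists_resolution K
  haveI := hP; haveI := hp
  haveI := isIso_baseCmp_kproj φ P
  haveI := isIso_Q_ext_map φ p (isKFl_of_isKProjective P) hK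
  haveI : IsIso (DerivedCategory.Q.map p) := (DerivedCategory.isIso_Q_map_iff_quasiIso _ _).2 hp
  haveI : IsIso ((DerivedCategory.Q ⋙ DTen.LBase φ).map p) :=
    inferInstanceAs (IsIso ((DTen.LBase φ).map (DerivedCategory.Q.map p)))
  haveI : IsIso ((DerivedCategory.Q ⋙ DTen.LBase φ).map p ≫ (DTen.baseCmp φ).app K) := by
    rw [(DTen.baseCmp φ).naturality p]
    exact IsIso.comp_isIso' ‹IsIso ((DTen.baseCmp φ).app P)› ‹IsIso (DerivedCategory.Q.map ((DTen.extCx φ).map p))›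
  exact IsIso.of_isIso_comp_left ((DerivedCategory.Q ⋙ DTen.LBase φ).map p) _

/-- Pairs of K-projective complexes over two rings. -/
def KPrMix : ObjectProperty (DRing.Cx R × DRing.Cx A) := fun X => KPr R X.1 ∧ KPr A X.2

theorem liftableMix : Liftable (DTen.QMix R A) (DTen.mix₂ φ) (KPrMix (R := R) (A := A)) where
  res X := by
    obtain ⟨P, hP, ⟨e⟩⟩ := exists_kproj X.1
    obtain ⟨P', hP', ⟨e'⟩⟩ := exists_kproj X.2
    exact ⟨(P, P'), ⟨hP, hP'⟩, ⟨Iso.prod e e'⟩⟩
  lift {Y Z} hY g := by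
    haveI : Y.1.IsKProjective := hY.1
    haveI : Y.2.IsKProjective := hY.2
    obtain ⟨f, hf⟩ := DRingComplete.exists_Q_map_eq Y.1 Z.1 g.1
    obtain ⟨f', hf'⟩ := DRingComplete.exists_Q_map_eq Y.2 Z.2 g.2
    exact ⟨Prod.mkHom f f', Prod.ext hf hf'⟩
  eq {Y Z} a b hY h := by
    haveI : Y.1.IsKProjective := hY.1
    haveI : Y.2.IsKProjective := hY.2
    obtain ⟨t⟩ := homotopy_of_Q_eq (congrArg Prod.fst h)
    obtain ⟨t'⟩ := homotopy_of_Q_eq (congrArg Prod.snd h)
    show DerivedCategory.Q.map ((DTen.extCx φ).map a.1 ▷ _ ≫ _ ◁ a.2) =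
      DerivedCategory.Q.map ((DTen.extCx φ).map b.1 ▷ _ ≫ _ ◁ b.2)
    rw [Functor.map_comp, Functor.map_comp,
      tensor_homotopy₁ ((ModuleCat.extendScalars.{u, u, u} φ).mapHomotopy t), tensor_homotopy₂ _ t']

theorem hasLTenMix : DTen.HasLTenMix φ := (liftableMix φ).hasLeftDerivedFunctor

/-- The counit of the mixed tensor product at a K-flat first variable. -/
theorem isIso_εMix [DTen.HasLTenMix φ] {K : DRing.Cx R} (hK : IsKFl K) (N : DRing.Cx A) :
    IsIso ((DTen.εMix φ).app (K, N)) := by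
  obtain ⟨P, p, hP, hp, -⟩ := DRingKProj.exists_resolution K
  obtain ⟨P', q, hP', hq, -⟩ := DRingKProj.exists_resolution N
  haveI := hP; haveI := hP'; haveI := hp; haveI := hq
  haveI : QuasiIso ((DTen.extCx φ).map p) :=
    quasiIso_map (ModuleCat.extendScalars.{u, u, u} φ) (fun _ h hac => acyclic_baseChange φ h hac)
      (isKFl_of_isKProjective P) hK p
  haveI : QuasiIso ((DTen.extCx φ).map p ▷ P' ≫ (DTen.extCx φ).obj K ◁ q) :=
    quasiIso_tensor_left _ q (DCohBridge.isKFlat_baseChange φ (isKFl_of_isKProjective P))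
      (isKFl_of_isKProjective P') (DCohBridge.isKFlat_baseChange φ hK)
  let f : ((P, P') : DRing.Cx R × DRing.Cx A) ⟶ (K, N) := Prod.mkHom p q
  haveI : IsIso ((DTen.mix₂ φ).map f) :=
    (DerivedCategory.isIso_Q_map_iff_quasiIso _
      ((DTen.extCx φ).map p ▷ P' ≫ (DTen.extCx φ).obj K ◁ q)).2 inferInstance
  haveI : IsIso (DerivedCategory.Q.map f.1) := (DerivedCategory.isIso_Q_map_iff_quasiIso _ _).2 hp
  haveI : IsIso (DerivedCategory.Q.map f.2) := (DerivedCategory.isIso_Q_map_iff_quasiIso _ _).2 hq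
  haveI : IsIso ((DTen.QMix R A).map f) :=
    (isIso_prod_iff _ _).2 ⟨‹IsIso (DerivedCategory.Q.map f.1)›, ‹IsIso (DerivedCategory.Q.map f.2)›⟩
  exact (liftableMix φ).isIso_counit_app_of_map (W := DTen.qisMix R A) f ⟨hP, hP'⟩

theorem isIso_split [DTen.HasLTen A] [DTen.HasLBase φ] [DTen.HasLTenMix φ] : IsIso (DTen.split φ) := by
  refine (NatTrans.isIso_iff_isIso_app _).2 fun X => ?_
  obtain ⟨⟨K, N⟩, ⟨hK, hN⟩, ⟨e⟩⟩ := (liftableMix φ).res X
  refine (NatTrans.isIso_app_iff_of_iso (DTen.split φ) e).1 ?_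
  haveI : K.IsKProjective := hK
  have hK' := isKFl_of_isKProjective K
  haveI := isIso_εMix φ hK' N
  haveI : IsIso ((DTen.ε A).app ((DTen.extCx φ).obj K, N)) :=
    isIso_ε (Or.inl (DCohBridge.isKFlat_baseChange φ hK'))
  haveI := isIso_baseCmp φ hK'
  haveI : IsIso ((DTen.split φ).app ((DTen.QMix R A).obj (K, N)) ≫ (DTen.εMix φ).app (K, N)) := by
    rw [DTen.split_fac]
    haveI : IsIso (Prod.mkHom ((DTen.baseCmp φ).app K) (𝟙 (DerivedCategory.Q.obj N))) :=
      (isIso_prod_iff _ _).2 ⟨inferInstance, inferInstance⟩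
    dsimp [DTen.splitβ]
    infer_instance
  exact IsIso.of_isIso_comp_right _ ((DTen.εMix φ).app (K, N))

end Groth.Agent.DTenLib
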