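import Groth.Agent.DTenLib.Core

/-!
# The closed structure of `D(A)`: associator, adjuncts, values
-/

universe u

open CategoryTheory Limits MonoidalCategory HomologicalComplex DTen

namespace Groth.Agent.DTenLib

attribute [local instance] HasDerivedCategory.standard

set_option linter.style.haveILetI false

variable {A : Type u} [CommRing A]

theorem Q_obj_surjective (X : Dual.D A) : ∃ K : DRing.Cx A, DerivedCategory.Q.obj K = X := ⟨_, rfl⟩

variable [HasLTen A]

/-- `f ⊗ g` in `D(A)`. -/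
noncomputable abbrev tm {a a' b b' : Dual.D A} (f : a ⟶ a') (g : b ⟶ b') :
    (LTen₂ A).obj (a, b) ⟶ (LTen₂ A).obj (a', b') :=
  (LTen₂ A).map (Prod.mkHom f g)

@[reassoc]
lemma tm_comp {a a' a'' b b' b'' : Dual.D A} (f : a ⟶ a') (f' : a' ⟶ a'') (g : b ⟶ b') (g' : b' ⟶ b'') :
    tm (f ≫ f') (g ≫ g') = tm f g ≫ tm f' g' := by
  rw [← Functor.map_comp]; rfl

@[reassoc]
lemma tm_comp_left {a a' a'' b : Dual.D A} (f : a ⟶ a') (f' : a' ⟶ a'') :
    tm (f ≫ f') (𝟙 b) = tm f (𝟙 b) ≫ tm f' (𝟙 b) := by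
  rw [← tm_comp, Category.comp_id]

@[reassoc]
lemma tm_comp_right {a b b' b'' : Dual.D A} (g : b ⟶ b') (g' : b' ⟶ b'') :
    tm (𝟙 a) (g ≫ g') = tm (𝟙 a) g ≫ tm (𝟙 a) g' := by
  rw [← tm_comp, Category.comp_id]

@[simp]
lemma tm_id (a b : Dual.D A) : tm (𝟙 a) (𝟙 b) = 𝟙 _ := (LTen₂ A).map_id _

@[reassoc]
lemma tm_exchange {a a' b b' : Dual.D A} (f : a ⟶ a') (g : b ⟶ b') :
    tm f (𝟙 b) ≫ tm (𝟙 a') g = tm (𝟙 a) g ≫ tm f (𝟙 b') := by
  rw [← tm_comp, ← tm_comp, Category.comp_id, Category.comp_id, Category.id_comp, Category.id_comp]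

instance isIso_tm {a a' b b' : Dual.D A} (f : a ⟶ a') (g : b ⟶ b') [IsIso f] [IsIso g] : IsIso (tm f g) :=
  haveI : IsIso (Prod.mkHom f g) := (isIso_prod_iff _ _).2 ⟨inferInstance, inferInstance⟩
  inferInstanceAs (IsIso ((LTen₂ A).map (Prod.mkHom f g)))

@[reassoc]
lemma ε_natural {K K' L L' : DRing.Cx A} (f : K ⟶ K') (g : L ⟶ L') :
    tm (DerivedCategory.Q.map f) (DerivedCategory.Q.map g) ≫ (ε A).app (K', L') =
      (ε A).app (K, L) ≫ DerivedCategory.Q.map (f ▷ L ≫ K' ◁ g) :=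
  (ε A).naturality (X := (K, L)) (Y := (K', L')) (Prod.mkHom f g)

@[reassoc]
lemma ε_natural_left {K K' : DRing.Cx A} (f : K ⟶ K') (L : DRing.Cx A) :
    tm (DerivedCategory.Q.map f) (𝟙 (DerivedCategory.Q.obj L)) ≫ (ε A).app (K', L) =
      (ε A).app (K, L) ≫ DerivedCategory.Q.map (f ▷ L) := by
  rw [← CategoryTheory.Functor.map_id DerivedCategory.Q L, ε_natural f (𝟙 L), MonoidalCategory.whiskerLeft_id,
    Category.comp_id]

@[reassoc]
lemma ε_natural_right (K : DRing.Cx A) {L L' : DRing.Cx A} (g : L ⟶ L') :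
    tm (𝟙 (DerivedCategory.Q.obj K)) (DerivedCategory.Q.map g) ≫ (ε A).app (K, L') =
      (ε A).app (K, L) ≫ DerivedCategory.Q.map (K ◁ g) := by
  rw [← CategoryTheory.Functor.map_id DerivedCategory.Q K, ε_natural (𝟙 K) g, MonoidalCategory.id_whiskerRight]
  erw [Category.id_comp]

section Assoc

variable [HasLTen₃ A] [IsSymMonoidal A]

@[reassoc]
lemma associator_natural {a a' b b' c c' : Dual.D A} (f : a ⟶ a') (g : b ⟶ b') (h : c ⟶ c') :
    tm (tm f g) h ≫ (associator a' b' c').hom = (associator a b c).hom ≫ tm f (tm g h) := by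
  let F : ((a, (b, c)) : Dual.D A × (Dual.D A × Dual.D A)) ⟶ (a', (b', c')) := Prod.mkHom f (Prod.mkHom g h)
  rw [← cancel_mono ((assocR A).app (a', (b', c'))), Category.assoc, associator_hom_assocR, Category.assoc]
  exact ((assocL A).naturality F).trans
    ((congrArg (· ≫ (LTen₃ A).map F) (associator_hom_assocR a b c).symm).trans
      ((Category.assoc _ _ _).trans (congrArg ((associator a b c).hom ≫ ·) ((assocR A).naturality F).symm)))

@[reassoc]
lemma associator_ε (K L M : DRing.Cx A) :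
    (associator (DerivedCategory.Q.obj K) (DerivedCategory.Q.obj L) (DerivedCategory.Q.obj M)).hom ≫
        tm (𝟙 _) ((ε A).app (L, M)) ≫ (ε A).app (K, L ⊗ M) =
      tm ((ε A).app (K, L)) (𝟙 _) ≫ (ε A).app (K ⊗ L, M) ≫ DerivedCategory.Q.map (α_ K L M).hom := by
  have h1 := assocR_fac A (K, (L, M))
  have h2 := assocL_fac A (K, (L, M))
  dsimp [βR, βL] at h1 h2
  refine Eq.trans (congrArg (_ ≫ ·) h1.symm) (Eq.trans ?_ h2)
  rw [← Category.assoc]
  exact congrArg (· ≫ _) (associator_hom_assocR _ _ _)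

end Assoc

section RHom

variable [HasRHom A]

/-- `a : X ⊗ L ⟶ M` has the universal property of the evaluation. -/
def IsUniv {L M W : Dual.D A} (a : (LTen₂ A).obj (W, L) ⟶ M) : Prop :=
  ∀ X : Dual.D A, Function.Bijective fun g : X ⟶ W => tm g (𝟙 L) ≫ a

lemma adjunct_symm {L M W X : Dual.D A} (a : (LTen₂ A).obj (W, L) ⟶ M) (g : X ⟶ W) :
    rhomHomEquiv X L M (tm g (𝟙 L) ≫ a) = g ≫ rhomHomEquiv W L M a :=
  (rhomAdj A L).homEquiv_naturality_left g a

theorem isIso_adjunct {L M W : Dual.D A} {a : (LTen₂ A).obj (W, L) ⟶ M} (h : IsUniv a) :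
    IsIso (rhomHomEquiv W L M a) := by
  refine isIso_of_yoneda_map_bijective _ fun X => ?_
  have e : (fun g : X ⟶ W => g ≫ rhomHomEquiv W L M a) =
      (rhomHomEquiv X L M) ∘ fun g : X ⟶ W => tm g (𝟙 L) ≫ a := funext fun g => (adjunct_symm a g).symm
  rw [e]
  exact (rhomHomEquiv X L M).bijective.comp (h X)

lemma tm_adjunct {L M W : Dual.D A} (a : (LTen₂ A).obj (W, L) ⟶ M) :
    tm (rhomHomEquiv W L M a) (𝟙 L) ≫ ev L M = a :=
  ((rhomAdj A L).homEquiv W M).left_inv a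

theorem isUniv_ev (L M : Dual.D A) : IsUniv (ev L M) := fun X =>
  ((rhomAdj A L).homEquiv X M).symm.bijective

/-- The universal property transports along an isomorphism of the object. -/
theorem IsUniv.of_iso {L M W W' : Dual.D A} {a : (LTen₂ A).obj (W, L) ⟶ M} (h : IsUniv a) (i : W' ≅ W) :
    IsUniv (tm i.hom (𝟙 L) ≫ a) := fun X => by
  have e : (fun g : X ⟶ W' => tm g (𝟙 L) ≫ tm i.hom (𝟙 L) ≫ a) =
      (fun g : X ⟶ W => tm g (𝟙 L) ≫ a) ∘ fun g : X ⟶ W' => g ≫ i.hom :=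
    funext fun g => (tm_comp_left_assoc _ _ _).symm
  rw [e]
  exact (h X).comp (i.homToEquiv).bijective

theorem IsUniv.comp_iso {L M M' W : Dual.D A} {a : (LTen₂ A).obj (W, L) ⟶ M} (h : IsUniv a) (j : M ⟶ M')
    [IsIso j] : IsUniv (a ≫ j) := fun X => by
  have e : (fun g : X ⟶ W => tm g (𝟙 L) ≫ a ≫ j) =
      (fun x => x ≫ (asIso j).hom) ∘ fun g : X ⟶ W => tm g (𝟙 L) ≫ a :=
    funext fun g => (Category.assoc _ _ _).symm
  rw [e]
  exact ((asIso j).homToEquiv).bijective.comp (h X)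

theorem IsUniv.of_adjunct {L M W : Dual.D A} (a : (LTen₂ A).obj (W, L) ⟶ M)
    [IsIso (rhomHomEquiv W L M a)] : IsUniv a := fun X => by
  have h := ((asIso (rhomHomEquiv W L M a)).homToEquiv (Z := X)).bijective
  refine (Function.Bijective.of_comp_iff' (rhomHomEquiv X L M).bijective _).1 ?_
  have e : (rhomHomEquiv X L M) ∘ (fun g : X ⟶ W => tm g (𝟙 L) ≫ a) = fun g => g ≫ rhomHomEquiv W L M a :=
    funext fun g => adjunct_symm a g
  rw [e]
  exact h

end RHom

section Value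

open Groth.Agent.DRingKFlat Groth.Agent.DRingTorAmp

variable {G : DRing.Cx A ⥤ DRing.Cx A} {M : DRing.Cx A} (adj : tensorRight M ⊣ G)

include adj in
theorem isKProjective_tensor (hG : ∀ F : DRing.Cx A, F.Acyclic → (G.obj F).Acyclic) (P : DRing.Cx A)
    [P.IsKProjective] : (P ⊗ M : DRing.Cx A).IsKProjective where
  nonempty_homotopy_zero {F} f hF := by
    obtain ⟨h⟩ := CochainComplex.IsKProjective.nonempty_homotopy_zero (adj.homEquiv P F f) (hG F hF)
    obtain ⟨h₀⟩ := CochainComplex.IsKProjective.nonempty_homotopy_zero (adj.homEquiv P F 0) (hG F hF)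
    let t := (mapBifunctorMapHomotopy₁ (h.trans h₀.symm) (𝟙 M) (curriedTensor (ModuleCat.{u} A))
      (ComplexShape.up ℤ)).compRight (adj.counit.app F)
    exact ⟨(Homotopy.ofEq (((adj.homEquiv P F).symm_apply_apply f).symm.trans (adj.homEquiv_counit _ _ _))).trans
      (t.trans (Homotopy.ofEq ((adj.homEquiv_counit _ _ _).symm.trans ((adj.homEquiv P F).symm_apply_apply 0))))⟩

/-- The evaluation of `Q(G L)` at `M`. -/
noncomputable def valueEv (L : DRing.Cx A) :
    (LTen₂ A).obj (DerivedCategory.Q.obj (G.obj L), DerivedCategory.Q.obj M) ⟶ DerivedCategory.Q.obj L :=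
  (ε A).app (G.obj L, M) ≫ DerivedCategory.Q.map (adj.counit.app L)

theorem isUniv_valueEv (hM : IsKFl M) (hG : ∀ F : DRing.Cx A, F.Acyclic → (G.obj F).Acyclic)
    (hG' : ∀ {X Y : DRing.Cx A} {a b : X ⟶ Y}, Homotopy a b →
      DerivedCategory.Q.map (G.map a) = DerivedCategory.Q.map (G.map b))
    (L : DRing.Cx A) : IsUniv (valueEv adj L) := by
  suffices h : ∀ P : DRing.Cx A, P.IsKProjective → Function.Bijective
      fun g : DerivedCategory.Q.obj P ⟶ DerivedCategory.Q.obj (G.obj L) => tm g (𝟙 _) ≫ valueEv adj L by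
    intro X
    obtain ⟨P, hP, ⟨i⟩⟩ := exists_kproj X
    have e : (fun g : X ⟶ DerivedCategory.Q.obj (G.obj L) => tm g (𝟙 (DerivedCategory.Q.obj M)) ≫ valueEv adj L) =
        (fun x => tm i.inv (𝟙 _) ≫ x) ∘ (fun g => tm g (𝟙 _) ≫ valueEv adj L) ∘ fun g => i.hom ≫ g :=
      funext fun g => by
        show _ = tm i.inv (𝟙 _) ≫ tm (i.hom ≫ g) (𝟙 _) ≫ valueEv adj L
        rw [← tm_comp_left_assoc, Iso.inv_hom_id_assoc]
    rw [e]
    exact ((asIso (tm i.inv (𝟙 (DerivedCategory.Q.obj M)))).symm.homFromEquiv).bijective.comp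
      ((h P hP).comp (i.symm.homFromEquiv).bijective)
  intro P hP
  haveI := hP
  haveI := isKProjective_tensor adj hG P
  haveI := isIso_ε (A := A) (K := P) (L := M) (Or.inr hM)
  have key : ∀ g₀ : P ⟶ G.obj L, tm (DerivedCategory.Q.map g₀) (𝟙 _) ≫ valueEv adj L =
      (ε A).app (P, M) ≫ DerivedCategory.Q.map ((adj.homEquiv P L).symm g₀) := fun g₀ => by
    rw [valueEv, ε_natural_left_assoc, ← Functor.map_comp, Adjunction.homEquiv_counit]
    rfl
  constructor
  · intro g g' hgg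
    obtain ⟨g₀, rfl⟩ := DRingComplete.exists_Q_map_eq P (G.obj L) g
    obtain ⟨g₁, rfl⟩ := DRingComplete.exists_Q_map_eq P (G.obj L) g'
    dsimp only at hgg
    rw [key, key, cancel_epi] at hgg
    obtain ⟨h⟩ := homotopy_of_Q_eq (P := P ⊗ M) hgg
    haveI := hP
    obtain ⟨h'⟩ : Nonempty (Homotopy (adj.unit.app P ≫ G.map ((adj.homEquiv P L).symm g₀))
        (adj.unit.app P ≫ G.map ((adj.homEquiv P L).symm g₁))) := by
      haveI : ((𝟭 (DRing.Cx A)).obj P).IsKProjective := hP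
      refine homotopy_of_Q_eq ?_
      rw [Functor.map_comp, Functor.map_comp, hG' h]
    have e : ∀ g₂ : P ⟶ G.obj L, adj.unit.app P ≫ G.map ((adj.homEquiv P L).symm g₂) = g₂ := fun g₂ =>
      (adj.homEquiv_unit P L _).symm.trans ((adj.homEquiv P L).apply_symm_apply g₂)
    have hh := DerivedCategory.Q_map_eq_of_homotopy (ModuleCat.{u} A) h'
    rw [e, e] at hh
    exact hh
  · intro x
    obtain ⟨f, hf⟩ := DRingComplete.exists_Q_map_eq (P ⊗ M) L (inv ((ε A).app (P, M)) ≫ x)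
    refine ⟨DerivedCategory.Q.map (adj.homEquiv P L f), ?_⟩
    dsimp only
    rw [key, Equiv.symm_apply_apply, hf, IsIso.hom_inv_id_assoc]

end Value

end Groth.Agent.DTenLib
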