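import Groth.Agent.DTenLib.Core
import Groth.Agent.DTenLib.Closed
import Groth.Agent.DRingKProj.Trunc
import Groth.Agent.DRingAmp.TensorCx
import Groth.Agent.DualCx.Eval
import Groth.Agent.DRingTorAmp.Amplitude
import Groth.Agent.DRingTorAmp.Criterion

/-!
# Ranges of cohomology under derived tensor products, and testing cohomology by morphisms
-/

universe u

open CategoryTheory Limits MonoidalCategory HomologicalComplex DTen Pretriangulated

namespace Groth.Agent.DTenLib

attribute [local instance] HasDerivedCategory.standard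

set_option linter.style.haveILetI false

open Groth.Agent.DRingKFlat Groth.Agent.DRingTorAmp

variable {A : Type u} [CommRing A]

set_option quotPrecheck false in
local notation "H" => DerivedCategory.homologyFunctor (ModuleCat A)

/-- Tensoring keeps exactness in high degrees. -/
theorem exactAt_tensor_above {F C : DRing.Cx A} (hF : IsKFl F) {c m : ℤ} (hc : DRing.VanishesAbove F c)
    (hC : ∀ i, m ≤ i → C.ExactAt i) {i : ℤ} (hi : c + m ≤ i) : (F ⊗ C : DRing.Cx A).ExactAt i := by
  haveI := quasiIso_capι (E := C) (n := m - 1) (fun j hj => hC j (by omega))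
  haveI : QuasiIso (F ◁ capι C (m - 1)) := whiskerLeft_qis' _ hF
  refine (exactAt_iff_of_quasiIsoAt (F ◁ capι C (m - 1)) i).1 ?_
  rw [HomologicalComplex.exactAt_iff]
  refine ShortComplex.exact_of_isZero_X₂ _ (DRingAmp.isZero_tot_X fun p q hpq => ?_)
  by_cases hp : c < p
  · exact Or.inl (hc p hp)
  · exact Or.inr (cap_isZero (Or.inl (by omega)))

/-- Tensoring keeps exactness in low degrees. -/
theorem exactAt_tensor_below {F C : DRing.Cx A} (hF : IsKFl F) {a m : ℤ} (ha : ∀ p, p < a → IsZero (F.X p))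
    (hC : ∀ i, i < m → C.ExactAt i) {i : ℤ} (hi : i < a + m) : (F ⊗ C : DRing.Cx A).ExactAt i := by
  haveI := quasiIso_cutπ (E := C) (a := m) hC
  haveI : QuasiIso (F ◁ cutπ C m) := whiskerLeft_qis' _ hF
  refine (exactAt_iff_of_quasiIsoAt (F ◁ cutπ C m) i).2 ?_
  rw [HomologicalComplex.exactAt_iff]
  refine ShortComplex.exact_of_isZero_X₂ _ (DRingAmp.isZero_tot_X fun p q hpq => ?_)
  by_cases hp : p < a
  · exact Or.inl (ha p hp)
  · exact Or.inr (cut_isZero (Or.inl (by omega)))

theorem isIso_H_map_Q_iff {X Y : DRing.Cx A} (φ : X ⟶ Y) (i : ℤ) :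
    IsIso ((H i).map (DerivedCategory.Q.map φ)) ↔ IsIso (homologyMap φ i) :=
  (MorphismProperty.isomorphisms _).arrow_mk_iso_iff (Arrow.isoMk'
    ((H i).map (DerivedCategory.Q.map φ)) (homologyMap φ i)
    ((DerivedCategory.homologyFunctorFactors _ i).app X)
    ((DerivedCategory.homologyFunctorFactors _ i).app Y)
    (DerivedCategory.homologyFunctorFactors_hom_naturality φ i).symm)

/-- The basic comparison: a complex `C` playing the rôle of the cone. -/
theorem exists_cone [HasLTen A] {F : DRing.Cx A} (hF : IsKFl F) {X Y : Dual.D A} (g : X ⟶ Y) :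
    ∃ C : DRing.Cx A, (∀ i, IsIso ((H i).map g) → IsIso ((H (i + 1)).map g) → C.ExactAt i) ∧
      (∀ i, Epi ((H i).map g) → IsIso ((H (i + 1)).map g) → C.ExactAt i) ∧
      ∀ i, (F ⊗ C : DRing.Cx A).ExactAt (i - 1) → (F ⊗ C : DRing.Cx A).ExactAt i →
        IsIso ((H i).map (tm (𝟙 (DerivedCategory.Q.obj F)) g)) := by
  obtain ⟨P, hP, ⟨e⟩⟩ := exists_kproj X
  obtain ⟨P', hP', ⟨e'⟩⟩ := exists_kproj Y
  haveI : P.IsKProjective := hP
  obtain ⟨g₀, hg₀⟩ := PCExt.Q_map_surjective_of_isKProjective P P' (e.hom ≫ g ≫ e'.inv)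
  have hS := facCoker_shortExact g₀
  let φ := facI g₀
  let π := (facSeq P P').g
  haveI : QuasiIso π :=
    quasiIso_g_of_acyclic upRel_next (facSeqSplitting P P').shortExact (acyclic_cone_id P)
  haveI : IsIso (DerivedCategory.Q.map π) :=
    (DerivedCategory.isIso_Q_map_iff_quasiIso _ π).2 inferInstance
  have hg : g = e.inv ≫ DerivedCategory.Q.map φ ≫ DerivedCategory.Q.map π ≫ e'.hom := by
    rw [← Functor.map_comp_assoc, facI_snd]
    dsimp only at hg₀
    rw [hg₀]
    simp
  have hiso : ∀ i, IsIso ((H i).map g) ↔ IsIso (homologyMap φ i) := fun i => by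
    rw [← isIso_H_map_Q_iff, hg]
    simp only [Functor.map_comp, isIso_comp_left_iff, isIso_comp_right_iff]
  have hepi : ∀ i, Epi ((H i).map g) → Epi (homologyMap φ i) := fun i h => by
    have h' : Epi ((H i).map (e.hom ≫ g ≫ e'.inv ≫ inv (DerivedCategory.Q.map π))) := by
      simp only [Functor.map_comp]
      infer_instance
    rw [hg] at h'
    simp only [Category.assoc, Iso.hom_inv_id_assoc, IsIso.hom_inv_id, Category.comp_id] at h'
    exact ((MorphismProperty.epimorphisms _).arrow_mk_iso_iff (Arrow.isoMk'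
      ((H i).map (DerivedCategory.Q.map φ)) (homologyMap φ i)
      ((DerivedCategory.homologyFunctorFactors _ i).app P)
      ((DerivedCategory.homologyFunctorFactors _ i).app _)
      (DerivedCategory.homologyFunctorFactors_hom_naturality φ i).symm)).1 h'
  have hex : ∀ i, Epi (homologyMap φ i) → IsIso (homologyMap φ (i + 1)) →
      (facCoker g₀).X₃.ExactAt i := fun i h1 h2 => by
    rw [exactAt_iff_isZero_homology]
    have h3 := hS.homology_exact₃ i (i + 1) rfl
    haveI : Mono (homologyMap φ (i + 1)) := inferInstance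
    refine h3.isZero_X₂ ?_ ?_
    · exact (cancel_epi (homologyMap φ i)).1 ((homologyMap_comp φ _ i).symm.trans
        ((congrArg (fun t => homologyMap t i) (facCoker g₀).zero).trans
          ((homologyMap_zero _ _ i).trans comp_zero.symm)))
    · exact (cancel_mono (homologyMap φ (i + 1))).1
        ((hS.δ_comp i (i + 1) rfl).trans zero_comp.symm)
  refine ⟨(facCoker g₀).X₃, fun i h1 h2 => ?_, fun i h1 h2 => hex i (hepi i h1) ((hiso _).1 h2),
    fun i h1 h2 => ?_⟩
  · haveI := (hiso i).1 h1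
    exact hex i inferInstance ((hiso _).1 h2)
  -- tensoring
  have hS' := shortExact_tot_obj F hS (fun p q => ((facSplitMono g₀ q).map ((tB A).obj (F.X p))).mono)
  have hiso' : IsIso (homologyMap (F ◁ φ) i) := by
    have ha := hS'.homology_exact₁ (i - 1) i (by simp)
    have hb := hS'.homology_exact₂ i
    haveI : Mono (homologyMap (F ◁ φ) i) :=
      ha.mono_g ((exactAt_iff_isZero_homology _ _).1 h1 |>.eq_of_src _ _)
    haveI : Epi (homologyMap (F ◁ φ) i) :=
      hb.epi_f ((exactAt_iff_isZero_homology _ _).1 h2 |>.eq_of_tgt _ _)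
    exact isIso_of_mono_of_epi _
  haveI hφ : IsIso ((H i).map (tm (𝟙 (DerivedCategory.Q.obj F)) (DerivedCategory.Q.map φ))) := by
    haveI : IsIso ((H i).map (DerivedCategory.Q.map (F ◁ φ))) := (isIso_H_map_Q_iff _ i).2 hiso'
    haveI := isIso_ε (A := A) (K := F) (L := P) (Or.inl hF)
    haveI := isIso_ε (A := A) (K := F) (L := CochainComplex.mappingCone (𝟙 P) ⊞ P') (Or.inl hF)
    have h := congrArg (H i).map (ε_natural_right F φ)
    simp only [Functor.map_comp] at h
    haveI : IsIso ((H i).map (tm (𝟙 (DerivedCategory.Q.obj F)) (DerivedCategory.Q.map φ)) ≫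
        (H i).map ((ε A).app (F, CochainComplex.mappingCone (𝟙 P) ⊞ P'))) := by
      erw [h]
      infer_instance
    exact IsIso.of_isIso_comp_right _ ((H i).map ((ε A).app (F, CochainComplex.mappingCone (𝟙 P) ⊞ P')))
  rw [hg, tm_comp_right, tm_comp_right, tm_comp_right]
  simp only [Functor.map_comp]
  infer_instance

/-- Cohomology isomorphisms above a degree are preserved by tensoring with a bounded above flat complex. -/
theorem isIso_H_tm_above [HasLTen A] {F : DRing.Cx A} (hF : IsKFl F) {c m : ℤ} (hc : DRing.VanishesAbove F c)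
    {X Y : Dual.D A} {g : X ⟶ Y} (hg : DRingKProj.IsoAbove m g) {i : ℤ} (hi : c + m < i) :
    IsIso ((H i).map (tm (𝟙 (DerivedCategory.Q.obj F)) g)) := by
  obtain ⟨C, h1, h2, h3⟩ := exists_cone hF g
  have hC : ∀ j, m ≤ j → C.ExactAt j := fun j hj => by
    rcases hj.eq_or_lt with rfl | hj
    · exact h2 _ hg.2 (hg.1 _ (by omega))
    · exact h1 j (hg.1 _ hj) (hg.1 _ (by omega))
  exact h3 i (exactAt_tensor_above hF hc hC (by omega)) (exactAt_tensor_above hF hc hC (by omega))

/-- Cohomology isomorphisms below a degree are preserved by tensoring with a bounded below flat complex. -/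
theorem isIso_H_tm_below [HasLTen A] {F : DRing.Cx A} (hF : IsKFl F) {a n : ℤ}
    (ha : ∀ p, p < a → IsZero (F.X p)) {X Y : Dual.D A} {g : X ⟶ Y}
    (hg : ∀ i, i < n → IsIso ((H i).map g)) {i : ℤ} (hi : i < a + n - 1) :
    IsIso ((H i).map (tm (𝟙 (DerivedCategory.Q.obj F)) g)) := by
  obtain ⟨C, h1, -, h3⟩ := exists_cone hF g
  have hC : ∀ j, j < n - 1 → C.ExactAt j := fun j hj => h1 j (hg _ (by omega)) (hg _ (by omega))
  exact h3 i (exactAt_tensor_below hF ha hC (by omega)) (exactAt_tensor_below hF ha hC (by omega))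

theorem isGE_tensor [HasLTen A] {F : DRing.Cx A} (hF : IsKFl F) {a n : ℤ} (ha : ∀ p, p < a → IsZero (F.X p))
    (M : Dual.D A) [M.IsGE n] :
    ((LTen₂ A).obj (DerivedCategory.Q.obj F, M)).IsGE (a + n) := by
  obtain ⟨L, rfl⟩ := Q_obj_surjective M
  haveI := isIso_ε (A := A) (K := F) (L := L) (Or.inl hF)
  have hL : ∀ i, i < n → L.ExactAt i := fun i hi => by
    rw [exactAt_iff_isZero_homology]
    exact (DerivedCategory.isZero_of_isGE (DerivedCategory.Q.obj L) n i hi).of_iso
      ((DerivedCategory.homologyFunctorFactors _ i).app L).symm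
  rw [DerivedCategory.isGE_iff]
  intro i hi
  exact ((exactAt_tensor_below hF ha hL hi).isZero_homology).of_iso
    ((H i).mapIso (asIso ((ε A).app (F, L))) ≪≫ (DerivedCategory.homologyFunctorFactors _ i).app (F ⊗ L))

section Test

variable (A) in
/-- The free module of rank one in degree `i`. -/
noncomputable abbrev sgl (i : ℤ) : DRing.Cx A :=
  (CochainComplex.singleFunctor (ModuleCat.{u} A) i).obj (ModuleCat.of A A)

theorem sgl_outside (i j : ℤ) (h : j ≠ i) : IsZero ((sgl A i).X j) :=
  HomologicalComplex.isZero_single_obj_X _ _ _ _ h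

theorem sgl_above (i : ℤ) : DRing.VanishesAbove (sgl A i) i := fun j hj => sgl_outside i j hj.ne'

theorem isKFl_sgl (i : ℤ) : IsKFl (sgl A i) := by
  refine isKFl_of_flat (sgl_above i) fun j => ?_
  by_cases h : j = i
  · subst h
    exact Module.Flat.of_linearEquiv
      (HomologicalComplex.singleObjXSelf (ComplexShape.up ℤ) j (ModuleCat.of A A)).toLinearEquiv
  · haveI := ModuleCat.subsingleton_of_isZero (sgl_outside (A := A) i j h)
    infer_instance

variable (A) in
/-- `A[-i]` represented by a single complex. -/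
noncomputable def sglIso (i : ℤ) :
    ((DerivedCategory.singleFunctor (ModuleCat.{u} A) 0).obj (ModuleCat.of A A))⟦-i⟧ ≅
      DerivedCategory.Q.obj (sgl A i) :=
  ((DerivedCategory.singleFunctors (ModuleCat.{u} A)).shiftIso (-i) i 0 (by omega)).app _ ≪≫
    (DerivedCategory.singleFunctorIsoCompQ (ModuleCat.{u} A) i).app _

variable (A) in
/-- Morphisms out of `A[-i]` are cohomology classes. -/
noncomputable def homTestEquiv (i : ℤ) (W : Dual.D A) :
    (DerivedCategory.Q.obj (sgl A i) ⟶ W) ≃ DualCx.T W i (ModuleCat.of A A) :=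
  (sglIso A i).homFromEquiv.symm.trans
    ((shiftEquiv' (Dual.D A) (-i) i (by omega)).toAdjunction.homEquiv
      ((DerivedCategory.singleFunctor (ModuleCat.{u} A) 0).obj (ModuleCat.of A A)) W)

theorem homTestEquiv_comp (i : ℤ) {W W' : Dual.D A} (f : W ⟶ W')
    (g : DerivedCategory.Q.obj (sgl A i) ⟶ W) :
    homTestEquiv A i W' (g ≫ f) = homTestEquiv A i W g ≫ f⟦i⟧' := by
  simp only [homTestEquiv, Equiv.trans_apply, Iso.homFromEquiv_symm_apply, ← Category.assoc]
  exact ((shiftEquiv' (Dual.D A) (-i) i (by omega)).toAdjunction.homEquiv_naturality_right _ f)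

theorem ev_comp (i : ℤ) {W W' : Dual.D A} (f : W ⟶ W') (g : DualCx.T W i (ModuleCat.of A A)) :
    DualCx.ev W' i _ (g ≫ f⟦i⟧') = DualCx.ev W i _ g ≫ (H i).map f := by
  show DualCx.ev0 (g ≫ f⟦i⟧') ≫ (DualCx.hShift W' i).hom = (DualCx.ev0 g ≫ (DualCx.hShift W i).hom) ≫ _
  simp only [DualCx.ev0, Functor.map_comp, Category.assoc, DualCx.hShift, Iso.app_hom]
  congr 2
  exact ((H 0).shiftIso i 0 i (by omega)).hom.naturality f

/-- Isomorphisms on cohomology are detected by morphisms out of `A[-i]`. -/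
theorem isIso_H_of_bijective {i : ℤ} {W W' : Dual.D A} (f : W ⟶ W')
    (h : Function.Bijective fun g : DerivedCategory.Q.obj (sgl A i) ⟶ W => g ≫ f) :
    IsIso ((H i).map f) := by
  have h1 : Function.Bijective fun g : DualCx.T W i (ModuleCat.of A A) => g ≫ f⟦i⟧' := by
    have e : (fun g : DualCx.T W i (ModuleCat.of A A) => g ≫ f⟦i⟧') =
        homTestEquiv A i W' ∘ (fun g => g ≫ f) ∘ (homTestEquiv A i W).symm := funext fun g => by
      show _ = homTestEquiv A i W' (_ ≫ f)
      rw [homTestEquiv_comp, Equiv.apply_symm_apply]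
    rw [e]
    exact (homTestEquiv A i W').bijective.comp (h.comp (homTestEquiv A i W).symm.bijective)
  have h2 : Function.Bijective fun t : ModuleCat.of A A ⟶ (H i).obj W => t ≫ (H i).map f := by
    refine (Function.Bijective.of_comp_iff _ (DualCx.ev_bijective W i (ModuleCat.of A A))).1 ?_
    have e : (fun t : ModuleCat.of A A ⟶ (H i).obj W => t ≫ (H i).map f) ∘ DualCx.ev W i (ModuleCat.of A A) =
        DualCx.ev W' i (ModuleCat.of A A) ∘ fun g => g ≫ f⟦i⟧' := funext fun g => (ev_comp i f g).symm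
    rw [e]
    exact (DualCx.ev_bijective W' i _).comp h1
  rw [ConcreteCategory.isIso_iff_bijective]
  constructor
  · intro x y hxy
    have := h2.1 (a₁ := ModuleCat.ofHom (LinearMap.toSpanSingleton A _ x))
      (a₂ := ModuleCat.ofHom (LinearMap.toSpanSingleton A _ y))
      (ModuleCat.hom_ext (LinearMap.ext_ring (by simpa using hxy)))
    simpa using LinearMap.congr_fun (congrArg ModuleCat.Hom.hom this) 1
  · intro y
    obtain ⟨t, ht⟩ := h2.2 (ModuleCat.ofHom (LinearMap.toSpanSingleton A _ y))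
    exact ⟨t.hom 1, by simpa using LinearMap.congr_fun (congrArg ModuleCat.Hom.hom ht) 1⟩

/-- Vanishing of cohomology is detected by morphisms out of `A[-i]`. -/
theorem isZero_H_of_subsingleton {i : ℤ} (W : Dual.D A)
    (h : Subsingleton (DerivedCategory.Q.obj (sgl A i) ⟶ W)) : IsZero ((H i).obj W) := by
  haveI : Subsingleton (DualCx.T W i (ModuleCat.of A A)) := (homTestEquiv A i W).symm.subsingleton
  haveI : Subsingleton (ModuleCat.of A A ⟶ (H i).obj W) :=
    (DualCx.ev_bijective W i _).surjective.subsingleton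
  haveI : Subsingleton ((H i).obj W : Type u) := ⟨fun x y => by
    simpa using LinearMap.congr_fun (congrArg ModuleCat.Hom.hom (Subsingleton.elim
      (ModuleCat.ofHom (LinearMap.toSpanSingleton A ((H i).obj W) x) : ModuleCat.of A A ⟶ _)
      (ModuleCat.ofHom (LinearMap.toSpanSingleton A _ y)))) 1⟩
  exact ModuleCat.isZero_of_subsingleton _

end Test

theorem isIso_of_H {X Y : Dual.D A} (f : X ⟶ Y) (h : ∀ i, IsIso ((H i).map f)) : IsIso f := by
  obtain ⟨C, g', δ, hT⟩ := distinguished_cocone_triangle f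
  have hz : IsZero C := DerCat.isZero_of_forall_homology C fun i =>
    (DRingKProj.isoAbove_mor₁_iff (Triangle.mk f g' δ) hT i).1
      ⟨fun j _ => h j, @IsIso.epi_of_iso _ _ _ _ _ (h i)⟩ i le_rfl
  exact (Triangle.isZero₃_iff_isIso₁ _ hT).1 hz

/-- Precomposition by a map whose cone does not map to `M`. -/
theorem bijective_precomp {X Y M : Dual.D A} (g : X ⟶ Y)
    (h : ∀ (C : Dual.D A) (g' : Y ⟶ C) (δ : C ⟶ X⟦(1 : ℤ)⟧), Triangle.mk g g' δ ∈ distTriang _ →
      (∀ f : C ⟶ M, f = 0) ∧ ∀ f : C⟦(-1 : ℤ)⟧ ⟶ M, f = 0) :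
    Function.Bijective fun f : Y ⟶ M => g ≫ f := by
  obtain ⟨C, g', δ, hT⟩ := distinguished_cocone_triangle g
  obtain ⟨h1, h2⟩ := h C g' δ hT
  constructor
  · intro f f' hff
    obtain ⟨k, hk⟩ := Triangle.yoneda_exact₂ _ hT (f - f')
      ((Preadditive.comp_sub _ _ _).trans (sub_eq_zero.2 hff))
    rw [h1 k] at hk
    exact sub_eq_zero.1 (hk.trans comp_zero)
  · intro f
    obtain ⟨k, hk⟩ := Triangle.yoneda_exact₂ _ (inv_rot_of_distTriang _ hT) f (h2 _)
    exact ⟨k, hk.symm⟩

end Groth.Agent.DTenLib
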