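import Groth.Agent.DTenLib.Eval

/-!
# Tensoring with a dualizable object commutes with `RHom`
-/

universe u

open CategoryTheory Limits MonoidalCategory HomologicalComplex DTen

namespace Groth.Agent.DTenLib

attribute [local instance] HasDerivedCategory.standard

set_option linter.style.haveILetI false

open Groth.Agent.DRingKFlat Groth.Agent.DRingTorAmp

variable {A : Type u} [CommRing A] [HasLTen A]

theorem isIso_εLeft {K : DRing.Cx A} (hK : IsKFl K) : IsIso (εLeft A K) :=
  (NatTrans.isIso_iff_isIso_app _).2 fun L => isIso_ε (L := L) (Or.inl hK)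

theorem isIso_εRight {E : DRing.Cx A} (hE : IsKFl E) : IsIso (εRight A E) :=
  (NatTrans.isIso_iff_isIso_app _).2 fun K => isIso_ε (K := K) (Or.inr hE)

/-- `Q` intertwines `K ⊗ -` and `K ⊗^L -`. -/
@[reducible]
noncomputable def sqLeft {K : DRing.Cx A} (hK : IsKFl K) :
    CatCommSq (tensorLeft K) DerivedCategory.Q DerivedCategory.Q ((LTen A).obj (DerivedCategory.Q.obj K)) :=
  haveI := isIso_εLeft hK
  ⟨(asIso (εLeft A K)).symm⟩

/-- `Q` intertwines `- ⊗ K` and `- ⊗^L K`. -/
@[reducible]
noncomputable def sqRight {K : DRing.Cx A} (hK : IsKFl K) :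
    CatCommSq (tensorRight K) DerivedCategory.Q DerivedCategory.Q ((LTen A).flip.obj (DerivedCategory.Q.obj K)) :=
  haveI := isIso_εRight hK
  ⟨(asIso (εRight A K)).symm⟩

/-- The derived adjunction `N ⊗^L - ⊣ K ⊗^L -`. -/
noncomputable def adjLeft {K N : DRing.Cx A} (D : Dualizable K N) :
    (LTen A).obj (DerivedCategory.Q.obj N) ⊣ (LTen A).obj (DerivedCategory.Q.obj K) :=
  letI := D.pairing
  letI := sqLeft D.kflat
  letI := sqLeft D.kflat'
  (tensorLeftAdjunction K N).localization DerivedCategory.Q (qis A) DerivedCategory.Q (qis A) _ _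

/-- The derived adjunction `- ⊗^L N ⊣ - ⊗^L K`. -/
noncomputable def adjRight {K N : DRing.Cx A} (D : Dualizable K N) :
    (LTen A).flip.obj (DerivedCategory.Q.obj N) ⊣ (LTen A).flip.obj (DerivedCategory.Q.obj K) :=
  letI := D.pairing'
  letI := sqRight D.kflat
  letI := sqRight D.kflat'
  (tensorRightAdjunction N K).localization DerivedCategory.Q (qis A) DerivedCategory.Q (qis A) _ _

theorem adjLeft_counit {K N : DRing.Cx A} (D : Dualizable K N) (R : DRing.Cx A) :
    (adjLeft D).counit.app (DerivedCategory.Q.obj R) =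
      tm (𝟙 _) ((ε A).app (K, R)) ≫ (ε A).app (N, K ⊗ R) ≫
        DerivedCategory.Q.map (letI := D.pairing; (tensorLeftAdjunction K N).counit.app R) := by
  letI := D.pairing
  letI := sqLeft D.kflat
  letI := sqLeft D.kflat'
  exact Adjunction.localization_counit_app (tensorLeftAdjunction K N) DerivedCategory.Q (qis A)
    DerivedCategory.Q (qis A) _ _ R

theorem adjRight_counit {K N : DRing.Cx A} (D : Dualizable K N) (R : DRing.Cx A) :
    (adjRight D).counit.app (DerivedCategory.Q.obj R) =
      tm ((ε A).app (R, K)) (𝟙 _) ≫ (ε A).app (R ⊗ K, N) ≫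
        DerivedCategory.Q.map (letI := D.pairing'; (tensorRightAdjunction N K).counit.app R) := by
  letI := D.pairing'
  letI := sqRight D.kflat
  letI := sqRight D.kflat'
  exact Adjunction.localization_counit_app (tensorRightAdjunction N K) DerivedCategory.Q (qis A)
    DerivedCategory.Q (qis A) _ _ R

variable [HasLTen₃ A] [IsSymMonoidal A]

theorem adjLeft_key {K N : DRing.Cx A} (D : Dualizable K N) {R : DRing.Cx A} (hR : IsKFl R) (M : DRing.Cx A) :
    (DTen.associator (DerivedCategory.Q.obj N) _ (DerivedCategory.Q.obj M)).hom ≫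
        tm (𝟙 _) (DTen.associator (DerivedCategory.Q.obj K) (DerivedCategory.Q.obj R) (DerivedCategory.Q.obj M)).hom ≫
          (adjLeft D).counit.app ((LTen₂ A).obj (DerivedCategory.Q.obj R, DerivedCategory.Q.obj M)) =
      tm ((adjLeft D).counit.app (DerivedCategory.Q.obj R)) (𝟙 _) := by
  letI := D.pairing
  haveI := isIso_ε (A := A) (K := R) (L := M) (Or.inl hR)
  rw [← cancel_mono ((ε A).app (R, M))]
  have hn : (adjLeft D).counit.app ((LTen₂ A).obj (DerivedCategory.Q.obj R, DerivedCategory.Q.obj M)) ≫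
      (ε A).app (R, M) = tm (𝟙 _) (tm (𝟙 _) ((ε A).app (R, M))) ≫
        (adjLeft D).counit.app (DerivedCategory.Q.obj (R ⊗ M)) :=
    ((adjLeft D).counit.naturality ((ε A).app (R, M))).symm
  rw [Category.assoc, Category.assoc, hn, adjLeft_counit, adjLeft_counit, ← tm_comp_right_assoc,
    ← tm_comp_right_assoc, Category.assoc, associator_ε, tm_comp_left, tm_comp_left]
  simp only [tm_comp_right, Category.assoc]
  erw [ε_natural_right_assoc, ← associator_natural_assoc, associator_ε_assoc, ε_natural_left]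
  simp only [← Functor.map_comp]
  congr 4
  exact coherence₂ K R M N

variable [HasRHom A]

theorem isUniv_auxTen_left {K N : DRing.Cx A} (D : Dualizable K N) {W M L : Dual.D A}
    {e : (LTen₂ A).obj (W, M) ⟶ L} (he : IsUniv e) : IsUniv (auxTen (DerivedCategory.Q.obj K) e) := by
  obtain ⟨M, rfl⟩ := Q_obj_surjective M
  suffices h : ∀ (R : DRing.Cx A), IsKFl R → ∀ (e : (LTen₂ A).obj (DerivedCategory.Q.obj R, DerivedCategory.Q.obj M) ⟶ L),
      IsUniv e → IsUniv (auxTen (DerivedCategory.Q.obj K) e) by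
    obtain ⟨P, hP, ⟨i⟩⟩ := exists_kproj W
    haveI : P.IsKProjective := hP
    have h' := (h P (isKFl_of_isKProjective P) _ (he.of_iso i)).of_iso
      ((LTen₂ A).mapIso (Iso.prod (Iso.refl (DerivedCategory.Q.obj K)) i.symm))
    have e' : auxTen (DerivedCategory.Q.obj K) e =
        tm (tm (𝟙 _) i.inv) (𝟙 _) ≫ auxTen (DerivedCategory.Q.obj K) (tm i.hom (𝟙 _) ≫ e) := by
      rw [auxTen_comp, ← tm_comp_left_assoc, Iso.inv_hom_id, tm_id, Category.id_comp]
    rw [e']
    exact h'
  intro R hR e he X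
  have key : ∀ g : X ⟶ (LTen₂ A).obj (DerivedCategory.Q.obj K, DerivedCategory.Q.obj R),
      ((adjLeft D).homEquiv _ L).symm (tm g (𝟙 _) ≫ auxTen (DerivedCategory.Q.obj K) e) =
        (DTen.associator (DerivedCategory.Q.obj N) X (DerivedCategory.Q.obj M)).inv ≫
          tm (((adjLeft D).homEquiv X _).symm g) (𝟙 _) ≫ e := fun g => by
    have hn := (adjLeft D).counit.naturality e
    rw [Iso.eq_inv_comp, Adjunction.homEquiv_counit, Adjunction.homEquiv_counit]
    show _ ≫ tm (𝟙 _) (tm g (𝟙 _) ≫ (DTen.associator _ _ _).hom ≫ tm (𝟙 _) e) ≫ (adjLeft D).counit.app L =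
      tm (tm (𝟙 _) g ≫ _) (𝟙 _) ≫ e
    rw [tm_comp_left, tm_comp_right, tm_comp_right, Category.assoc, Category.assoc, Category.assoc,
      ← adjLeft_key D hR M, Category.assoc, Category.assoc, associator_natural_assoc]
    exact congrArg (fun z => _ ≫ tm (𝟙 _) (tm g (𝟙 _)) ≫ tm (𝟙 _) _ ≫ z) hn
  have efun : (fun g : X ⟶ (LTen₂ A).obj (DerivedCategory.Q.obj K, DerivedCategory.Q.obj R) =>
      tm g (𝟙 _) ≫ auxTen (DerivedCategory.Q.obj K) e) =
      ((adjLeft D).homEquiv _ L) ∘ (fun x => (DTen.associator (DerivedCategory.Q.obj N) X (DerivedCategory.Q.obj M)).inv ≫ x) ∘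
        (fun x => tm x (𝟙 _) ≫ e) ∘ ((adjLeft D).homEquiv X _).symm :=
    funext fun g => (Equiv.symm_apply_eq _).1 (key g)
  rw [efun]
  exact ((adjLeft D).homEquiv _ L).bijective.comp
    (((DTen.associator (DerivedCategory.Q.obj N) X (DerivedCategory.Q.obj M)).homFromEquiv).bijective.comp
      ((he _).comp ((adjLeft D).homEquiv X _).symm.bijective))

end Groth.Agent.DTenLib
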