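import Groth.Agent.DTenLib.BCPerfect
import Groth.Agent.DTenLib.EvalLeft

/-!
# The base change map of `RHom` along a ring that is perfect as a module
-/

universe u

open CategoryTheory Limits MonoidalCategory HomologicalComplex DTen
open scoped TensorProduct ChangeOfRings

namespace Groth.Agent.DTenLib

attribute [local instance] HasDerivedCategory.standard

set_option linter.style.haveILetI false

open Groth.Agent.DRingKFlat Groth.Agent.DRingTorAmp

variable {R R' : Type u} [CommRing R] [CommRing R'] (φ : R →+* R')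

theorem isIso_of_restrictD {A B : Dual.D R'} (g : A ⟶ B) [IsIso ((DRing.restrictD φ).map g)] : IsIso g := by
  obtain ⟨P, hP, ⟨a⟩⟩ := exists_kproj A
  obtain ⟨P', hP', ⟨b⟩⟩ := exists_kproj B
  haveI : P.IsKProjective := hP
  obtain ⟨f, hf⟩ := DRingComplete.exists_Q_map_eq P P' (a.hom ≫ g ≫ b.inv)
  haveI : IsIso ((DRing.restrictD φ).map (DerivedCategory.Q.map f)) := by
    rw [hf, Functor.map_comp, Functor.map_comp]; infer_instance
  haveI : IsIso (DerivedCategory.Q.map ((DTen.resCx φ).map f)) :=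
    (NatIso.isIso_map_iff (DTen.resFactors φ) f).1 ‹_›
  haveI : QuasiIso ((DTen.resCx φ).map f) := (DerivedCategory.isIso_Q_map_iff_quasiIso _ _).1 this
  haveI : QuasiIso f := (quasiIso_map_iff_of_preservesHomology f (ModuleCat.restrictScalars.{u} φ)).1 this
  haveI : IsIso (DerivedCategory.Q.map f) := (DerivedCategory.isIso_Q_map_iff_quasiIso _ _).2 this
  haveI : IsIso (a.hom ≫ g ≫ b.inv) := hf ▸ this
  haveI : IsIso (g ≫ b.inv) := IsIso.of_isIso_comp_left a.hom _
  exact IsIso.of_isIso_comp_right g b.inv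

section Cx

variable (P Q : DRing.Cx R')

/-- `res R' ⊗ res P ⟶ res P`. -/
noncomputable def actCx : (DTen.resCx φ).obj (𝟙_ (DRing.Cx R')) ⊗ (DTen.resCx φ).obj P ⟶ (DTen.resCx φ).obj P :=
  resTenCx φ (𝟙_ _) P ≫ (DTen.resCx φ).map (λ_ P).hom

theorem resTen_el {p q n : ℤ} (h : p + q = n) (x : P.X p) (y : Q.X q) :
    (resTenCx φ P Q).f n (el ((DTen.resCx φ).obj P) ((DTen.resCx φ).obj Q) p q n h x y) = el P Q p q n h x y :=
  (congrArg (fun f => f ((show ((DTen.resCx φ).obj P).X p from x) ⊗ₜ[R] (show ((DTen.resCx φ).obj Q).X q from y)))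
    (ι_resTenCx φ P Q p q n h)).trans rfl

/-- An element of `res R'` in degree `0`. -/
noncomputable def oneR (c : R') : ((DTen.resCx φ).obj (𝟙_ (DRing.Cx R'))).X 0 :=
  (c • one R' : (𝟙_ (DRing.Cx R')).X 0)

theorem exists_oneR (s : ((DTen.resCx φ).obj (𝟙_ (DRing.Cx R'))).X 0) : ∃ c, s = oneR φ c := by
  let e := singleObjXSelf (ComplexShape.up ℤ) 0 (𝟙_ (ModuleCat.{u} R'))
  let s' : (𝟙_ (DRing.Cx R')).X 0 := s
  let c : R' := e.hom s'
  refine ⟨c, show s' = c • one R' from ?_⟩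
  have h : e.inv (e.hom s') = s' := congrArg (fun f => f s') e.hom_inv_id
  have h' : e.inv c = c • e.inv (1 : R') :=
    (congrArg e.inv (show c = c • (1 : R') from (mul_one c).symm)).trans (e.inv.hom.map_smul c 1)
  exact h.symm.trans h'

theorem eq_zero_of_ne {p : ℤ} (hp : p ≠ 0) (s : ((DTen.resCx φ).obj (𝟙_ (DRing.Cx R'))).X p) : s = 0 :=
  @Subsingleton.elim _ (ModuleCat.subsingleton_of_isZero
    ((ModuleCat.restrictScalars φ).map_isZero (isZero_single_obj_X (ComplexShape.up ℤ) 0 _ _ hp))) _ _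

theorem resCx_map_f {X Y : DRing.Cx R'} (f : X ⟶ Y) (n : ℤ) (x : X.X n) :
    ((DTen.resCx φ).map f).f n (show ((DTen.resCx φ).obj X).X n from x) = f.f n x := rfl

theorem act_el (c : R') (q : ℤ) (x : P.X q) :
    (actCx φ P).f q (el ((DTen.resCx φ).obj (𝟙_ _)) ((DTen.resCx φ).obj P) 0 q q (zero_add q) (oneR φ c) x) =
      (c • x : P.X q) := by
  simp only [actCx, HomologicalComplex.comp_f, ConcreteCategory.comp_apply]
  have e₁ : (resTenCx φ (𝟙_ (DRing.Cx R')) P).f q
      (el ((DTen.resCx φ).obj (𝟙_ _)) ((DTen.resCx φ).obj P) 0 q q (zero_add q) (oneR φ c) x) =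
      (el (𝟙_ (DRing.Cx R')) P 0 q q (zero_add q) (c • one R') x) := by
    have e := resTen_el φ (𝟙_ (DRing.Cx R')) P (zero_add q) (c • one R') x
    delta oneR
    exact e
  have e₂ : (λ_ P).hom.f q (el (𝟙_ (DRing.Cx R')) P 0 q q (zero_add q) (c • one R') x) = c • x := by
    rw [el_smul_left, map_smul, leftUnitor_el]
  refine (congrArg _ e₁).trans ?_
  exact (resCx_map_f φ (λ_ P).hom q _).trans e₂

theorem act_assoc_el (c : R') {q r n : ℤ} (h : q + r = n) (x : P.X q) (z : Q.X r) :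
    (actCx φ (P ⊗ Q)).f n (((DTen.resCx φ).obj (𝟙_ _) ◁ resTenCx φ P Q).f n
      (el _ ((DTen.resCx φ).obj P ⊗ (DTen.resCx φ).obj Q) 0 n n (zero_add n) (oneR φ c)
        (el ((DTen.resCx φ).obj P) ((DTen.resCx φ).obj Q) q r n h x z))) = c • el P Q q r n h x z := by
  have e₁ := whiskerLeft_el (K := (DTen.resCx φ).obj (𝟙_ (DRing.Cx R'))) (resTenCx φ P Q) (zero_add n) (oneR φ c)
    (el ((DTen.resCx φ).obj P) ((DTen.resCx φ).obj Q) q r n h x z)
  have e₂ := resTen_el φ P Q h x z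
  exact (congrArg (fun w => (actCx φ (P ⊗ Q)).f n w) (e₁.trans (congrArg _ e₂))).trans
    (act_el φ (P ⊗ Q) c n _)

theorem act_assoc_el' (c : R') {q r n : ℤ} (h : q + r = n) (x : P.X q) (z : Q.X r) :
    (resTenCx φ P Q).f n ((actCx φ P ▷ (DTen.resCx φ).obj Q).f n
      (el _ ((DTen.resCx φ).obj Q) q r n h
        (el ((DTen.resCx φ).obj (𝟙_ _)) ((DTen.resCx φ).obj P) 0 q q (zero_add q) (oneR φ c) x) z)) =
      c • el P Q q r n h x z := by
  have e₁ := whiskerRight_el (L := (DTen.resCx φ).obj Q) (actCx φ P) h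
    (el ((DTen.resCx φ).obj (𝟙_ _)) ((DTen.resCx φ).obj P) 0 q q (zero_add q) (oneR φ c) x) z
  have e₂ := act_el φ P c q x
  exact (congrArg (fun w => (resTenCx φ P Q).f n w)
    (e₁.trans (congrArg (fun u => el ((DTen.resCx φ).obj P) ((DTen.resCx φ).obj Q) q r n h u z) e₂))).trans
      ((resTen_el φ P Q h (c • x) z).trans (el_smul_left c x z))

theorem hom_ext_el₃ {A : Type u} [CommRing A] {K L M : DRing.Cx A} {n : ℤ} {T : ModuleCat.{u} A}
    {f g : ((K ⊗ L) ⊗ M : DRing.Cx A).X n ⟶ T}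
    (H : ∀ (p q m r : ℤ) (h₁ : p + q = m) (h₂ : m + r = n) (x : K.X p) (y : L.X q) (z : M.X r),
      f (el (K ⊗ L) M m r n h₂ (el K L p q m h₁ x y) z) = g (el (K ⊗ L) M m r n h₂ (el K L p q m h₁ x y) z)) :
    f = g := by
  refine mapBifunctor.hom_ext fun m r hm => ?_
  refine ModuleCat.hom_ext (TensorProduct.ext' fun w z => ?_)
  show f (el (K ⊗ L) M m r n hm w z) = g (el (K ⊗ L) M m r n hm w z)
  let fz : (K ⊗ L : DRing.Cx A).X m →ₗ[A] T :=
    { toFun := fun w => f (el (K ⊗ L) M m r n hm w z)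
      map_add' := fun a b => by rw [el, TensorProduct.add_tmul, map_add, map_add]; rfl
      map_smul' := fun a b => by rw [el_smul_left, map_smul]; rfl }
  let gz : (K ⊗ L : DRing.Cx A).X m →ₗ[A] T :=
    { toFun := fun w => g (el (K ⊗ L) M m r n hm w z)
      map_add' := fun a b => by rw [el, TensorProduct.add_tmul, map_add, map_add]; rfl
      map_smul' := fun a b => by rw [el_smul_left, map_smul]; rfl }
  show fz w = gz w
  suffices h : ModuleCat.ofHom fz = ModuleCat.ofHom gz from congrArg (fun e => e w) h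
  exact hom_ext_el fun p q h x y => H p q m r h hm x y z

theorem act_assoc :
    (α_ ((DTen.resCx φ).obj (𝟙_ _)) ((DTen.resCx φ).obj P) ((DTen.resCx φ).obj Q)).hom ≫
        (DTen.resCx φ).obj (𝟙_ _) ◁ resTenCx φ P Q ≫ actCx φ (P ⊗ Q) =
      actCx φ P ▷ (DTen.resCx φ).obj Q ≫ resTenCx φ P Q := by
  refine HomologicalComplex.hom_ext _ _ fun n => hom_ext_el₃ fun p q m r h₁ h₂ s x z => ?_
  simp only [HomologicalComplex.comp_f, ConcreteCategory.comp_apply]
  rw [assoc_el h₁ h₂ (show q + r = q + r from rfl) (by omega)]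
  by_cases hp : p = 0
  · subst hp
    obtain rfl : q = m := by omega
    obtain rfl : q + r = n := h₂
    obtain ⟨c, rfl⟩ := exists_oneR φ s
    exact (act_assoc_el φ P Q c rfl x z).trans (act_assoc_el' φ P Q c rfl x z).symm
  · rw [eq_zero_of_ne φ hp s]
    simp

end Cx

/-- `res R' ⊗ P ⟶ res (R' ⊗ P)`. -/
noncomputable def piCx (P : DRing.Cx R) :
    (DTen.resCx φ).obj (𝟙_ (DRing.Cx R')) ⊗ P ⟶ (DTen.resCx φ).obj ((DTen.extCx φ).obj P) :=
  _ ◁ (DTen.unitCx φ).app P ≫ actCx φ ((DTen.extCx φ).obj P)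

theorem piCx_el (P : DRing.Cx R) (c : R') (n : ℤ) (x : P.X n) :
    (piCx φ P).f n (el ((DTen.resCx φ).obj (𝟙_ _)) P 0 n n (zero_add n) (oneR φ c) x) =
      (c ⊗ₜ[R,φ] x : ((DTen.extCx φ).obj P).X n) := by
  have e₁ := whiskerLeft_el (K := (DTen.resCx φ).obj (𝟙_ (DRing.Cx R'))) ((DTen.unitCx φ).app P) (zero_add n)
    (oneR φ c) x
  have e₂ := act_el φ ((DTen.extCx φ).obj P) c n (oneT φ x)
  have e₃ : c • oneT φ x = (c ⊗ₜ[R,φ] x : ((DTen.extCx φ).obj P).X n) := by
    show ((c * 1) ⊗ₜ[R,φ] x) = _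
    rw [mul_one]
    rfl
  exact (congrArg (fun z => (actCx φ ((DTen.extCx φ).obj P)).f n z) e₁).trans (e₂.trans e₃)

theorem oneR_add (c c' : R') : oneR φ (c + c') = oneR φ c + oneR φ c' :=
  add_smul c c' (one R')

theorem oneR_smul (r : R) (c : R') : oneR φ (φ r * c) = r • oneR φ c :=
  (smul_smul (φ r) c (one R')).symm

theorem isIso_piCx (P : DRing.Cx R) : IsIso (piCx φ P) := by
  haveI : ∀ n, IsIso ((piCx φ P).f n) := fun n => by
    letI := φ.toAlgebra
    let Tgt := ((DTen.resCx φ).obj (𝟙_ (DRing.Cx R')) ⊗ P : DRing.Cx R).X n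
    let g : R' →ₗ[R] P.X n →ₗ[R] Tgt := LinearMap.mk₂ R
      (fun c x => el ((DTen.resCx φ).obj (𝟙_ _)) P 0 n n (zero_add n) (oneR φ c) x)
      (fun a b x => by rw [oneR_add, el_add_left])
      (fun r a x => by rw [Algebra.smul_def, RingHom.algebraMap_toAlgebra, oneR_smul, el_smul_left])
      (fun a x y => el_add_right _ _ _)
      (fun r a x => el_smul_right _ _ _)
    let ψ := TensorProduct.lift g
    let toT : ((DTen.resCx φ).obj ((DTen.extCx φ).obj P)).X n → R' ⊗[R] P.X n := fun t => t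
    let l : Tgt →ₗ[R] Tgt :=
      { toFun := fun z => ψ (toT ((piCx φ P).f n z))
        map_add' := fun a b => by
          have e : toT ((piCx φ P).f n (a + b)) = toT ((piCx φ P).f n a) + toT ((piCx φ P).f n b) :=
            map_add ((piCx φ P).f n).hom a b
          rw [e, map_add]
        map_smul' := fun r a => by
          have h1 : toT ((piCx φ P).f n (r • a)) = φ r • toT ((piCx φ P).f n a) :=
            ((piCx φ P).f n).hom.map_smul r a
          have h2 : φ r • toT ((piCx φ P).f n a) = r • toT ((piCx φ P).f n a) :=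
            algebraMap_smul R' r (toT ((piCx φ P).f n a))
          rw [h1, h2, map_smul]; rfl }
    have hl : ModuleCat.ofHom l = 𝟙 _ := hom_ext_el fun p q h s x => by
      by_cases hp : p = 0
      · subst hp
        obtain rfl : q = n := by omega
        obtain ⟨c, rfl⟩ := exists_oneR φ s
        exact (congrArg (fun z => ψ (toT z)) (piCx_el φ P c q x)).trans (TensorProduct.lift.tmul c x)
      · rw [eq_zero_of_ne φ hp s]
        simp
    have left : ∀ z, ψ (toT ((piCx φ P).f n z)) = z := fun z => congrArg (fun e => e z) hl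
    have right : ∀ t : R' ⊗[R] P.X n, toT ((piCx φ P).f n (ψ t)) = t := fun t => by
      induction t using TensorProduct.induction_on with
      | zero => rw [map_zero, map_zero]; rfl
      | tmul c x => exact (congrArg _ (congrArg _ (TensorProduct.lift.tmul c x))).trans (piCx_el φ P c n x)
      | add a b ha hb =>
        rw [map_add, map_add]
        show toT ((piCx φ P).f n (ψ a)) + toT ((piCx φ P).f n (ψ b)) = _
        rw [ha, hb]
    exact (ConcreteCategory.isIso_iff_bijective _).2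
      ⟨fun a b h => by rw [← left a, ← left b, h], fun t => ⟨ψ (toT t), right (toT t)⟩⟩
  exact HomologicalComplex.Hom.isIso_of_components _

variable [HasLTen R] [HasLTen R'] [HasResTen φ] [ResLegIso φ]

/-- `res R'`. -/
noncomputable abbrev resOne : Dual.D R := (DRing.restrictD φ).obj (DTen.unit R')

/-- The action `res R' ⊗ res A ⟶ res A`. -/
noncomputable def act (A : Dual.D R') :
    (LTen₂ R).obj (resOne φ, (DRing.restrictD φ).obj A) ⟶ (DRing.restrictD φ).obj A :=
  (resPF φ).app (DTen.unit R', A) ≫ (DRing.restrictD φ).map ((unitL R').app A)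

omit [HasLTen R'] [HasResTen φ] [ResLegIso φ] in
theorem split_left {a₀ a₁ a₂ a₃ b b' T : Dual.D R} (f : a₀ ⟶ a₁) {f' : a₁ ⟶ a₂} {f'' : a₂ ⟶ a₃}
    {g : b ⟶ b'} {h : (LTen₂ R).obj (a₃, b') ⟶ T} :
    tm (f ≫ f' ≫ f'') g ≫ h = tm f g ≫ tm f' (𝟙 b') ≫ tm f'' (𝟙 b') ≫ h := by
  rw [← tm_comp_assoc, ← tm_comp_assoc]
  simp

omit [HasLTen R'] [HasResTen φ] [ResLegIso φ] in
theorem split_right {a a' b₀ b₁ b₂ b₃ : Dual.D R} {f : a ⟶ a'} (g : b₀ ⟶ b₁) {g' : b₁ ⟶ b₂}
    {g'' : b₂ ⟶ b₃} :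
    tm f (g ≫ g' ≫ g'') = tm f g ≫ tm (𝟙 a') g' ≫ tm (𝟙 a') g'' := by
  rw [← tm_comp, ← tm_comp]
  simp

theorem resPF_natural {A A' B B' : Dual.D R'} (a : A ⟶ A') (b : B ⟶ B') :
    tm ((DRing.restrictD φ).map a) ((DRing.restrictD φ).map b) ≫ (resPF φ).app (A', B') =
      (resPF φ).app (A, B) ≫ (DRing.restrictD φ).map (tm a b) :=
  (resPF φ).naturality (X := (A, B)) (Y := (A', B')) (Prod.mkHom a b)

theorem act_natural {A A' : Dual.D R'} (a : A ⟶ A') :
    tm (𝟙 (resOne φ)) ((DRing.restrictD φ).map a) ≫ act φ A' = act φ A ≫ (DRing.restrictD φ).map a := by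
  have h := resPF_natural φ (𝟙 (DTen.unit R')) a
  rw [CategoryTheory.Functor.map_id] at h
  rw [act, act, reassoc_of% h, Category.assoc, ← Functor.map_comp, ← Functor.map_comp]
  congr 2
  exact (unitL R').naturality a

theorem resPF_Q (P P' : DRing.Cx R') :
    (resPF φ).app (DerivedCategory.Q.obj P, DerivedCategory.Q.obj P') ≫
        (DRing.restrictD φ).map ((ε R').app (P, P')) ≫ (DTen.resFactors φ).hom.app (P ⊗ P') =
      tm ((DTen.resFactors φ).hom.app P) ((DTen.resFactors φ).hom.app P') ≫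
        (ε R).app ((DTen.resCx φ).obj P, (DTen.resCx φ).obj P') ≫ DerivedCategory.Q.map (resTenCx φ P P') :=
  resPF_fac φ (P, P')

theorem act_Q (P : DRing.Cx R') :
    act φ (DerivedCategory.Q.obj P) ≫ (DTen.resFactors φ).hom.app P =
      tm ((DTen.resFactors φ).hom.app (𝟙_ (DRing.Cx R'))) ((DTen.resFactors φ).hom.app P) ≫
        (ε R).app ((DTen.resCx φ).obj (𝟙_ _), (DTen.resCx φ).obj P) ≫ DerivedCategory.Q.map (actCx φ P) := by
  have hn := (DTen.resFactors φ).hom.naturality (λ_ P).hom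
  dsimp at hn
  rw [act, unitL_app, Category.assoc, Functor.map_comp, Category.assoc]
  erw [hn, reassoc_of% resPF_Q φ (𝟙_ _) P]
  rw [actCx, Functor.map_comp]

variable [HasLTen₃ R] [IsSymMonoidal R]

/-- `resFactors`, with simplified types. -/
noncomputable def rf (P : DRing.Cx R') :
    (DRing.restrictD φ).obj (DerivedCategory.Q.obj P) ⟶ DerivedCategory.Q.obj ((DTen.resCx φ).obj P) :=
  (DTen.resFactors φ).hom.app P

instance isIso_rf (P : DRing.Cx R') : IsIso (rf φ P) :=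
  inferInstanceAs (IsIso ((DTen.resFactors φ).hom.app P))

omit [HasLTen₃ R] [IsSymMonoidal R] in
theorem resPF_Q' (P P' : DRing.Cx R') :
    (resPF φ).app (DerivedCategory.Q.obj P, DerivedCategory.Q.obj P') ≫
        (DRing.restrictD φ).map ((ε R').app (P, P')) ≫ rf φ (P ⊗ P') =
      tm (rf φ P) (rf φ P') ≫
        (ε R).app ((DTen.resCx φ).obj P, (DTen.resCx φ).obj P') ≫ DerivedCategory.Q.map (resTenCx φ P P') :=
  resPF_Q φ P P'

omit [HasLTen₃ R] [IsSymMonoidal R] in
theorem act_Q' (P : DRing.Cx R') :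
    act φ (DerivedCategory.Q.obj P) ≫ rf φ P =
      tm (rf φ (𝟙_ (DRing.Cx R'))) (rf φ P) ≫
        (ε R).app ((DTen.resCx φ).obj (𝟙_ _), (DTen.resCx φ).obj P) ≫ DerivedCategory.Q.map (actCx φ P) :=
  act_Q φ P

omit [HasLTen₃ R] [IsSymMonoidal R] in
theorem act_resPF_right (P P' : DRing.Cx R') :
    tm (act φ (DerivedCategory.Q.obj P)) (𝟙 ((DRing.restrictD φ).obj (DerivedCategory.Q.obj P'))) ≫
      (resPF φ).app (DerivedCategory.Q.obj P, DerivedCategory.Q.obj P') ≫
        (DRing.restrictD φ).map ((ε R').app (P, P')) ≫ rf φ (P ⊗ P') =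
      tm (tm (rf φ (𝟙_ _)) (rf φ P)) (rf φ P') ≫
        tm ((ε R).app ((DTen.resCx φ).obj (𝟙_ _), (DTen.resCx φ).obj P)) (𝟙 _) ≫
          (ε R).app ((DTen.resCx φ).obj (𝟙_ _) ⊗ (DTen.resCx φ).obj P, (DTen.resCx φ).obj P') ≫
            DerivedCategory.Q.map (actCx φ P ▷ (DTen.resCx φ).obj P' ≫ resTenCx φ P P') := by
  rw [resPF_Q', ← tm_comp_assoc, act_Q', Category.id_comp, split_left (tm (rf φ (𝟙_ _)) (rf φ P))]
  rw [Functor.map_comp]
  have h := ε_natural_left (A := R) (actCx φ P) ((DTen.resCx φ).obj P')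
  exact congrArg (fun z => tm (tm (rf φ (𝟙_ _)) (rf φ P)) (rf φ P') ≫
    tm ((ε R).app ((DTen.resCx φ).obj (𝟙_ _), (DTen.resCx φ).obj P)) (𝟙 _) ≫ z)
      ((Category.assoc _ _ _).symm.trans
        ((congrArg (fun w => w ≫ DerivedCategory.Q.map (resTenCx φ P P')) h).trans (Category.assoc _ _ _)))

omit [HasLTen₃ R] [IsSymMonoidal R] in
theorem act_resPF_left (P P' : DRing.Cx R') :
    tm (𝟙 (resOne φ)) ((resPF φ).app (DerivedCategory.Q.obj P, DerivedCategory.Q.obj P')) ≫
      act φ ((LTen₂ R').obj (DerivedCategory.Q.obj P, DerivedCategory.Q.obj P')) ≫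
        (DRing.restrictD φ).map ((ε R').app (P, P')) ≫ rf φ (P ⊗ P') =
      tm (rf φ (𝟙_ _)) (tm (rf φ P) (rf φ P')) ≫
        tm (𝟙 _) ((ε R).app ((DTen.resCx φ).obj P, (DTen.resCx φ).obj P')) ≫
          (ε R).app ((DTen.resCx φ).obj (𝟙_ _), (DTen.resCx φ).obj P ⊗ (DTen.resCx φ).obj P') ≫
            DerivedCategory.Q.map ((DTen.resCx φ).obj (𝟙_ _) ◁ resTenCx φ P P' ≫ actCx φ (P ⊗ P')) := by
  let e : (LTen₂ R').obj (DerivedCategory.Q.obj P, DerivedCategory.Q.obj P') ⟶ DerivedCategory.Q.obj (P ⊗ P') :=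
    (ε R').app (P, P')
  have hn := act_natural φ e
  show _ ≫ act φ _ ≫ (DRing.restrictD φ).map e ≫ _ = _
  rw [← reassoc_of% hn, act_Q', ← tm_comp_right_assoc, ← tm_comp_assoc, Category.id_comp, Category.assoc,
    show (resPF φ).app (DerivedCategory.Q.obj P, DerivedCategory.Q.obj P') ≫
      (DRing.restrictD φ).map e ≫ rf φ (P ⊗ P') = _ from resPF_Q' φ P P']
  rw [split_right (tm (rf φ P) (rf φ P'))]
  rw [Functor.map_comp]
  simp only [Category.assoc]
  have h := ε_natural_right (A := R) ((DTen.resCx φ).obj (𝟙_ (DRing.Cx R'))) (resTenCx φ P P')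
  exact congrArg (fun z => tm (rf φ (𝟙_ _)) (tm (rf φ P) (rf φ P')) ≫
    tm (𝟙 _) ((ε R).app ((DTen.resCx φ).obj P, (DTen.resCx φ).obj P')) ≫ z)
      ((Category.assoc _ _ _).symm.trans
        ((congrArg (fun w => w ≫ DerivedCategory.Q.map (actCx φ (P ⊗ P'))) h).trans (Category.assoc _ _ _)))

theorem act_resPF_Q (P P' : DRing.Cx R') (hP : IsKFl P) :
    (DTen.associator (resOne φ) ((DRing.restrictD φ).obj (DerivedCategory.Q.obj P))
        ((DRing.restrictD φ).obj (DerivedCategory.Q.obj P'))).hom ≫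
      tm (𝟙 _) ((resPF φ).app (DerivedCategory.Q.obj P, DerivedCategory.Q.obj P')) ≫
        act φ ((LTen₂ R').obj (DerivedCategory.Q.obj P, DerivedCategory.Q.obj P')) =
      tm (act φ (DerivedCategory.Q.obj P)) (𝟙 ((DRing.restrictD φ).obj (DerivedCategory.Q.obj P'))) ≫
        (resPF φ).app (DerivedCategory.Q.obj P, DerivedCategory.Q.obj P') := by
  haveI := isIso_ε (A := R') (K := P) (L := P') (Or.inl hP)
  rw [← cancel_mono ((DRing.restrictD φ).map ((ε R').app (P, P')) ≫ rf φ (P ⊗ P'))]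
  simp only [Category.assoc]
  refine (congrArg (fun z => (DTen.associator _ _ _).hom ≫ z) (act_resPF_left φ P P')).trans ?_
  refine Eq.trans ?_ (act_resPF_right φ P P').symm
  rw [← associator_natural_assoc]
  refine congrArg (fun z => tm (tm (rf φ (𝟙_ _)) (rf φ P)) (rf φ P') ≫ z) ?_
  rw [← act_assoc, Functor.map_comp _ (α_ _ _ _).hom, reassoc_of% associator_ε (A := R)]

theorem act_resPF (A B : Dual.D R') :
    (DTen.associator (resOne φ) ((DRing.restrictD φ).obj A) ((DRing.restrictD φ).obj B)).hom ≫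
        tm (𝟙 _) ((resPF φ).app (A, B)) ≫ act φ ((LTen₂ R').obj (A, B)) =
      tm (act φ A) (𝟙 _) ≫ (resPF φ).app (A, B) := by
  obtain ⟨P, hP, ⟨i⟩⟩ := exists_kproj A
  obtain ⟨P', -, ⟨j⟩⟩ := exists_kproj B
  haveI : P.IsKProjective := hP
  haveI : IsIso (tm (tm (𝟙 (resOne φ)) ((DRing.restrictD φ).map i.hom)) ((DRing.restrictD φ).map j.hom)) :=
    inferInstance
  rw [← cancel_epi (tm (tm (𝟙 (resOne φ)) ((DRing.restrictD φ).map i.hom)) ((DRing.restrictD φ).map j.hom))]
  rw [associator_natural_assoc, ← tm_comp_assoc, resPF_natural, ← tm_comp_assoc]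
  simp only [Category.id_comp, Category.comp_id]
  rw [tm_comp_right_assoc, act_natural, act_natural,
    show tm (act φ (DerivedCategory.Q.obj P) ≫ (DRing.restrictD φ).map i.hom) ((DRing.restrictD φ).map j.hom) =
      tm (act φ (DerivedCategory.Q.obj P)) (𝟙 _) ≫
        tm ((DRing.restrictD φ).map i.hom) ((DRing.restrictD φ).map j.hom) by rw [← tm_comp, Category.id_comp],
    Category.assoc, resPF_natural]
  exact (reassoc_of% (act_resPF_Q φ P P' (isKFl_of_isKProjective P))) _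

section Main

variable [HasRHom R] [HasRHom R'] [HasLBase φ]

/-- The projection formula `res R' ⊗ X ⟶ res (X ⊗ R')`. -/
noncomputable def baseProj (X : Dual.D R) :
    (LTen₂ R).obj (resOne φ, X) ⟶ (DRing.restrictD φ).obj ((LBase φ).obj X) :=
  tm (𝟙 _) ((baseAdj φ).unit.app X) ≫ act φ ((LBase φ).obj X)

omit [HasRHom R] [HasRHom R'] [HasLTen₃ R] [IsSymMonoidal R] in
theorem baseProj_natural {X X' : Dual.D R} (f : X ⟶ X') :
    tm (𝟙 _) f ≫ baseProj φ X' = baseProj φ X ≫ (DRing.restrictD φ).map ((LBase φ).map f) := by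
  have h := (baseAdj φ).unit.naturality f
  dsimp at h
  rw [baseProj, baseProj, Category.assoc, ← act_natural, ← tm_comp_right_assoc, ← tm_comp_right_assoc, h]

omit [HasRHom R] [HasRHom R'] [HasLTen₃ R] [IsSymMonoidal R] in
theorem baseProj_Q (P : DRing.Cx R) :
    baseProj φ (DerivedCategory.Q.obj P) ≫ (DRing.restrictD φ).map ((DTen.baseCmp φ).app P) ≫
        (DTen.resFactors φ).hom.app ((DTen.extCx φ).obj P) =
      tm ((DTen.resFactors φ).hom.app (𝟙_ (DRing.Cx R'))) (𝟙 (DerivedCategory.Q.obj P)) ≫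
        (ε R).app ((DTen.resCx φ).obj (𝟙_ _), P) ≫ DerivedCategory.Q.map (piCx φ P) := by
  have hu : (baseAdj φ).unit.app (DerivedCategory.Q.obj P) ≫
      (DRing.restrictD φ).map ((DTen.baseCmp φ).app P) ≫ (DTen.resFactors φ).hom.app ((DTen.extCx φ).obj P) =
      DerivedCategory.Q.map ((DTen.unitCx φ).app P) := by
    rw [reassoc_of% DTen.baseCmp_fac φ P]
    dsimp [DTen.baseγ]
    rw [Category.assoc]
    erw [Iso.inv_hom_id_app, Category.comp_id]
  rw [baseProj, Category.assoc]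
  erw [reassoc_of% (act_natural φ ((DTen.baseCmp φ).app P)).symm, act_Q]
  erw [← tm_comp_assoc, ← tm_comp_assoc]
  simp only [Category.id_comp, Category.assoc]
  erw [hu]
  rw [piCx, Functor.map_comp,
    show tm ((DTen.resFactors φ).hom.app (𝟙_ (DRing.Cx R'))) (DerivedCategory.Q.map ((DTen.unitCx φ).app P)) =
      tm ((DTen.resFactors φ).hom.app (𝟙_ (DRing.Cx R'))) (𝟙 _) ≫
        tm (𝟙 _) (DerivedCategory.Q.map ((DTen.unitCx φ).app P)) by rw [← tm_comp, Category.comp_id, Category.id_comp]]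
  simp only [Category.assoc]
  erw [ε_natural_right_assoc]
  rfl

omit [HasRHom R] [HasRHom R'] [HasLTen₃ R] [IsSymMonoidal R] in
theorem isIso_baseProj (X : Dual.D R) : IsIso (baseProj φ X) := by
  obtain ⟨P, hP, ⟨i⟩⟩ := exists_kproj X
  haveI : P.IsKProjective := hP
  haveI := isIso_baseCmp φ (isKFl_of_isKProjective P)
  haveI := isIso_ε (A := R) (K := (DTen.resCx φ).obj (𝟙_ _)) (L := P) (Or.inr (isKFl_of_isKProjective P))
  haveI := isIso_piCx φ P
  haveI : IsIso (baseProj φ (DerivedCategory.Q.obj P) ≫ (DRing.restrictD φ).map ((DTen.baseCmp φ).app P) ≫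
      (DTen.resFactors φ).hom.app ((DTen.extCx φ).obj P)) := by
    rw [baseProj_Q]
    exact IsIso.comp_isIso' inferInstance
      (IsIso.comp_isIso' ‹IsIso ((ε R).app ((DTen.resCx φ).obj (𝟙_ _), P))› inferInstance)
  haveI : IsIso (baseProj φ (DerivedCategory.Q.obj P)) := IsIso.of_isIso_comp_right _
    ((DRing.restrictD φ).map ((DTen.baseCmp φ).app P) ≫ (DTen.resFactors φ).hom.app ((DTen.extCx φ).obj P))
  haveI : IsIso (tm (𝟙 (resOne φ)) i.hom ≫ baseProj φ X) := by
    rw [baseProj_natural]; infer_instance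
  exact IsIso.of_isIso_comp_left (tm (𝟙 (resOne φ)) i.hom) _

theorem baseProj_tensor (X K : Dual.D R) :
    (DTen.associator (resOne φ) X K).hom ≫ baseProj φ ((LTen₂ R).obj (X, K)) ≫
        (DRing.restrictD φ).map (baseDelta φ X K) =
      tm (baseProj φ X) ((baseAdj φ).unit.app K) ≫ (resPF φ).app ((LBase φ).obj X, (LBase φ).obj K) := by
  have h : (baseAdj φ).unit.app ((LTen₂ R).obj (X, K)) ≫ (DRing.restrictD φ).map (baseDelta φ X K) =
      tm ((baseAdj φ).unit.app X) ((baseAdj φ).unit.app K) ≫ (resPF φ).app ((LBase φ).obj X, (LBase φ).obj K) :=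
    ((baseAdj φ).homEquiv_unit _ _ _).symm.trans (Equiv.apply_symm_apply _ _)
  rw [baseProj, Category.assoc, ← act_natural, ← tm_comp_right_assoc, h, tm_comp_right, Category.assoc,
    ← associator_natural_assoc]
  erw [act_resPF, ← tm_comp_assoc, Category.comp_id]
  rfl

theorem rhomBC_bcEv {W K M : Dual.D R} (v : (LTen₂ R).obj (W, K) ⟶ M) :
    baseProj φ W ≫ (DRing.restrictD φ).map (rhomHomEquiv _ _ _ (bcEv φ v)) ≫ rhomBC φ K ((LBase φ).obj M) =
      rhomHomEquiv _ _ _ (auxTen (resOne φ) v ≫ baseProj φ M) := by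
  haveI := isIso_baseDelta φ W K
  let g := rhomHomEquiv _ _ _ (bcEv φ v)
  have hg : tm g (𝟙 _) ≫ DTen.ev ((LBase φ).obj K) ((LBase φ).obj M) = bcEv φ v :=
    ((rhomAdj R' _).homEquiv_counit _ _ _).symm.trans (Equiv.symm_apply_apply _ _)
  have hcore : tm ((DRing.restrictD φ).map g) (𝟙 K) ≫ rhomBCCore φ K ((LBase φ).obj M) =
      tm (𝟙 _) ((baseAdj φ).unit.app K) ≫ (resPF φ).app ((LBase φ).obj W, (LBase φ).obj K) ≫
        (DRing.restrictD φ).map (bcEv φ v) := by
    rw [← hg, Functor.map_comp, rhomBCCore]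
    erw [tm_exchange_assoc]
    have h := resPF_natural φ g (𝟙 ((LBase φ).obj K))
    rw [CategoryTheory.Functor.map_id] at h
    erw [reassoc_of% h]
  show _ ≫ _ ≫ rhomHomEquiv _ _ _ (rhomBCCore φ K _) = _
  rw [← adjunct_symm, ← adjunct_symm, hcore, ← tm_comp_assoc, Category.comp_id, Category.id_comp,
    ← reassoc_of% baseProj_tensor φ W K, bcEv, Functor.map_comp, ← Functor.map_comp_assoc, IsIso.hom_inv_id,
    CategoryTheory.Functor.map_id, Category.id_comp, ← baseProj_natural]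
  simp only [auxTen, Category.assoc]

theorem isUniv_bcEv_of_isPerfectModule (hS : DRing.IsPerfect R (resOne φ)) {W K M : Dual.D R}
    {v : (LTen₂ R).obj (W, K) ⟶ M} (hv : IsUniv v) : IsIso (rhomHomEquiv _ _ _ (bcEv φ v)) := by
  obtain ⟨E, N, ⟨D⟩, ⟨i⟩⟩ := exists_dualizable hS
  have hu : IsUniv (auxTen (resOne φ) v) := by
    have h := ((isUniv_auxTen_left D hv).of_iso
      ((LTen₂ R).mapIso (Iso.prod i.symm (Iso.refl W)))).comp_iso (tm i.hom (𝟙 M))
    have e : auxTen (resOne φ) v =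
        (tm (tm i.inv (𝟙 W)) (𝟙 K) ≫ auxTen (DerivedCategory.Q.obj E) v) ≫ tm i.hom (𝟙 M) := by
      rw [tm_auxTen, Category.assoc, ← tm_comp_left, Iso.inv_hom_id, tm_id, Category.comp_id]
    rw [e]
    exact h
  haveI := isIso_baseProj φ W
  haveI := isIso_baseProj φ M
  haveI := isIso_rhomBC φ K ((LBase φ).obj M)
  haveI := isIso_adjunct (hu.comp_iso (baseProj φ M))
  haveI : IsIso (baseProj φ W ≫ (DRing.restrictD φ).map (rhomHomEquiv _ _ _ (bcEv φ v)) ≫
      rhomBC φ K ((LBase φ).obj M)) := by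
    rw [rhomBC_bcEv]; assumption
  haveI : IsIso ((DRing.restrictD φ).map (rhomHomEquiv _ _ _ (bcEv φ v)) ≫ rhomBC φ K ((LBase φ).obj M)) :=
    IsIso.of_isIso_comp_left (baseProj φ W) _
  haveI : IsIso ((DRing.restrictD φ).map (rhomHomEquiv _ _ _ (bcEv φ v))) :=
    IsIso.of_isIso_comp_right _ (rhomBC φ K ((LBase φ).obj M))
  exact isIso_of_restrictD φ _

theorem isIso_bcRHom_of_perfect_target (hS : DRing.IsPerfect R (resOne φ)) (K M : Dual.D R)
    [IsIso (rhomBC φ K ((LBase φ).obj M))] : IsIso (bcRHom φ K M) := by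
  haveI := isUniv_bcEv_of_isPerfectModule φ hS (isUniv_ev K M)
  have e : rhomHomEquiv _ _ _ (bcEv φ (DTen.ev K M)) = bcRHom φ K M := by
    rw [← bcRHom_adjunct, adjunct_symm]
    have e : rhomHomEquiv _ _ _ (DTen.ev ((LBase φ).obj K) ((LBase φ).obj M)) = 𝟙 _ :=
      ((rhomAdj R' _).homEquiv_unit _ _ _).trans ((rhomAdj R' _).right_triangle_components _)
    rw [e, Category.comp_id]
  rw [← e]
  assumption

end Main

omit [HasLTen R] [HasLTen R'] [HasLTen₃ R] [IsSymMonoidal R] in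
/-- `res R'` is the module `R'`. -/
theorem nonempty_resOne_iso [Algebra R R'] :
    Nonempty (Dual.inD R R' ≅ (DRing.restrictD (algebraMap R R')).obj (DTen.unit R')) := by
  let e : ModuleCat.of R R' ≅ (ModuleCat.restrictScalars (algebraMap R R')).obj (𝟙_ (ModuleCat.{u} R')) :=
    { hom := ModuleCat.ofHom (Y := (ModuleCat.restrictScalars (algebraMap R R')).obj (𝟙_ (ModuleCat.{u} R')))
        { toFun := fun x => x
          map_add' := fun _ _ => rfl
          map_smul' := fun r x => Algebra.smul_def r x }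
      inv := ModuleCat.ofHom (X := (ModuleCat.restrictScalars (algebraMap R R')).obj (𝟙_ (ModuleCat.{u} R')))
        { toFun := fun x => x
          map_add' := fun _ _ => rfl
          map_smul' := fun r x => (Algebra.smul_def (A := R') r x).symm }
      hom_inv_id := rfl
      inv_hom_id := rfl }
  exact ⟨((DerivedCategory.singleFunctorIsoCompQ _ 0).app _) ≪≫ DerivedCategory.Q.mapIso
      ((HomologicalComplex.single _ (ComplexShape.up ℤ) 0).mapIso e ≪≫
        ((HomologicalComplex.singleMapHomologicalComplex (ModuleCat.restrictScalars.{u} (algebraMap R R'))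
          (ComplexShape.up ℤ) 0).app _).symm) ≪≫ ((DTen.resFactors (algebraMap R R')).app _).symm⟩

theorem isSymMonoidal (A : Type u) [CommRing A] [HasLTen A] [HasLTen₃ A] : IsSymMonoidal A where
  isIso_symm := DTenLib.isIso_symm
  isIso_unitL := by
    refine (NatTrans.isIso_iff_isIso_app _).2 fun L => ?_
    obtain ⟨P, hP, ⟨e⟩⟩ := exists_kproj L
    haveI : P.IsKProjective := hP
    refine (NatTrans.isIso_app_iff_of_iso (DTen.unitL A) e).1 ?_
    rw [unitL_app]
    haveI := isIso_ε (A := A) (K := 𝟙_ (DRing.Cx A)) (L := P) (Or.inr (isKFl_of_isKProjective P))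
    exact IsIso.comp_isIso' ‹_› inferInstance
  isIso_unitR := by
    refine (NatTrans.isIso_iff_isIso_app _).2 fun L => ?_
    obtain ⟨P, hP, ⟨e⟩⟩ := exists_kproj L
    haveI : P.IsKProjective := hP
    refine (NatTrans.isIso_app_iff_of_iso (DTen.unitR A) e).1 ?_
    rw [unitR_app]
    haveI := isIso_ε (A := A) (K := P) (L := 𝟙_ (DRing.Cx A)) (Or.inl (isKFl_of_isKProjective P))
    exact IsIso.comp_isIso' ‹_› inferInstance
  isIso_assocL := DTenLib.isIso_assocL
  isIso_assocR := DTenLib.isIso_assocR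

end Groth.Agent.DTenLib
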