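import Groth.Agent.DTenLib.Elem
import Groth.Prelude.Def_DTen6
import Mathlib.Algebra.Category.ModuleCat.Monoidal.Adjunction
import Mathlib.CategoryTheory.Monoidal.Rigid.Basic

/-!
# Extension of scalars of complexes is monoidal
-/

universe u

open CategoryTheory Limits MonoidalCategory HomologicalComplex
open scoped TensorProduct ChangeOfRings

namespace Groth.Agent.DTenLib

variable {R S : Type u} [CommRing R] [CommRing S] (φ : R →+* S)

/-- `1 ⊗ x`. -/
noncomputable def oneT {X : DRing.Cx R} {n : ℤ} (x : X.X n) : ((DTen.extCx φ).obj X).X n := (1 : S) ⊗ₜ[R,φ] x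

theorem map_oneT {X Y : DRing.Cx R} (f : X ⟶ Y) {n : ℤ} (x : X.X n) :
    ((DTen.extCx φ).map f).f n (oneT φ x) = oneT φ (f.f n x) := rfl

theorem ext_oneT {X : DRing.Cx R} {n : ℤ} {T : ModuleCat.{u} S} {f g : ((DTen.extCx φ).obj X).X n ⟶ T}
    (H : ∀ x : X.X n, f (oneT φ x) = g (oneT φ x)) : f = g :=
  ModuleCat.ExtendScalars.hom_ext (fun x => H x)

theorem extTen_el (X Y : DRing.Cx R) {p q n : ℤ} (h : p + q = n) (x : X.X p) (y : Y.X q) :
    (DTen.extTenCxIso φ X Y).hom.f n (oneT φ (el X Y p q n h x y)) =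
      el ((DTen.extCx φ).obj X) ((DTen.extCx φ).obj Y) p q n h (oneT φ x) (oneT φ y) :=
  (congrArg (fun f => f ((1 : S) ⊗ₜ[R,φ] (x ⊗ₜ[R] y))) (DTen.map_ι_extTenCxIso_hom φ X Y p q n h)).trans rfl

theorem extTen_inv_el (X Y : DRing.Cx R) {p q n : ℤ} (h : p + q = n) (x : X.X p) (y : Y.X q) :
    (DTen.extTenCxIso φ X Y).inv.f n
      (el ((DTen.extCx φ).obj X) ((DTen.extCx φ).obj Y) p q n h (oneT φ x) (oneT φ y)) =
      oneT φ (el X Y p q n h x y) := by
  rw [← extTen_el φ X Y h x y]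
  exact congrArg (fun f => f (oneT φ (el X Y p q n h x y)))
    (congrArg (fun f => HomologicalComplex.Hom.f f n) (DTen.extTenCxIso φ X Y).hom_inv_id)

/-- The comparison of units. -/
noncomputable def extUnit : 𝟙_ (DRing.Cx S) ≅ (DTen.extCx φ).obj (𝟙_ (DRing.Cx R)) :=
  ((HomologicalComplex.singleMapHomologicalComplex (ModuleCat.extendScalars.{u, u, u} φ) (ComplexShape.up ℤ) 0).app
      (𝟙_ (ModuleCat.{u} R)) ≪≫
    (HomologicalComplex.single (ModuleCat.{u} S) (ComplexShape.up ℤ) 0).mapIso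
      (Functor.Monoidal.εIso (ModuleCat.extendScalars.{u, u, u} φ)).symm).symm

theorem extUnit_one : (extUnit φ).hom.f 0 (one S) = oneT φ (one R) := by
  rw [extUnit, Iso.symm_hom, Iso.trans_inv, HomologicalComplex.comp_f, ConcreteCategory.comp_apply]
  erw [HomologicalComplex.singleMapHomologicalComplex_inv_app_self, Functor.mapIso_inv,
    HomologicalComplex.single_map_f_self]
  rw [one, one]
  simp
  rfl

theorem ext_associativity (X Y Z : DRing.Cx R) :
    (DTen.extCx φ).map (α_ X Y Z).hom ≫ (DTen.extTenCxIso φ X (Y ⊗ Z)).hom ≫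
        (DTen.extCx φ).obj X ◁ (DTen.extTenCxIso φ Y Z).hom =
      (DTen.extTenCxIso φ (X ⊗ Y) Z).hom ≫ (DTen.extTenCxIso φ X Y).hom ▷ (DTen.extCx φ).obj Z ≫ (α_ _ _ _).hom := by
  let Φ := (DTen.extCx φ).map (α_ X Y Z).hom ≫ (DTen.extTenCxIso φ X (Y ⊗ Z)).hom ≫
        (DTen.extCx φ).obj X ◁ (DTen.extTenCxIso φ Y Z).hom
  let Ψ := (DTen.extTenCxIso φ (X ⊗ Y) Z).hom ≫ (DTen.extTenCxIso φ X Y).hom ▷ (DTen.extCx φ).obj Z ≫
        (α_ _ _ _).hom
  refine HomologicalComplex.hom_ext _ _ fun n => ext_oneT φ fun t => ?_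
  let f : ((X ⊗ Y) ⊗ Z : DRing.Cx R).X n ⟶
      (ModuleCat.restrictScalars φ).obj
        (((DTen.extCx φ).obj X ⊗ ((DTen.extCx φ).obj Y ⊗ (DTen.extCx φ).obj Z) : DRing.Cx S).X n) :=
    (ModuleCat.extendRestrictScalarsAdj φ).homEquiv _ _ (Φ.f n)
  let g : ((X ⊗ Y) ⊗ Z : DRing.Cx R).X n ⟶
      (ModuleCat.restrictScalars φ).obj
        (((DTen.extCx φ).obj X ⊗ ((DTen.extCx φ).obj Y ⊗ (DTen.extCx φ).obj Z) : DRing.Cx S).X n) :=
    (ModuleCat.extendRestrictScalarsAdj φ).homEquiv _ _ (Ψ.f n)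
  show f t = g t
  suffices h : f = g by rw [h]
  refine mapBifunctor.hom_ext fun m r hm => ?_
  refine ModuleCat.hom_ext (TensorProduct.ext' fun w z => ?_)
  show f (el (X ⊗ Y) Z m r n hm w z) = g (el (X ⊗ Y) Z m r n hm w z)
  let fz : (X ⊗ Y : DRing.Cx R).X m →ₗ[R] _ :=
    { toFun := fun w => f (el (X ⊗ Y) Z m r n hm w z)
      map_add' := fun a b => by rw [el, TensorProduct.add_tmul, map_add, map_add]; rfl
      map_smul' := fun a b => by rw [el_smul_left, map_smul]; rfl }
  let gz : (X ⊗ Y : DRing.Cx R).X m →ₗ[R] _ :=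
    { toFun := fun w => g (el (X ⊗ Y) Z m r n hm w z)
      map_add' := fun a b => by rw [el, TensorProduct.add_tmul, map_add, map_add]; rfl
      map_smul' := fun a b => by rw [el_smul_left, map_smul]; rfl }
  show fz w = gz w
  suffices h : ModuleCat.ofHom fz = ModuleCat.ofHom gz from congrArg (fun e => e w) h
  refine hom_ext_el fun p q hp x y => ?_
  show Φ.f n (oneT φ (el (X ⊗ Y) Z m r n hm (el X Y p q m hp x y) z)) =
    Ψ.f n (oneT φ (el (X ⊗ Y) Z m r n hm (el X Y p q m hp x y) z))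
  have hn : p + (q + r) = n := by simp at hm; omega
  simp only [Φ, Ψ, HomologicalComplex.comp_f, ConcreteCategory.comp_apply]
  rw [map_oneT, assoc_el (K := X) (L := Y) (M := Z) (k := q + r) hp hm rfl hn, extTen_el]
  erw [whiskerLeft_el, extTen_el, extTen_el, whiskerRight_el, extTen_el]
  exact (assoc_el hp hm rfl hn (oneT φ x) (oneT φ y) (oneT φ z)).symm

theorem el_add_left {A : Type u} [CommRing A] {K L : DRing.Cx A} {p q n : ℤ} {h : p + q = n} (x x' : K.X p)
    (y : L.X q) : el K L p q n h (x + x') y = el K L p q n h x y + el K L p q n h x' y := by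
  rw [el, TensorProduct.add_tmul, map_add]; rfl

theorem el_add_right {A : Type u} [CommRing A] {K L : DRing.Cx A} {p q n : ℤ} {h : p + q = n} (x : K.X p)
    (y y' : L.X q) : el K L p q n h x (y + y') = el K L p q n h x y + el K L p q n h x y' := by
  rw [el, TensorProduct.tmul_add, map_add]; rfl

theorem ext_left_unitality (X : DRing.Cx R) :
    (λ_ ((DTen.extCx φ).obj X)).hom = (extUnit φ).hom ▷ (DTen.extCx φ).obj X ≫
      (DTen.extTenCxIso φ _ X).inv ≫ (DTen.extCx φ).map (λ_ X).hom := by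
  refine cx_ext_left_one fun p z => ?_
  let T := (extUnit φ).hom ▷ (DTen.extCx φ).obj X ≫
      (DTen.extTenCxIso φ _ X).inv ≫ (DTen.extCx φ).map (λ_ X).hom
  let f : ((DTen.extCx φ).obj X).X p →ₗ[S] ((DTen.extCx φ).obj X).X p :=
    { toFun := fun z => T.f p (el (𝟙_ (DRing.Cx S)) _ 0 p p (zero_add p) (one S) z)
      map_add' := fun a b => by rw [el_add_right, map_add]
      map_smul' := fun a b => by rw [el_smul_right, map_smul]; rfl }
  rw [leftUnitor_el]
  show z = f z
  suffices h : ModuleCat.ofHom f = 𝟙 _ from (congrArg (fun e => e z) h).symm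
  refine ext_oneT φ fun x => ?_
  show T.f p (el (𝟙_ (DRing.Cx S)) _ 0 p p (zero_add p) (one S) (oneT φ x)) = oneT φ x
  simp only [T, HomologicalComplex.comp_f, ConcreteCategory.comp_apply]
  erw [whiskerRight_el, extUnit_one, extTen_inv_el, map_oneT, leftUnitor_el]

theorem ext_right_unitality (X : DRing.Cx R) :
    (ρ_ ((DTen.extCx φ).obj X)).hom = (DTen.extCx φ).obj X ◁ (extUnit φ).hom ≫
      (DTen.extTenCxIso φ X _).inv ≫ (DTen.extCx φ).map (ρ_ X).hom := by
  refine cx_ext_right_one fun p z => ?_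
  let T := (DTen.extCx φ).obj X ◁ (extUnit φ).hom ≫
      (DTen.extTenCxIso φ X _).inv ≫ (DTen.extCx φ).map (ρ_ X).hom
  let f : ((DTen.extCx φ).obj X).X p →ₗ[S] ((DTen.extCx φ).obj X).X p :=
    { toFun := fun z => T.f p (el _ (𝟙_ (DRing.Cx S)) p 0 p (add_zero p) z (one S))
      map_add' := fun a b => by rw [el_add_left, map_add]
      map_smul' := fun a b => by rw [el_smul_left, map_smul]; rfl }
  rw [rightUnitor_el]
  show z = f z
  suffices h : ModuleCat.ofHom f = 𝟙 _ from (congrArg (fun e => e z) h).symm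
  refine ext_oneT φ fun x => ?_
  show T.f p (el _ (𝟙_ (DRing.Cx S)) p 0 p (add_zero p) (oneT φ x) (one S)) = oneT φ x
  simp only [T, HomologicalComplex.comp_f, ConcreteCategory.comp_apply]
  erw [whiskerLeft_el, extUnit_one, extTen_inv_el, map_oneT, rightUnitor_el]

/-- `extCx φ` is monoidal. -/
noncomputable def extMonoidalCore : (DTen.extCx φ).CoreMonoidal where
  εIso := extUnit φ
  μIso X Y := (DTen.extTenCxIso φ X Y).symm
  μIso_hom_natural_left f X' := by
    have h := DTen.extTenCxIso_inv_naturality φ f (𝟙 X')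
    rw [CategoryTheory.Functor.map_id, tensorHom_id, tensorHom_id] at h
    exact h
  μIso_hom_natural_right X' f := by
    have h := DTen.extTenCxIso_inv_naturality φ (𝟙 X') f
    rw [CategoryTheory.Functor.map_id, id_tensorHom, id_tensorHom] at h
    exact h
  associativity X Y Z := by
    have h := ext_associativity φ X Y Z
    rw [← cancel_mono ((DTen.extTenCxIso φ X (Y ⊗ Z)).hom ≫
      (DTen.extCx φ).obj X ◁ (DTen.extTenCxIso φ Y Z).hom)]
    simp only [Iso.symm_hom, Category.assoc]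
    erw [h]
    simp
  left_unitality X := ext_left_unitality φ X
  right_unitality X := ext_right_unitality φ X

/-- The monoidal structure. -/
@[reducible]
noncomputable def extMonoidal : (DTen.extCx φ).Monoidal := (extMonoidalCore φ).toMonoidal

end Groth.Agent.DTenLib
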