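import Mathlib.CategoryTheory.Monoidal.Rigid.Basic

/-!
# Monoidal functors preserve exact pairings
-/

universe v v' u u'

open CategoryTheory MonoidalCategory Functor

namespace Groth.Agent.DTenLib

open LaxMonoidal OplaxMonoidal

variable {C : Type u} [Category.{v} C] [MonoidalCategory C] {D : Type u'} [Category.{v'} D] [MonoidalCategory D]
  (F : C ⥤ D) [F.Monoidal] (X Y : C) [ExactPairing X Y]

/-- The image of an exact pairing. -/
@[reducible]
def mapPairing : ExactPairing (F.obj X) (F.obj Y) where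
  coevaluation' := LaxMonoidal.ε F ≫ F.map (ExactPairing.coevaluation X Y) ≫ δ F X Y
  evaluation' := LaxMonoidal.μ F Y X ≫ F.map (ExactPairing.evaluation X Y) ≫ OplaxMonoidal.η F
  coevaluation_evaluation' := by
    have h := congrArg F.map (ExactPairing.coevaluation_evaluation X Y)
    rw [Functor.map_comp, Functor.map_comp, Functor.map_comp, Monoidal.map_whiskerLeft, Monoidal.map_whiskerRight,
      Monoidal.map_associator_inv, Monoidal.map_rightUnitor, Monoidal.map_leftUnitor_inv] at h
    simp only [Category.assoc, Monoidal.μ_δ_assoc, Monoidal.μ_δ] at h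
    have h2 := congrArg (fun k => F.obj Y ◁ LaxMonoidal.ε F ≫ μ F Y (𝟙_ C) ≫ k ≫ δ F (𝟙_ C) Y ≫ OplaxMonoidal.η F ▷ F.obj Y) h
    simp only [Category.assoc, Monoidal.μ_δ_assoc, Monoidal.μ_δ] at h2
    simp only [MonoidalCategory.whiskerLeft_comp, MonoidalCategory.comp_whiskerRight, Category.assoc]
    refine h2.trans ?_
    simp
  evaluation_coevaluation' := by
    have h := congrArg F.map (ExactPairing.evaluation_coevaluation X Y)
    rw [Functor.map_comp, Functor.map_comp, Functor.map_comp, Monoidal.map_whiskerLeft, Monoidal.map_whiskerRight,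
      Monoidal.map_associator, Monoidal.map_leftUnitor, Monoidal.map_rightUnitor_inv] at h
    simp only [Category.assoc, Monoidal.μ_δ_assoc, Monoidal.μ_δ] at h
    have h2 := congrArg (fun k => LaxMonoidal.ε F ▷ F.obj X ≫ μ F (𝟙_ C) X ≫ k ≫ δ F X (𝟙_ C) ≫ F.obj X ◁ OplaxMonoidal.η F) h
    simp only [Category.assoc, Monoidal.μ_δ_assoc, Monoidal.μ_δ] at h2
    simp only [MonoidalCategory.whiskerLeft_comp, MonoidalCategory.comp_whiskerRight, Category.assoc]
    refine h2.trans ?_
    simp

end Groth.Agent.DTenLib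

namespace Groth.Agent.DTenLib

open CategoryTheory MonoidalCategory Functor LaxMonoidal OplaxMonoidal

variable {C : Type u} [Category.{v} C] [MonoidalCategory C] {D : Type u'} [Category.{v'} D] [MonoidalCategory D]
  (F : C ⥤ D) [F.Monoidal] (X Y : C) [ExactPairing X Y]

/-- A monoidal functor intertwines the counits of `tensorRight`. -/
theorem mapPairing_counit (P : C) :
    letI := mapPairing F X Y
    δ F P Y ▷ F.obj X ≫ (tensorRightAdjunction (F.obj X) (F.obj Y)).counit.app (F.obj P) =
      μ F (P ⊗ Y) X ≫ F.map ((tensorRightAdjunction X Y).counit.app P) := by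
  letI := mapPairing F X Y
  have e₁ : (tensorRightAdjunction X Y).counit.app P = (α_ P Y X).hom ≫ P ◁ ε_ X Y ≫ (ρ_ P).hom := by
    simp [tensorRightAdjunction, tensorRightHomEquiv, Adjunction.mkOfHomEquiv]
  have e₂ : ∀ Q : D, (tensorRightAdjunction (F.obj X) (F.obj Y)).counit.app Q =
      (α_ Q (F.obj Y) (F.obj X)).hom ≫ Q ◁ ε_ (F.obj X) (F.obj Y) ≫ (ρ_ Q).hom := fun Q => by
    simp [tensorRightAdjunction, tensorRightHomEquiv, Adjunction.mkOfHomEquiv]
  have e₃ : ε_ (F.obj X) (F.obj Y) = μ F Y X ≫ F.map (ε_ X Y) ≫ OplaxMonoidal.η F := rfl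
  rw [e₁, e₂, e₃]
  simp only [Functor.map_comp, Monoidal.map_associator, Monoidal.map_whiskerLeft, Category.assoc, Monoidal.μ_δ_assoc, MonoidalCategory.whiskerLeft_comp]
  congr 4
  rw [← cancel_epi (δ F P (𝟙_ C)), Monoidal.δ_μ_assoc, ← Monoidal.map_rightUnitor]

end Groth.Agent.DTenLib
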