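import Groth.Agent.DTenLib.RHomBC
import Groth.Agent.DTenLib.Eval
import Groth.Agent.DTenLib.ExtMonoidal
import Groth.Agent.DTenLib.MapPairing

/-!
# The base change map of `RHom` at perfect objects
-/

universe u

open CategoryTheory Limits MonoidalCategory HomologicalComplex DTen

namespace Groth.Agent.DTenLib

attribute [local instance] HasDerivedCategory.standard

set_option linter.style.haveILetI false

open Groth.Agent.DRingKFlat Groth.Agent.DRingTorAmp

variable {R R' : Type u} [CommRing R] [CommRing R'] (φ : R →+* R')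

theorem IsUniv.of_iso_right {A : Type u} [CommRing A] [HasLTen A] [HasRHom A] {L L' M W : Dual.D A}
    {a : (LTen₂ A).obj (W, L) ⟶ M} (h : IsUniv a) (i : L' ⟶ L) [IsIso i] : IsUniv (tm (𝟙 W) i ≫ a) := fun X => by
  have e : (fun g : X ⟶ W => tm g (𝟙 L') ≫ tm (𝟙 W) i ≫ a) =
      (fun x => (asIso (tm (𝟙 X) i)).hom ≫ x) ∘ fun g : X ⟶ W => tm g (𝟙 L) ≫ a :=
    funext fun g => tm_exchange_assoc _ _ _
  rw [e]
  exact ((asIso (tm (𝟙 X) i)).symm.homFromEquiv).bijective.comp (h X)

variable [HasLTen R] [HasLTen R'] [HasRHom R] [HasRHom R'] [HasLBase φ] [HasResTen φ] [ResLegIso φ]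

/-- The base change of an evaluation. -/
noncomputable def bcEv {W K M : Dual.D R} (v : (LTen₂ R).obj (W, K) ⟶ M) :
    (LTen₂ R').obj ((LBase φ).obj W, (LBase φ).obj K) ⟶ (LBase φ).obj M :=
  haveI := isIso_baseDelta φ W K
  inv (baseDelta φ W K) ≫ (LBase φ).map v

theorem bcEv_natural {W W' K K' M : Dual.D R} (f : W' ⟶ W) (g : K' ⟶ K) (v : (LTen₂ R).obj (W, K) ⟶ M) :
    bcEv φ (tm f g ≫ v) = tm ((LBase φ).map f) ((LBase φ).map g) ≫ bcEv φ v := by
  haveI := isIso_baseDelta φ W K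
  haveI := isIso_baseDelta φ W' K'
  rw [bcEv, bcEv, Functor.map_comp, IsIso.inv_comp_eq, ← reassoc_of% (baseDelta_natural φ f g),
    IsIso.hom_inv_id_assoc]

theorem bcEv_comp {W K M M' : Dual.D R} (v : (LTen₂ R).obj (W, K) ⟶ M) (j : M ⟶ M') :
    bcEv φ (v ≫ j) = bcEv φ v ≫ (LBase φ).map j := by
  rw [bcEv, bcEv, Functor.map_comp, Category.assoc]

theorem bcRHom_adjunct (K M : Dual.D R) [IsIso (rhomBC φ K ((LBase φ).obj M))] :
    tm (bcRHom φ K M) (𝟙 _) ≫ DTen.ev ((LBase φ).obj K) ((LBase φ).obj M) = bcEv φ (DTen.ev K M) := by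
  haveI := isIso_baseDelta φ ((RHomR R K).obj M) K
  rw [bcEv, IsIso.eq_inv_comp]
  apply ((baseAdj φ).homEquiv _ _).injective
  have hr : (baseAdj φ).homEquiv _ _ ((LBase φ).map (DTen.ev K M)) =
      DTen.ev K M ≫ (baseAdj φ).unit.app M := by
    rw [Adjunction.homEquiv_unit]
    exact ((baseAdj φ).unit.naturality (DTen.ev K M)).symm
  rw [hr, (baseAdj φ).homEquiv_naturality_right, baseDelta, Equiv.apply_symm_apply, Functor.map_comp]
  have hn := (resPF φ).naturality
    (Prod.mkHom (bcRHom φ K M) (𝟙 ((LBase φ).obj K)) :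
      (((LBase φ).obj ((RHomR R K).obj M), (LBase φ).obj K) : Dual.D R' × Dual.D R') ⟶
        ((RHomR R' ((LBase φ).obj K)).obj ((LBase φ).obj M), (LBase φ).obj K))
  dsimp at hn
  simp only [Category.assoc]
  erw [← reassoc_of% hn, ← tm_comp_assoc, bcRHom_fac, CategoryTheory.Functor.map_id, Category.comp_id]
  have hc : tm (inv (rhomBC φ K ((LBase φ).obj M))) (𝟙 K) ≫ rhomBCCore φ K ((LBase φ).obj M) =
      DTen.ev K ((DRing.restrictD φ).obj ((LBase φ).obj M)) := by
    rw [← cancel_epi (tm (rhomBC φ K ((LBase φ).obj M)) (𝟙 K)), ← tm_comp_left_assoc, IsIso.hom_inv_id, tm_id,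
      Category.id_comp]
    exact (rhomBC_fac φ K ((LBase φ).obj M)).symm
  rw [rhomBCCore] at hc
  have e : tm ((RHomR R K).map ((baseAdj φ).unit.app M) ≫ inv (rhomBC φ K ((LBase φ).obj M)))
      ((baseAdj φ).unit.app K) = tm ((RHomR R K).map ((baseAdj φ).unit.app M)) (𝟙 K) ≫
        tm (inv (rhomBC φ K ((LBase φ).obj M))) (𝟙 K) ≫ tm (𝟙 _) ((baseAdj φ).unit.app K) := by
    rw [← tm_comp_left_assoc, ← tm_comp, Category.comp_id, Category.id_comp]
  erw [e, Category.assoc, Category.assoc, hc]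
  exact (rhomAdj R K).counit.naturality ((baseAdj φ).unit.app M)

theorem isUniv_bcEv_value {E N : DRing.Cx R} (D : Dualizable E N) {P : DRing.Cx R} (hP : IsKFl P) :
    IsUniv (bcEv φ (valueEv (letI := D.pairing; tensorRightAdjunction E N) P)) := by
  letI := D.pairing
  letI := extMonoidal φ
  letI := mapPairing (DTen.extCx φ) E N
  let adj' := tensorRightAdjunction ((DTen.extCx φ).obj E) ((DTen.extCx φ).obj N)
  have hW : IsKFl (P ⊗ N) := isKFl_tensor hP D.kflat'
  have hE' : IsKFl ((DTen.extCx φ).obj E) := DCohBridge.isKFlat_baseChange φ D.kflat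
  have hN' : IsKFl ((DTen.extCx φ).obj N) := DCohBridge.isKFlat_baseChange φ D.kflat'
  have hu : IsUniv (valueEv adj' ((DTen.extCx φ).obj P)) :=
    isUniv_valueEv adj' hE' (fun F hF => isKFlat_iff.1 hN' F hF) (fun h => tensor_homotopy₁ h _) _
  haveI := isIso_baseCmp φ hP
  haveI := isIso_baseCmp φ hW
  haveI := isIso_baseCmp φ D.kflat
  haveI := isIso_baseCmp φ (isKFl_tensor hW D.kflat)
  haveI := isIso_baseDelta φ (DerivedCategory.Q.obj (P ⊗ N)) (DerivedCategory.Q.obj E)
  have key : bcEv φ (valueEv (tensorRightAdjunction E N) P) ≫ (DTen.baseCmp φ).app P =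
      tm (𝟙 _) ((DTen.baseCmp φ).app E) ≫
        tm ((DTen.baseCmp φ).app (P ⊗ N) ≫ DerivedCategory.Q.map (extTenCxIso φ P N).hom) (𝟙 _) ≫
          valueEv adj' ((DTen.extCx φ).obj P) := by
    rw [← tm_exchange_assoc, tm_comp_left, valueEv, valueEv, bcEv, Category.assoc, IsIso.inv_comp_eq]
    have hn := (DTen.baseCmp φ).naturality ((tensorRightAdjunction E N).counit.app P)
    dsimp at hn
    rw [Functor.map_comp, Category.assoc]
    erw [hn]
    have hξ := baseDelta_eq φ (P := P ⊗ N) (P' := E)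
    rw [← cancel_mono (DerivedCategory.Q.map (extTenCxIso φ (P ⊗ N) E).inv)] at hξ
    simp only [Category.assoc, ← Functor.map_comp, Iso.hom_inv_id, CategoryTheory.Functor.map_id,
      Category.comp_id] at hξ
    erw [← reassoc_of% hξ]
    congr 1
    rw [← Category.comp_id ((DTen.baseCmp φ).app (P ⊗ N)), ← Category.id_comp ((DTen.baseCmp φ).app E), tm_comp,
      Category.comp_id, Category.id_comp]
    simp only [Category.assoc]
    congr 1
    rw [tm_exchange_assoc]
    congr 1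
    erw [ε_natural_left_assoc]
    rw [← Functor.map_comp, ← Functor.map_comp]
    congr 2
    exact (mapPairing_counit (DTen.extCx φ) E N P).symm
  have h := (((hu.of_iso
    (asIso ((DTen.baseCmp φ).app (P ⊗ N) ≫ DerivedCategory.Q.map (extTenCxIso φ P N).hom))).of_iso_right
      ((DTen.baseCmp φ).app E))).comp_iso (inv ((DTen.baseCmp φ).app P))
  erw [← key] at h
  rw [Category.assoc, IsIso.hom_inv_id, Category.comp_id] at h
  exact h

theorem isUniv_bcEv {K : Dual.D R} (hK : DRing.IsPerfect R K) {W M : Dual.D R}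
    {v : (LTen₂ R).obj (W, K) ⟶ M} (hv : IsUniv v) : IsUniv (bcEv φ v) := by
  obtain ⟨E, N, ⟨D⟩, ⟨i⟩⟩ := exists_dualizable hK
  obtain ⟨P, hP, ⟨k⟩⟩ := exists_kproj M
  haveI : P.IsKProjective := hP
  letI := D.pairing
  let v₀ := valueEv (tensorRightAdjunction E N) P
  have hv₀ : IsUniv v₀ := isUniv_valueEv _ D.kflat (fun F hF => isKFlat_iff.1 D.kflat' F hF)
    (fun h => tensor_homotopy₁ h N) P
  -- the modified evaluation
  let v' := tm (𝟙 W) i.hom ≫ v ≫ k.inv
  have hv' : IsUniv v' := (hv.comp_iso k.inv).of_iso_right i.hom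
  haveI := isIso_adjunct hv'
  haveI := isIso_adjunct hv₀
  let j := rhomHomEquiv W _ _ v' ≫ inv (rhomHomEquiv _ _ _ v₀)
  have hj : tm j (𝟙 _) ≫ v₀ = v' := by
    apply (rhomHomEquiv W _ _).injective
    rw [adjunct_symm]
    simp [j]
  have h1 := ((isUniv_bcEv_value φ D (isKFl_of_isKProjective P)).of_iso
    (asIso ((LBase φ).map j))).of_iso_right ((LBase φ).map i.inv)
  have h2 := h1.comp_iso ((LBase φ).map k.hom)
  have e : bcEv φ v = (tm (𝟙 _) ((LBase φ).map i.inv) ≫ tm ((LBase φ).map j) (𝟙 _) ≫ bcEv φ v₀) ≫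
      (LBase φ).map k.hom := by
    rw [← CategoryTheory.Functor.map_id (LBase φ) (DerivedCategory.Q.obj E), ← bcEv_natural,
      ← CategoryTheory.Functor.map_id (LBase φ) W, ← bcEv_natural, ← bcEv_comp]
    congr 1
    erw [hj]
    simp only [v', Category.assoc]
    rw [← tm_comp_assoc, Category.comp_id, Iso.inv_hom_id, tm_id, Category.id_comp, Iso.inv_hom_id, Category.comp_id]
  rw [e]
  exact h2

theorem isIso_bcRHom (K M : Dual.D R) (hK : DRing.IsPerfect R K) [IsIso (rhomBC φ K ((LBase φ).obj M))] :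
    IsIso (bcRHom φ K M) := by
  haveI := isIso_adjunct (isUniv_bcEv φ hK (isUniv_ev K M))
  have e : rhomHomEquiv _ _ _ (bcEv φ (DTen.ev K M)) = bcRHom φ K M := by
    rw [← bcRHom_adjunct, adjunct_symm]
    have e : rhomHomEquiv _ _ _ (DTen.ev ((LBase φ).obj K) ((LBase φ).obj M)) = 𝟙 _ :=
      ((rhomAdj R' _).homEquiv_unit _ _ _).trans ((rhomAdj R' _).right_triangle_components _)
    rw [e, Category.comp_id]
  rw [← e]
  infer_instance

end Groth.Agent.DTenLib
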