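import Groth.Agent.DTenLib.BCModule
import Groth.Agent.DTenLib.PCEval
import Groth.Agent.DRingTorAmp.TorDim

/-!
# Base change of `RHom` at pseudo-coherent objects along a map of finite tor dimension
-/

universe u

open CategoryTheory Limits MonoidalCategory HomologicalComplex DTen

namespace Groth.Agent.DTenLib

attribute [local instance] HasDerivedCategory.standard

set_option linter.style.haveILetI false

variable {R R' : Type u} [CommRing R] [CommRing R'] (φ : R →+* R')
  [HasLTen R] [HasLTen R'] [HasLTen₃ R] [IsSymMonoidal R] [HasRHom R] [HasRHom R'] [HasLBase φ]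
  [HasResTen φ] [ResLegIso φ]

/-- The base change map is an isomorphism as soon as evaluation at `res R'` is. -/
theorem isIso_bcRHom_of_evalTen (K M : Dual.D R) [IsIso (rhomBC φ K ((LBase φ).obj M))]
    [h : IsIso (evalTen (resOne φ) M K)] : IsIso (bcRHom φ K M) := by
  haveI : IsIso (rhomHomEquiv _ _ _ (auxTen (resOne φ) (DTen.ev K M))) := h
  haveI hu : IsUniv (auxTen (resOne φ) (DTen.ev K M)) := IsUniv.of_adjunct _
  let W := (RHomR R K).obj M
  haveI := isIso_baseProj φ W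
  haveI := isIso_baseProj φ M
  haveI := isIso_rhomBC φ K ((LBase φ).obj M)
  haveI := isIso_adjunct (hu.comp_iso (baseProj φ M))
  haveI : IsIso (baseProj φ W ≫ (DRing.restrictD φ).map (rhomHomEquiv _ _ _ (bcEv φ (DTen.ev K M))) ≫
      rhomBC φ K ((LBase φ).obj M)) := by
    rw [rhomBC_bcEv]; assumption
  haveI : IsIso ((DRing.restrictD φ).map (rhomHomEquiv _ _ _ (bcEv φ (DTen.ev K M))) ≫
      rhomBC φ K ((LBase φ).obj M)) :=
    IsIso.of_isIso_comp_left (baseProj φ W) _
  haveI : IsIso ((DRing.restrictD φ).map (rhomHomEquiv _ _ _ (bcEv φ (DTen.ev K M)))) :=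
    IsIso.of_isIso_comp_right _ (rhomBC φ K ((LBase φ).obj M))
  haveI := isIso_of_restrictD φ (rhomHomEquiv _ _ _ (bcEv φ (DTen.ev K M)))
  have e : rhomHomEquiv _ _ _ (bcEv φ (DTen.ev K M)) = bcRHom φ K M := by
    rw [← bcRHom_adjunct, adjunct_symm]
    have e : rhomHomEquiv _ _ _ (DTen.ev ((LBase φ).obj K) ((LBase φ).obj M)) = 𝟙 _ :=
      ((rhomAdj R' _).homEquiv_unit _ _ _).trans ((rhomAdj R' _).right_triangle_components _)
    rw [e, Category.comp_id]
  rw [← e]
  assumption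

theorem isIso_bcRHom_of_pseudoCoherent {a b : ℤ} (hS : DRing.HasTorAmplitudeIn R a b (resOne φ))
    (K M : Dual.D R) [IsIso (rhomBC φ K ((LBase φ).obj M))] (hK : DRing.IsPseudoCoherent' R K) (n : ℤ)
    [M.IsGE n] : IsIso (bcRHom φ K M) :=
  @isIso_bcRHom_of_evalTen R R' _ _ φ _ _ _ _ _ _ _ _ _ K M _ (isIso_evalTen_of_pseudoCoherent hS hK n)

omit [HasLTen R] [HasLTen R'] [HasLTen₃ R] [IsSymMonoidal R] [HasRHom R] [HasRHom R'] [HasLBase φ]
  [HasResTen φ] [ResLegIso φ] in
theorem torAmp_resOne [Algebra R R'] {a b : ℤ} (h : DRing.HasTorAmplitudeIn R a b (Dual.inD R R')) :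
    DRing.HasTorAmplitudeIn R a b (resOne (algebraMap R R')) := by
  obtain ⟨E, h₁, h₂, ⟨i⟩⟩ := h
  obtain ⟨e⟩ := nonempty_resOne_iso (R := R) (R' := R')
  exact ⟨E, h₁, h₂, ⟨i ≪≫ e⟩⟩

end Groth.Agent.DTenLib
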