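import Groth.Agent.DRingKProj.Derived
import Groth.Agent.DTenLib.BaseChange
import Mathlib.CategoryTheory.Functor.Derived.Adjunction

/-!
# Derived base change is left adjoint to restriction; the hypotheses of the prelude hold
-/

universe u

open CategoryTheory Limits

namespace Groth.Agent.DTenLib

attribute [local instance] HasDerivedCategory.standard

set_option linter.style.haveILetI false

variable {R A : Type u} [CommRing R] [CommRing A] (φ : R →+* A)

/-- `extendScalars ⊣ restrictScalars` on homotopy categories. -/
noncomputable def khAdj :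
    (ModuleCat.extendScalars.{u, u, u} φ).mapHomotopyCategory (ComplexShape.up ℤ) ⊣
      (ModuleCat.restrictScalars.{u} φ).mapHomotopyCategory (ComplexShape.up ℤ) :=
  Adjunction.mkOfUnitCounit
    { unit :=
        { app := fun X => (HomotopyCategory.quotient _ _).map ((cxAdj φ).unit.app X.as)
          naturality := fun X Y f => by
            obtain ⟨g, rfl⟩ := (HomotopyCategory.quotient _ _).map_surjective (X := X.as) (Y := Y.as) f
            exact (((HomotopyCategory.quotient _ _).map_comp _ _).symm.trans
              (congrArg _ ((cxAdj φ).unit.naturality g))).trans ((HomotopyCategory.quotient _ _).map_comp _ _) }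
      counit :=
        { app := fun X => (HomotopyCategory.quotient _ _).map ((cxAdj φ).counit.app X.as)
          naturality := fun X Y f => by
            obtain ⟨g, rfl⟩ := (HomotopyCategory.quotient _ _).map_surjective (X := X.as) (Y := Y.as) f
            exact (((HomotopyCategory.quotient _ _).map_comp _ _).symm.trans
              (congrArg _ ((cxAdj φ).counit.naturality g))).trans ((HomotopyCategory.quotient _ _).map_comp _ _) }
      left_triangle := by
        ext X
        have h := congrArg (HomotopyCategory.quotient _ _).map ((cxAdj φ).left_triangle_components X.as)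
        rw [Functor.map_comp, CategoryTheory.Functor.map_id] at h
        simp only [NatTrans.comp_app, Functor.whiskerRight_app, Functor.associator_hom_app, Functor.whiskerLeft_app,
          Category.id_comp]
        exact h
      right_triangle := by
        ext X
        have h := congrArg (HomotopyCategory.quotient _ _).map ((cxAdj φ).right_triangle_components X.as)
        rw [Functor.map_comp, CategoryTheory.Functor.map_id] at h
        simp only [NatTrans.comp_app, Functor.whiskerRight_app, Functor.associator_inv_app, Functor.whiskerLeft_app,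
          Category.id_comp]
        exact h }

theorem isLeftDerivedFunctor_of_isIso {C D H : Type*} [Category* C] [Category* D] [Category* H]
    {L : C ⥤ D} (W : MorphismProperty C) [L.IsLocalization W] {F : C ⥤ H} {G : D ⥤ H} (α : L ⋙ G ⟶ F)
    (P : ObjectProperty C) [F.HasLeftDerivedFunctor W]
    (hP : ∀ X, P X → IsIso (α.app X) ∧ IsIso ((F.totalLeftDerivedCounit L W).app X))
    (hres : ∀ X : D, ∃ Y, P Y ∧ Nonempty (L.obj Y ≅ X)) : G.IsLeftDerivedFunctor α W := by
  rw [(F.totalLeftDerived L W).isLeftDerivedFunctor_iff_isIso_leftDerivedLift (F.totalLeftDerivedCounit L W) W G α]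
  refine (NatTrans.isIso_iff_isIso_app _).2 fun X => ?_
  obtain ⟨Y, hY, ⟨e⟩⟩ := hres X
  refine (NatTrans.isIso_app_iff_of_iso _ e).1 ?_
  obtain ⟨h₁, h₂⟩ := hP Y hY
  have h := (F.totalLeftDerived L W).leftDerived_fac_app (F.totalLeftDerivedCounit L W) W G α Y
  haveI : IsIso (((F.totalLeftDerived L W).leftDerivedLift (F.totalLeftDerivedCounit L W) W G α).app (L.obj Y) ≫
      (F.totalLeftDerivedCounit L W).app Y) := by
    rw [h]; exact h₁
  exact IsIso.of_isIso_comp_right _ ((F.totalLeftDerivedCounit L W).app Y)

open Groth.Agent.DRingKProj in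
theorem exists_KP_iso (X : Dual.D R) : ∃ Y, KP R Y ∧ Nonempty (DerivedCategory.Qh.obj Y ≅ X) := by
  obtain ⟨P, hP, ⟨e⟩⟩ := exists_kproj X
  haveI : P.IsKProjective := hP
  exact ⟨_, KP_quotient P, ⟨(DerivedCategory.quotientCompQhIso _).app P ≪≫ e⟩⟩

open Groth.Agent.DRingKProj in
theorem nonempty_LBaseChange_adj [DRing.HasLBaseChange φ] :
    Nonempty (DRing.LBaseChange φ ⊣ DRing.restrictD φ) := by
  let W₁ := HomotopyCategory.quasiIso (ModuleCat.{u} R) (ComplexShape.up ℤ)
  let W₂ := HomotopyCategory.quasiIso (ModuleCat.{u} A) (ComplexShape.up ℤ)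
  let Fh := (ModuleCat.restrictScalars.{u} φ).mapHomotopyCategory (ComplexShape.up ℤ)
  let α := (DRing.baseChangeKh φ).totalLeftDerivedCounit DerivedCategory.Qh W₁
  let e : DerivedCategory.Qh ⋙ DRing.restrictD φ ≅ Fh ⋙ DerivedCategory.Qh :=
    (ModuleCat.restrictScalars.{u} φ).mapDerivedCategoryFactorsh
  let β := e.inv
  haveI : (DRing.restrictD φ).IsRightDerivedFunctor β W₂ :=
    Functor.isRightDerivedFunctor_of_inverts W₂ _ e
  haveI : (DRing.restrictD φ ⋙ DRing.LBaseChange φ).IsRightDerivedFunctor
      (Functor.whiskerRight β (DRing.LBaseChange φ) ≫ (Functor.associator _ _ _).hom) W₂ := by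
    let e' : DerivedCategory.Qh ⋙ (DRing.restrictD φ ⋙ DRing.LBaseChange φ) ≅
        (Fh ⋙ DerivedCategory.Qh) ⋙ DRing.LBaseChange φ :=
      (Functor.associator _ _ _).symm ≪≫ Functor.isoWhiskerRight e _
    exact Functor.isRightDerivedFunctor_of_inverts W₂ _ e'
  let G' := (DRing.baseChangeKh φ) ⋙ DRing.restrictD φ
  have hinv : ∀ ⦃X Y : HomotopyCategory (ModuleCat.{u} R) (ComplexShape.up ℤ)⦄ (s : X ⟶ Y),
      KP R X → KP R Y → W₁ s → IsIso (G'.map s) := fun X Y s hX hY hs => by
    haveI : IsIso ((DRing.baseChangeKh φ).map s) :=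
      isIso_khFun_map (ModuleCat.extendScalars.{u, u, u} φ) s hX hY hs
    exact Functor.map_isIso (DRing.restrictD φ) ((DRing.baseChangeKh φ).map s)
  haveI : G'.HasLeftDerivedFunctor W₁ :=
    DerCat.LeftDeriv.hasLeftDerivedFunctor _ _ (KP R) exists_resolution_homotopy hinv
  haveI : (DRing.LBaseChange φ ⋙ DRing.restrictD φ).IsLeftDerivedFunctor
      ((Functor.associator _ _ _).inv ≫ Functor.whiskerRight α (DRing.restrictD φ)) W₁ :=
    isLeftDerivedFunctor_of_isIso W₁ _ (KP R) (fun X hX => by
      haveI : CochainComplex.IsKProjective X.as := hX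
      haveI : IsIso (α.app X) := DRingKProj.isIso_counit_app (ModuleCat.extendScalars.{u, u, u} φ) X.as
      refine ⟨?_, DerCat.LeftDeriv.isIso_counit_app DerivedCategory.Qh _ _ (KP R) exists_resolution_homotopy hinv hX⟩
      rw [NatTrans.comp_app, Functor.associator_inv_app, Category.id_comp, Functor.whiskerRight_app]
      exact Functor.map_isIso _ _) exists_KP_iso
  exact ⟨(khAdj φ).derived W₁ W₂ α β⟩

theorem hasLBase : DTen.HasLBase φ := by
  haveI := DRingKProj.hasLBaseChange φ
  exact ⟨(nonempty_LBaseChange_adj φ).some.isRightAdjoint⟩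

end Groth.Agent.DTenLib
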