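import Groth.Agent.DTenLib.Elem
import Groth.Prelude.Def_DRing2
import Mathlib.RingTheory.Finiteness.Projective
import Mathlib.CategoryTheory.Monoidal.Rigid.Basic

/-!
# The dual of a bounded complex of finite projective modules
-/

universe u

open CategoryTheory Limits MonoidalCategory HomologicalComplex
open scoped TensorProduct

namespace Groth.Agent.DTenLib

variable {A : Type u} [CommRing A] (K : DRing.Cx A)

/-- The dual complex: `Dual (K^{-q})` in degree `q`, with differential `φ ↦ (-1)^{q+1} φ ∘ d`. -/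
noncomputable def dualCx : DRing.Cx A where
  X q := ModuleCat.of A (Module.Dual A (K.X (-q)))
  d q q' := (q + 1).negOnePow • ModuleCat.ofHom (K.d (-q') (-q)).hom.dualMap
  shape q q' h := by
    rw [K.shape (-q') (-q) (fun h' => h (by simp at h' ⊢; omega))]
    ext φ
    simp
  d_comp_d' i j k _ _ := by
    rw [Linear.units_smul_comp, Linear.comp_units_smul,
      show ModuleCat.ofHom (K.d (-j) (-i)).hom.dualMap ≫ ModuleCat.ofHom (K.d (-k) (-j)).hom.dualMap =
        ModuleCat.ofHom (K.d (-k) (-j) ≫ K.d (-j) (-i)).hom.dualMap from rfl, K.d_comp_d]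
    ext φ
    simp

/-- A functional as an element of the dual complex. -/
def fn (q : ℤ) (φ : Module.Dual A (K.X (-q))) : (dualCx K).X q := φ

/-- An element of the dual complex as a functional. -/
def unfn {q : ℤ} (φ : (dualCx K).X q) : Module.Dual A (K.X (-q)) := φ

lemma dualCx_d_apply (q : ℤ) (φ : (dualCx K).X q) (x : K.X (-(q + 1))) :
    unfn K ((dualCx K).d q (q + 1) φ) x = (q + 1).negOnePow • unfn K φ (K.d (-(q + 1)) (-q) x) := rfl

section Ev

variable {K}

/-- Evaluation on the summand `(q, p)`. -/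
noncomputable def evC (q p : ℤ) (h : q + p = 0) :
    (dualCx K).X q ⊗ K.X p ⟶ ModuleCat.of A A :=
  ModuleCat.ofHom (TensorProduct.lift
    ((LinearMap.lcomp A A (K.XIsoOfEq (show p = -q by omega)).hom.hom) ∘ₗ
      (show (dualCx K).X q →ₗ[A] Module.Dual A (K.X (-q)) from LinearMap.id)))

/-- Signed evaluation on the summand `(p, q)`. -/
noncomputable def evC' (p q : ℤ) (h : p + q = 0) :
    K.X p ⊗ (dualCx K).X q ⟶ ModuleCat.of A A :=
  p.negOnePow • ModuleCat.ofHom (TensorProduct.lift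
    ((LinearMap.lcomp A A (K.XIsoOfEq (show p = -q by omega)).hom.hom) ∘ₗ
      (show (dualCx K).X q →ₗ[A] Module.Dual A (K.X (-q)) from LinearMap.id)).flip)

lemma d_el' {K L : DRing.Cx A} {p q n p' q' n' : ℤ} (h : p + q = n) (hp : p + 1 = p') (hq : q + 1 = q')
    (hn : n + 1 = n') (x : K.X p) (y : L.X q) :
    (K ⊗ L : DRing.Cx A).d n n' (el K L p q n h x y) =
      el K L p' q n' (by omega) (K.d p p' x) y +
        p.negOnePow • el K L p q' n' (by omega) x (L.d q q' y) := by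
  subst hp hq hn
  exact d_el h x y

variable (K) in
/-- The evaluation in degree `0`. -/
noncomputable def ev₀ : (dualCx K ⊗ K : DRing.Cx A).X 0 ⟶ ModuleCat.of A A :=
  mapBifunctorDesc fun q p h => evC q p h

variable (K) in
/-- The signed evaluation in degree `0`. -/
noncomputable def ev₀' : (K ⊗ dualCx K : DRing.Cx A).X 0 ⟶ ModuleCat.of A A :=
  mapBifunctorDesc fun p q h => evC' p q h

lemma ev₀_el {q p : ℤ} (h : q + p = 0) (φ : (dualCx K).X q) (x : K.X p) :
    ev₀ K (el (dualCx K) K q p 0 h φ x) = unfn K φ ((K.XIsoOfEq (show p = -q by omega)).hom x) := by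
  have e := ι_mapBifunctorDesc (K₁ := dualCx K) (K₂ := K) (F := curriedTensor (ModuleCat.{u} A))
    (c := ComplexShape.up ℤ) (j := 0) (fun q p h => evC (K := K) q p h) q p h
  exact (congrArg (fun f => f (φ ⊗ₜ[A] x)) e).trans rfl

lemma ev₀'_el {q p : ℤ} (h : p + q = 0) (φ : (dualCx K).X q) (x : K.X p) :
    ev₀' K (el K (dualCx K) p q 0 h x φ) =
      p.negOnePow • unfn K φ ((K.XIsoOfEq (show p = -q by omega)).hom x) := by
  have e := ι_mapBifunctorDesc (K₁ := K) (K₂ := dualCx K) (F := curriedTensor (ModuleCat.{u} A))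
    (c := ComplexShape.up ℤ) (j := 0) (fun p q h => evC' (K := K) p q h) p q h
  exact (congrArg (fun f => f (x ⊗ₜ[A] φ)) e).trans rfl

lemma XIso_self {p : ℤ} (h : p = p) (x : K.X p) : (K.XIsoOfEq h).hom x = x := rfl

lemma XIso_d {p₁ p₂ p₃ : ℤ} (h : p₂ = p₃) (x : K.X p₁) :
    (K.XIsoOfEq h).hom (K.d p₁ p₂ x) = K.d p₁ p₃ x := by
  subst h; rfl

variable (K) in
/-- The evaluation `K^∨ ⊗ K ⟶ 1`. -/
noncomputable def ev : dualCx K ⊗ K ⟶ 𝟙_ (DRing.Cx A) :=
  mkHomToSingle (ev₀ K) fun i hi => by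
    refine hom_ext_el fun q p h φ x => ?_
    obtain rfl : p = -(q + 1) := by simp at hi; omega
    show ev₀ K ((dualCx K ⊗ K : DRing.Cx A).d i 0 (el (dualCx K) K q (-(q + 1)) i h φ x)) = 0
    rw [d_el' h rfl (show -(q + 1) + 1 = -q by omega) (show i + 1 = 0 from hi)]
    erw [map_add, map_zsmul, ev₀_el, ev₀_el, XIso_self, XIso_self, dualCx_d_apply]
    rw [Int.negOnePow_succ, Units.smul_def, Units.val_neg, neg_smul]
    exact neg_add_cancel _

variable (K) in
/-- The evaluation `K ⊗ K^∨ ⟶ 1`, with sign. -/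
noncomputable def ev' : K ⊗ dualCx K ⟶ 𝟙_ (DRing.Cx A) :=
  mkHomToSingle (ev₀' K) fun i hi => by
    refine hom_ext_el fun p q h x φ => ?_
    obtain rfl : p = -(q + 1) := by simp at hi; omega
    show ev₀' K ((K ⊗ dualCx K : DRing.Cx A).d i 0 (el K (dualCx K) (-(q + 1)) q i h x φ)) = 0
    rw [d_el' h (show -(q + 1) + 1 = -q by omega) rfl (show i + 1 = 0 from hi)]
    erw [map_add, map_zsmul, ev₀'_el, ev₀'_el, XIso_self, XIso_self, dualCx_d_apply]
    rw [show (-q).negOnePow = - (-(q+1)).negOnePow by rw [← Int.negOnePow_succ]; congr 1; omega]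
    simp only [Units.smul_def, smul_smul, Int.negOnePow_neg]
    rcases Int.units_eq_one_or (q + 1).negOnePow with hu | hu <;> simp [hu]

end Ev

/-- Dual bases in every degree, and bounds. -/
structure DualBases where
  n : ℤ → ℕ
  e : ∀ q, Fin (n q) → K.X (-q)
  φ : ∀ q, Fin (n q) → Module.Dual A (K.X (-q))
  spec : ∀ q (x : K.X (-q)), ∑ i, φ q i x • e q i = x
  lo : ℤ
  N : ℕ
  zero : ∀ q, q ≤ lo ∨ lo + N ≤ q → ∀ x : K.X (-q), x = 0

theorem exists_dualBases {K : DRing.Cx A} {a b : ℤ} (hb : DRing.VanishesOutside K a b)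
    (hK : DRing.TermwiseFiniteProjective K) : Nonempty (DualBases K) := by
  classical
  have h : ∀ q : ℤ, ∃ (n : ℕ) (e : Fin n → K.X (-q)) (φ : Fin n → Module.Dual A (K.X (-q))),
      ∀ x, ∑ i, φ i x • e i = x := fun q => by
    haveI := (hK (-q)).1
    haveI := (hK (-q)).2
    obtain ⟨n, f, g, -, -, hfg⟩ := Module.Finite.exists_comp_eq_id_of_projective A (K.X (-q))
    refine ⟨n, fun i => f (Pi.single i 1), fun i => LinearMap.proj i ∘ₗ g, fun x => ?_⟩
    conv_rhs => rw [show x = f (g x) from (LinearMap.congr_fun hfg x).symm, pi_eq_sum_univ (g x), map_sum]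
    refine Finset.sum_congr rfl fun i _ => ?_
    rw [map_smul]
    refine congrArg (fun v => g x i • f v) (funext fun j => ?_)
    simp [Pi.single_apply, eq_comm]
  choose n e φ h using h
  exact ⟨⟨n, e, φ, h, -b - 1, (b - a + 2).toNat,
    fun q hq x => (ModuleCat.subsingleton_of_isZero (hb (-q) (by omega))).elim _ _⟩⟩

namespace DualBases

variable {K} (B : DualBases K)

lemma fn_eq (q : ℤ) (φ : (dualCx K).X q) : ∑ i, unfn K φ (B.e q i) • fn K q (B.φ q i) = φ := by
  show (∑ i, unfn K φ (B.e q i) • B.φ q i : Module.Dual A (K.X (-q))) = unfn K φ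
  refine LinearMap.ext fun x => ?_
  conv_rhs => rw [← B.spec q x, map_sum]
  simp [mul_comm]

/-- The `q`-th part of the coevaluation. -/
noncomputable def c (q : ℤ) : (K ⊗ dualCx K : DRing.Cx A).X 0 :=
  ∑ i, el K (dualCx K) (-q) q 0 (by omega) (B.e q i) (fn K q (B.φ q i))

/-- The `q`-th part of the signed coevaluation. -/
noncomputable def c' (q : ℤ) : (dualCx K ⊗ K : DRing.Cx A).X 0 :=
  (-q).negOnePow • ∑ i, el (dualCx K) K q (-q) 0 (by omega) (fn K q (B.φ q i)) (B.e q i)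

lemma c_eq_zero (q : ℤ) (hq : q ≤ B.lo ∨ B.lo + B.N ≤ q) : B.c q = 0 :=
  Finset.sum_eq_zero fun i _ => by rw [B.zero q hq (B.e q i), el_zero_left]

lemma c'_eq_zero (q : ℤ) (hq : q ≤ B.lo ∨ B.lo + B.N ≤ q) : B.c' q = 0 := by
  rw [c', Finset.sum_eq_zero fun i _ => by rw [B.zero q hq (B.e q i), el_zero_right], smul_zero]

/-- the terms of the differential of `c q` -/
noncomputable def T (q : ℤ) : (K ⊗ dualCx K : DRing.Cx A).X 1 :=
  ∑ i, el K (dualCx K) (1 - q) q 1 (by omega) (K.d (-q) (1 - q) (B.e q i)) (fn K q (B.φ q i))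

/-- the terms of the differential of `c' q` -/
noncomputable def T' (q : ℤ) : (dualCx K ⊗ K : DRing.Cx A).X 1 :=
  ∑ i, el (dualCx K) K q (1 - q) 1 (by omega) (fn K q (B.φ q i)) (K.d (-q) (1 - q) (B.e q i))

lemma el_congr_left {L : DRing.Cx A} {p p' q n : ℤ} (hp : p = p') (h : p + q = n) (x : K.X p) (y : L.X q) :
    el K L p q n h x y = el K L p' q n (hp ▸ h) ((K.XIsoOfEq hp).hom x) y := by
  subst hp; rfl

lemma el_congr_right {L : DRing.Cx A} {p p' q n : ℤ} (hp : p = p') (h : q + p = n) (x : K.X p) (y : L.X q) :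
    el L K q p n h y x = el L K q p' n (hp ▸ h) y ((K.XIsoOfEq hp).hom x) := by
  subst hp; rfl

lemma T_succ (q : ℤ) : ∑ i, el K (dualCx K) (-q) (q + 1) 1 (by omega) (B.e q i)
    ((dualCx K).d q (q + 1) (fn K q (B.φ q i))) = (q + 1).negOnePow • B.T (q + 1) := by
  have hd : ∀ i, (dualCx K).d q (q + 1) (fn K q (B.φ q i)) = (q + 1).negOnePow •
      ∑ j, B.φ q i (K.d (-(q + 1)) (-q) (B.e (q + 1) j)) • fn K (q + 1) (B.φ (q + 1) j) := fun i => by
    conv_lhs => rw [← B.fn_eq (q + 1) ((dualCx K).d q (q + 1) (fn K q (B.φ q i)))]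
    rw [Finset.smul_sum]
    refine Finset.sum_congr rfl fun j _ => ?_
    rw [dualCx_d_apply, smul_assoc]
    rfl
  simp only [hd, Units.smul_def, ← Int.cast_smul_eq_zsmul A, el_smul_right, ← Finset.smul_sum, el_sum_right]
  congr 1
  rw [Finset.sum_comm, T]
  refine Finset.sum_congr rfl fun j _ => ?_
  simp only [el_smul_right, ← el_smul_left, ← el_sum_left, B.spec]
  rw [el_congr_left (p' := 1 - (q + 1)) (by omega), XIso_d]

lemma T'_succ (q : ℤ) : ∑ i, el (dualCx K) K (q + 1) (-q) 1 (by omega)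
    ((dualCx K).d q (q + 1) (fn K q (B.φ q i))) (B.e q i) = (q + 1).negOnePow • B.T' (q + 1) := by
  have hd : ∀ i, (dualCx K).d q (q + 1) (fn K q (B.φ q i)) = (q + 1).negOnePow •
      ∑ j, B.φ q i (K.d (-(q + 1)) (-q) (B.e (q + 1) j)) • fn K (q + 1) (B.φ (q + 1) j) := fun i => by
    conv_lhs => rw [← B.fn_eq (q + 1) ((dualCx K).d q (q + 1) (fn K q (B.φ q i)))]
    rw [Finset.smul_sum]
    refine Finset.sum_congr rfl fun j _ => ?_
    rw [dualCx_d_apply, smul_assoc]
    rfl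
  simp only [hd, Units.smul_def, ← Int.cast_smul_eq_zsmul A, el_smul_left, ← Finset.smul_sum, el_sum_left]
  congr 1
  rw [Finset.sum_comm, T']
  refine Finset.sum_congr rfl fun j _ => ?_
  simp only [el_smul_left, ← el_smul_right, ← el_sum_right, B.spec]
  rw [el_congr_right (p' := 1 - (q + 1)) (by omega), XIso_d]

lemma d_c (q : ℤ) : (K ⊗ dualCx K : DRing.Cx A).d 0 1 (B.c q) = B.T q - B.T (q + 1) := by
  rw [c, map_sum]
  simp only [d_el' (show -q + q = 0 by omega) (show -q + 1 = 1 - q by omega) (rfl : q + 1 = q + 1) (show (0 : ℤ) + 1 = 1 by omega)]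
  rw [Finset.sum_add_distrib, ← Finset.smul_sum, B.T_succ q, smul_smul, ← Int.negOnePow_add,
    show -q + (q + 1) = 1 by omega, Int.negOnePow_one]
  simp [T, Units.smul_def, sub_eq_add_neg]

lemma d_c' (q : ℤ) : (dualCx K ⊗ K : DRing.Cx A).d 0 1 (B.c' q) = B.T' q - B.T' (q + 1) := by
  rw [c']
  erw [map_zsmul, map_sum]
  simp only [d_el' (show q + -q = 0 by omega) (rfl : q + 1 = q + 1) (show -q + 1 = 1 - q by omega) (show (0 : ℤ) + 1 = 1 by omega)]
  rw [Finset.sum_add_distrib, ← Finset.smul_sum, B.T'_succ q]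
  show ((-q).negOnePow • _ : (dualCx K ⊗ K : DRing.Cx A).X 1) = _
  rw [smul_add, smul_smul, smul_smul, ← Int.negOnePow_add, ← Int.negOnePow_add,
    show -q + (q + 1) = 1 by omega, show -q + q = 0 by omega, Int.negOnePow_one, Int.negOnePow_zero, one_smul]
  simp [T', Units.smul_def, sub_eq_add_neg, add_comm]

/-- The coevaluation element. -/
noncomputable def cc : (K ⊗ dualCx K : DRing.Cx A).X 0 := ∑ k ∈ Finset.range B.N, B.c (B.lo + k)

/-- The signed coevaluation element. -/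
noncomputable def cc' : (dualCx K ⊗ K : DRing.Cx A).X 0 := ∑ k ∈ Finset.range B.N, B.c' (B.lo + k)

lemma d_cc : (K ⊗ dualCx K : DRing.Cx A).d 0 1 B.cc = 0 := by
  rw [cc, map_sum]
  simp only [d_c]
  rw [Finset.sum_congr rfl fun (k : ℕ) _ => show B.T (B.lo + k) - B.T (B.lo + k + 1) =
    (fun k : ℕ => B.T (B.lo + k)) k - (fun k : ℕ => B.T (B.lo + k)) (k + 1) by simp [add_assoc],
    Finset.sum_range_sub' (fun k : ℕ => B.T (B.lo + k))]
  have hT : ∀ q, q ≤ B.lo ∨ B.lo + B.N ≤ q → B.T q = 0 := fun q hq =>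
    Finset.sum_eq_zero fun i _ => by rw [B.zero q hq (B.e q i), map_zero, el_zero_left]
  rw [hT _ (Or.inl (by simp)), hT _ (Or.inr le_rfl), sub_zero]

lemma d_cc' : (dualCx K ⊗ K : DRing.Cx A).d 0 1 B.cc' = 0 := by
  rw [cc', map_sum]
  simp only [d_c']
  rw [Finset.sum_congr rfl fun (k : ℕ) _ => show B.T' (B.lo + k) - B.T' (B.lo + k + 1) =
    (fun k : ℕ => B.T' (B.lo + k)) k - (fun k : ℕ => B.T' (B.lo + k)) (k + 1) by simp [add_assoc],
    Finset.sum_range_sub' (fun k : ℕ => B.T' (B.lo + k))]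
  have hT : ∀ q, q ≤ B.lo ∨ B.lo + B.N ≤ q → B.T' q = 0 := fun q hq =>
    Finset.sum_eq_zero fun i _ => by rw [B.zero q hq (B.e q i), map_zero, el_zero_right]
  rw [hT _ (Or.inl (by simp)), hT _ (Or.inr le_rfl), sub_zero]

/-- The coevaluation `1 ⟶ K ⊗ K^∨`. -/
noncomputable def coev : 𝟙_ (DRing.Cx A) ⟶ K ⊗ dualCx K :=
  mkHomFromSingle (ModuleCat.ofHom (LinearMap.toSpanSingleton A _ B.cc)) fun k hk => by
    obtain rfl : k = 1 := by simp at hk; omega
    refine ModuleCat.hom_ext (LinearMap.ext_ring ?_)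
    show (K ⊗ dualCx K : DRing.Cx A).d 0 1 ((1 : A) • B.cc) = 0
    rw [one_smul, B.d_cc]

/-- The signed coevaluation `1 ⟶ K^∨ ⊗ K`. -/
noncomputable def coev' : 𝟙_ (DRing.Cx A) ⟶ dualCx K ⊗ K :=
  mkHomFromSingle (ModuleCat.ofHom (LinearMap.toSpanSingleton A _ B.cc')) fun k hk => by
    obtain rfl : k = 1 := by simp at hk; omega
    refine ModuleCat.hom_ext (LinearMap.ext_ring ?_)
    show (dualCx K ⊗ K : DRing.Cx A).d 0 1 ((1 : A) • B.cc') = 0
    rw [one_smul, B.d_cc']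

end DualBases

end Groth.Agent.DTenLib
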