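import Groth.Agent.DTenLib.Homotopy

/-!
# Elements of tensor products of complexes of modules
-/

universe u

open CategoryTheory Limits MonoidalCategory HomologicalComplex
open scoped TensorProduct

namespace Groth.Agent.DTenLib

variable {A : Type u} [CommRing A] {K L M : DRing.Cx A}

/-- The element `x ⊗ y` of degree `n`. -/
noncomputable def el (K L : DRing.Cx A) (p q n : ℤ) (h : p + q = n) (x : K.X p) (y : L.X q) :
    (K ⊗ L : DRing.Cx A).X n :=
  (ιTensorObj K L p q n h).hom (x ⊗ₜ[A] y)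

section

variable {p q n : ℤ} {h : p + q = n}

@[simp] lemma el_zero_left (y : L.X q) : el K L p q n h 0 y = 0 := by
  rw [el, TensorProduct.zero_tmul, map_zero]

@[simp] lemma el_zero_right (x : K.X p) : el K L p q n h x 0 = 0 := by
  rw [el, TensorProduct.tmul_zero, map_zero]

lemma el_smul_left (r : A) (x : K.X p) (y : L.X q) : el K L p q n h (r • x) y = r • el K L p q n h x y := by
  rw [el, el, ← TensorProduct.smul_tmul', map_smul]

lemma el_smul_right (r : A) (x : K.X p) (y : L.X q) : el K L p q n h x (r • y) = r • el K L p q n h x y := by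
  rw [el, el, TensorProduct.tmul_smul, map_smul]

lemma el_sum_left {ι : Type*} (s : Finset ι) (x : ι → K.X p) (y : L.X q) :
    el K L p q n h (∑ i ∈ s, x i) y = ∑ i ∈ s, el K L p q n h (x i) y := by
  rw [el, TensorProduct.sum_tmul, map_sum]
  rfl

lemma el_sum_right {ι : Type*} (s : Finset ι) (x : K.X p) (y : ι → L.X q) :
    el K L p q n h x (∑ i ∈ s, y i) = ∑ i ∈ s, el K L p q n h x (y i) := by
  rw [el, TensorProduct.tmul_sum, map_sum]
  rfl

end

/-- Maps out of a tensor product of complexes are determined on `x ⊗ y`. -/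
theorem hom_ext_el {n : ℤ} {T : ModuleCat.{u} A} {f g : (K ⊗ L : DRing.Cx A).X n ⟶ T}
    (H : ∀ (p q : ℤ) (h : p + q = n) (x : K.X p) (y : L.X q), f (el K L p q n h x y) = g (el K L p q n h x y)) :
    f = g :=
  mapBifunctor.hom_ext (fun p q h => ModuleCat.hom_ext (TensorProduct.ext' fun x y => H p q h x y))

theorem cx_ext_el {T : DRing.Cx A} {f g : (K ⊗ L : DRing.Cx A) ⟶ T}
    (H : ∀ (n p q : ℤ) (h : p + q = n) (x : K.X p) (y : L.X q),
      f.f n (el K L p q n h x y) = g.f n (el K L p q n h x y)) : f = g :=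
  HomologicalComplex.hom_ext _ _ fun n => hom_ext_el (H n)

lemma whiskerRight_el {K' : DRing.Cx A} (f : K ⟶ K') {p q n : ℤ} (h : p + q = n) (x : K.X p) (y : L.X q) :
    (f ▷ L).f n (el K L p q n h x y) = el K' L p q n h (f.f p x) y := by
  have e := ι_mapBifunctorMap f (𝟙 L) (curriedTensor (ModuleCat.{u} A)) (ComplexShape.up ℤ) p q n h
  exact (congrArg (fun φ => φ (x ⊗ₜ[A] y)) e).trans rfl

lemma whiskerLeft_el {L' : DRing.Cx A} (g : L ⟶ L') {p q n : ℤ} (h : p + q = n) (x : K.X p) (y : L.X q) :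
    (K ◁ g).f n (el K L p q n h x y) = el K L' p q n h x (g.f q y) := by
  have e := ι_mapBifunctorMap (𝟙 K) g (curriedTensor (ModuleCat.{u} A)) (ComplexShape.up ℤ) p q n h
  exact (congrArg (fun φ => φ (x ⊗ₜ[A] y)) e).trans rfl

lemma assoc_el {p q r m n k : ℤ} (h₁ : p + q = m) (h₂ : m + r = n) (h₃ : q + r = k) (h₄ : p + k = n)
    (x : K.X p) (y : L.X q) (z : M.X r) :
    (α_ K L M).hom.f n (el (K ⊗ L) M m r n h₂ (el K L p q m h₁ x y) z) =
      el K (L ⊗ M) p k n h₄ x (el L M q r k h₃ y z) := by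
  have e := ι_mapBifunctorAssociatorX_hom (curriedAssociatorNatIso (ModuleCat.{u} A)) K L M
    (ComplexShape.up ℤ) (ComplexShape.up ℤ) (ComplexShape.up ℤ) p q r n (show p + q + r = n by omega)
  rw [mapBifunctor₁₂.ι_eq _ _ _ _ _ _ _ p q r m n h₁ h₂,
    mapBifunctor₂₃.ι_eq _ _ _ _ _ _ _ _ p q r k n h₃ h₄] at e
  exact (congrArg (fun φ => φ ((x ⊗ₜ[A] y) ⊗ₜ[A] z)) e).trans rfl

lemma assoc_inv_el {p q r m n k : ℤ} (h₁ : p + q = m) (h₂ : m + r = n) (h₃ : q + r = k) (h₄ : p + k = n)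
    (x : K.X p) (y : L.X q) (z : M.X r) :
    (α_ K L M).inv.f n (el K (L ⊗ M) p k n h₄ x (el L M q r k h₃ y z)) =
      el (K ⊗ L) M m r n h₂ (el K L p q m h₁ x y) z := by
  rw [← assoc_el h₁ h₂ h₃ h₄]
  exact (congrArg (fun φ => φ (el (K ⊗ L) M m r n h₂ (el K L p q m h₁ x y) z))
    (congrArg (fun f => HomologicalComplex.Hom.f f n) (α_ K L M).hom_inv_id))

variable (A) in
/-- The unit element. -/
noncomputable def one : (𝟙_ (DRing.Cx A)).X 0 :=
  (singleObjXSelf (ComplexShape.up ℤ) 0 (𝟙_ (ModuleCat.{u} A))).inv (1 : A)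

lemma leftUnitor_el (p : ℤ) (x : K.X p) :
    (λ_ K).hom.f p (el (𝟙_ (DRing.Cx A)) K 0 p p (zero_add p) (one A) x) = x := by
  have e : (λ_ K).inv.f p x = el (𝟙_ (DRing.Cx A)) K 0 p p (zero_add p) (one A) x :=
    (congrArg (fun φ => φ x) (leftUnitor'_inv K p)).trans rfl
  rw [← e]
  exact congrArg (fun φ => φ x) (congrArg (fun f => HomologicalComplex.Hom.f f p) (λ_ K).inv_hom_id)

lemma rightUnitor_el (p : ℤ) (x : K.X p) :
    (ρ_ K).hom.f p (el K (𝟙_ (DRing.Cx A)) p 0 p (add_zero p) x (one A)) = x := by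
  have e : (ρ_ K).inv.f p x = el K (𝟙_ (DRing.Cx A)) p 0 p (add_zero p) x (one A) :=
    (congrArg (fun φ => φ x) (rightUnitor'_inv K p)).trans rfl
  rw [← e]
  exact congrArg (fun φ => φ x) (congrArg (fun f => HomologicalComplex.Hom.f f p) (ρ_ K).inv_hom_id)

lemma d_el {p q n : ℤ} (h : p + q = n) (x : K.X p) (y : L.X q) :
    (K ⊗ L : DRing.Cx A).d n (n + 1) (el K L p q n h x y) =
      el K L (p + 1) q (n + 1) (by omega) (K.d p (p + 1) x) y +
        p.negOnePow • el K L p (q + 1) (n + 1) (by omega) x (L.d q (q + 1) y) := by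
  have e : ιMapBifunctor K L (curriedTensor (ModuleCat.{u} A)) (ComplexShape.up ℤ) p q n h ≫
      (mapBifunctor K L (curriedTensor (ModuleCat.{u} A)) (ComplexShape.up ℤ)).d n (n + 1) =
      ((curriedTensor (ModuleCat.{u} A)).map (K.d p (p + 1))).app (L.X q) ≫
        ιMapBifunctor K L _ (ComplexShape.up ℤ) (p + 1) q (n + 1) (show (p + 1) + q = n + 1 by omega) +
      p.negOnePow • (((curriedTensor (ModuleCat.{u} A)).obj (K.X p)).map (L.d q (q + 1)) ≫
        ιMapBifunctor K L _ (ComplexShape.up ℤ) p (q + 1) (n + 1) (show p + (q + 1) = n + 1 by omega)) := by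
    rw [mapBifunctor.d_eq, Preadditive.comp_add, mapBifunctor.ι_D₁, mapBifunctor.ι_D₂,
      mapBifunctor.d₁_eq _ _ _ _ (show (ComplexShape.up ℤ).Rel p (p + 1) from rfl) q (n + 1) (show (p + 1) + q = n + 1 by omega),
      mapBifunctor.d₂_eq _ _ _ _ p (show (ComplexShape.up ℤ).Rel q (q + 1) from rfl) (n + 1) (show p + (q + 1) = n + 1 by omega)]
    simp [ComplexShape.ε₁, ComplexShape.ε₂]
  exact (congrArg (fun φ => φ (x ⊗ₜ[A] y)) e).trans rfl

end Groth.Agent.DTenLib

namespace Groth.Agent.DTenLib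

variable {A : Type u} [CommRing A] {K L : DRing.Cx A}

lemma leftUnitor_inv_el (p : ℤ) (x : K.X p) :
    (λ_ K).inv.f p x = el (𝟙_ (DRing.Cx A)) K 0 p p (zero_add p) (one A) x :=
  (congrArg (fun φ => φ x) (leftUnitor'_inv K p)).trans rfl

lemma rightUnitor_inv_el (p : ℤ) (x : K.X p) :
    (ρ_ K).inv.f p x = el K (𝟙_ (DRing.Cx A)) p 0 p (add_zero p) x (one A) :=
  (congrArg (fun φ => φ x) (rightUnitor'_inv K p)).trans rfl

theorem unit_X_zero {q : ℤ} (hq : q ≠ 0) (y : (𝟙_ (DRing.Cx A)).X q) : y = 0 :=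
  (ModuleCat.subsingleton_of_isZero
    (HomologicalComplex.isZero_single_obj_X (ComplexShape.up ℤ) 0 (𝟙_ (ModuleCat.{u} A)) q hq)).elim _ _

theorem unit_X_eq_smul (y : (𝟙_ (DRing.Cx A)).X 0) : ∃ r : A, y = r • one A := by
  refine ⟨(show A from (singleObjXSelf (ComplexShape.up ℤ) 0 (𝟙_ (ModuleCat.{u} A))).hom y), ?_⟩
  rw [one]
  erw [← map_smul, smul_eq_mul, mul_one]
  exact ((singleObjXSelf (ComplexShape.up ℤ) 0 (𝟙_ (ModuleCat.{u} A))).hom_inv_id_apply y).symm

/-- Maps out of `K ⊗ 1` are determined on `x ⊗ 1`. -/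
theorem cx_ext_right_one {T : DRing.Cx A} {f g : (K ⊗ 𝟙_ (DRing.Cx A) : DRing.Cx A) ⟶ T}
    (H : ∀ (p : ℤ) (x : K.X p), f.f p (el K _ p 0 p (add_zero p) x (one A)) = g.f p (el K _ p 0 p (add_zero p) x (one A))) :
    f = g := by
  refine cx_ext_el fun n p q h x y => ?_
  by_cases hq : q = 0
  · subst hq
    obtain rfl : p = n := by omega
    obtain ⟨r, rfl⟩ := unit_X_eq_smul y
    rw [el_smul_right, map_smul, map_smul, H]
  · rw [unit_X_zero hq y, el_zero_right, map_zero, map_zero]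

/-- Maps out of `1 ⊗ K` are determined on `1 ⊗ x`. -/
theorem cx_ext_left_one {T : DRing.Cx A} {f g : (𝟙_ (DRing.Cx A) ⊗ K : DRing.Cx A) ⟶ T}
    (H : ∀ (p : ℤ) (x : K.X p), f.f p (el _ K 0 p p (zero_add p) (one A) x) = g.f p (el _ K 0 p p (zero_add p) (one A) x)) :
    f = g := by
  refine cx_ext_el fun n q p h y x => ?_
  by_cases hq : q = 0
  · subst hq
    obtain rfl : p = n := by omega
    obtain ⟨r, rfl⟩ := unit_X_eq_smul y
    rw [el_smul_left, map_smul, map_smul, H]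
  · rw [unit_X_zero hq y, el_zero_left, map_zero, map_zero]

end Groth.Agent.DTenLib
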