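import Mathlib.CategoryTheory.Functor.Derived.LeftDerived

/-!
# Left derived functors from liftable objects

If every object of the localized category is isomorphic to the image of an object `Y` in a class `P`, every map
out of such an `L Y` lifts, and `F` identifies maps out of `Y` which `L` identifies, then `F` has a left derived
functor, computed on `P`.
-/

universe v v' v'' u u' u''

open CategoryTheory

namespace Groth.Agent.DTenLib

variable {C : Type u} [Category.{v} C] {D : Type u'} [Category.{v'} D] {H : Type u''} [Category.{v''} H]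
  (L : C ⥤ D) (W : MorphismProperty C) [L.IsLocalization W] (F : C ⥤ H) (P : ObjectProperty C)

/-- The hypotheses of the construction. -/
structure Liftable : Prop where
  res : ∀ X : D, ∃ Y : C, P Y ∧ Nonempty (L.obj Y ≅ X)
  lift : ∀ {Y Z : C}, P Y → ∀ g : L.obj Y ⟶ L.obj Z, ∃ f, L.map f = g
  eq : ∀ {Y Z : C} (a b : Y ⟶ Z), P Y → L.map a = L.map b → F.map a = F.map b

variable {L W F P} (h : Liftable L F P)

namespace Liftable

/-- The chosen object over `X`. -/
noncomputable def obj (X : D) : C := (h.res X).choose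

lemma prop_obj (X : D) : P (h.obj X) := (h.res X).choose_spec.1

/-- The chosen isomorphism. -/
noncomputable def iso (X : D) : L.obj (h.obj X) ≅ X := (h.res X).choose_spec.2.some

/-- The chosen lift. -/
noncomputable def map {X : D} {Z : C} (g : X ⟶ L.obj Z) : h.obj X ⟶ Z :=
  (h.lift (h.prop_obj X) ((h.iso X).hom ≫ g)).choose

@[simp, reassoc]
lemma L_map {X : D} {Z : C} (g : X ⟶ L.obj Z) : L.map (h.map g) = (h.iso X).hom ≫ g :=
  (h.lift (h.prop_obj X) ((h.iso X).hom ≫ g)).choose_spec

/-- The candidate derived functor. -/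
noncomputable def fn : D ⥤ H where
  obj X := F.obj (h.obj X)
  map {X Y} g := F.map (h.map (g ≫ (h.iso Y).inv))
  map_id X := (h.eq _ (𝟙 _) (h.prop_obj X) (by simp)).trans (F.map_id _)
  map_comp {X Y Z} f g := by
    rw [← F.map_comp]
    exact h.eq _ _ (h.prop_obj X) (by simp)

/-- Its counit. -/
noncomputable def counit : L ⋙ h.fn ⟶ F where
  app Z := F.map (h.map (𝟙 (L.obj Z)))
  naturality Z Z' f := by
    dsimp [fn]
    rw [← F.map_comp, ← F.map_comp]
    exact h.eq _ _ (h.prop_obj _) (by simp)

lemma isIso_counit {Z : C} (hZ : P Z) : IsIso (h.counit.app Z) := by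
  obtain ⟨q, hq⟩ := h.lift hZ (h.iso (L.obj Z)).inv
  refine ⟨F.map q, ?_, ?_⟩
  · refine (F.map_comp _ _).symm.trans ((h.eq _ (𝟙 _) (h.prop_obj _) ?_).trans (F.map_id _))
    simp [hq]
  · refine (F.map_comp _ _).symm.trans ((h.eq _ (𝟙 _) hZ ?_).trans (F.map_id _))
    simp [hq]

/-- The universal map. -/
noncomputable def desc (G : D ⥤ H) (β : L ⋙ G ⟶ F) : G ⟶ h.fn where
  app X := G.map (h.iso X).inv ≫ β.app (h.obj X)
  naturality X Y g := by
    have e := β.naturality (h.map (g ≫ (h.iso Y).inv))
    dsimp [fn] at e ⊢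
    rw [Category.assoc, ← e, ← G.map_comp_assoc, ← G.map_comp_assoc, L_map, Iso.inv_hom_id_assoc]

lemma isRightKanExtension : h.fn.IsRightKanExtension h.counit :=
  ⟨⟨Limits.IsTerminal.ofUniqueHom
    (fun E => CostructuredArrow.homMk (h.desc E.left E.hom) (by
      ext Z
      have e := E.hom.naturality (h.map (𝟙 (L.obj Z)))
      dsimp [desc, fn, counit] at e ⊢
      refine (Category.assoc _ _ _).trans ?_
      refine (congrArg (E.left.map _ ≫ ·) e.symm).trans ?_
      rw [← E.left.map_comp_assoc, L_map, Category.comp_id, Iso.inv_hom_id,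
        E.left.map_id, Category.id_comp]))
    (fun E m => by
      ext X
      have e := NatTrans.congr_app (CostructuredArrow.w m) (h.obj X)
      have n := m.left.naturality (h.iso X).inv
      haveI := h.isIso_counit (h.prop_obj X)
      have k : (h.fn).map (h.iso X).inv ≫ h.counit.app (h.obj X) = 𝟙 _ :=
        (F.map_comp _ _).symm.trans ((h.eq _ (𝟙 _) (h.prop_obj X) (by simp)).trans (F.map_id _))
      show m.left.app X = E.left.map (h.iso X).inv ≫ E.hom.app (h.obj X)
      refine Eq.trans ?_ (congrArg (E.left.map _ ≫ ·) e)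
      refine Eq.trans ?_ (congrArg (· ≫ h.counit.app (h.obj X)) n.symm |>.trans (Category.assoc _ _ _))
      exact (Category.comp_id _).symm.trans ((congrArg (_ ≫ ·) k.symm).trans (Category.assoc _ _ _).symm))⟩⟩

include h in
theorem hasLeftDerivedFunctor : F.HasLeftDerivedFunctor W :=
  haveI : h.fn.IsLeftDerivedFunctor h.counit W := ⟨h.isRightKanExtension⟩
  Functor.HasLeftDerivedFunctor.mk' (LF := h.fn) (α := h.counit) (W := W)

include h in
theorem isIso_counit_app [F.HasLeftDerivedFunctor W] {Z : C} (hZ : P Z) :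
    IsIso ((F.totalLeftDerivedCounit L W).app Z) := by
  haveI : h.fn.IsLeftDerivedFunctor h.counit W := ⟨h.isRightKanExtension⟩
  have e := (h.fn).leftDerived_fac_app h.counit W (F.totalLeftDerived L W) (F.totalLeftDerivedCounit L W) Z
  haveI := h.isIso_counit hZ
  haveI : IsIso (h.fn.leftDerivedLift h.counit W (F.totalLeftDerived L W) (F.totalLeftDerivedCounit L W)) :=
    (h.fn.isLeftDerivedFunctor_iff_isIso_leftDerivedLift h.counit W _ _).1 inferInstance
  rw [← e]
  infer_instance

include h in
/-- The counit is also an isomorphism at objects receiving a map from `P` inverted by `L` and `F`. -/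
theorem isIso_counit_app_of_map [F.HasLeftDerivedFunctor W] {Y Z : C} (p : Y ⟶ Z) (hY : P Y)
    [IsIso (L.map p)] [IsIso (F.map p)] : IsIso ((F.totalLeftDerivedCounit L W).app Z) := by
  haveI : IsIso ((F.totalLeftDerivedCounit L W).app Y) := h.isIso_counit_app hY
  have e := (F.totalLeftDerivedCounit L W).naturality p
  haveI : IsIso ((L ⋙ F.totalLeftDerived L W).map p) :=
    inferInstanceAs (IsIso ((F.totalLeftDerived L W).map (L.map p)))
  haveI : IsIso ((L ⋙ F.totalLeftDerived L W).map p ≫ (F.totalLeftDerivedCounit L W).app Z) := by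
    rw [e]; infer_instance
  exact IsIso.of_isIso_comp_left ((L ⋙ F.totalLeftDerived L W).map p) _

end Liftable

end Groth.Agent.DTenLib
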