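import Groth.Prelude.Def_DTen2
import Groth.Agent.DRingTorAmp.Values
import Groth.Agent.DRingComplete.ProjHom
import Groth.Agent.PCExt.Basic
import Groth.Agent.DTenLib.Lifts

/-!
# K-projective objects of `Cx` are liftable; tensoring K-flat complexes
-/

universe u

open CategoryTheory Limits MonoidalCategory HomologicalComplex

namespace Groth.Agent.DTenLib

attribute [local instance] HasDerivedCategory.standard

set_option linter.style.haveILetI false

open Groth.Agent.DRingKFlat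

variable {A : Type u} [CommRing A]

theorem homotopy_of_Q_eq {P L : DRing.Cx A} [P.IsKProjective] {a b : P ⟶ L}
    (h : DerivedCategory.Q.map a = DerivedCategory.Q.map b) : Nonempty (Homotopy a b) := by
  have h0 : DerivedCategory.Q.map (a - b) = 0 := by rw [Functor.map_sub, h, sub_self]
  rw [PCExt.Q_map_eq_zero_iff_of_isKProjective, Functor.map_sub, sub_eq_zero] at h0
  exact ⟨HomotopyCategory.homotopyOfEq _ _ h0⟩

theorem tensor_homotopy₁ {K K' : DRing.Cx A} {a b : K ⟶ K'} (h : Homotopy a b) (L : DRing.Cx A) :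
    DerivedCategory.Q.map (a ▷ L) = DerivedCategory.Q.map (b ▷ L) :=
  DerivedCategory.Q_map_eq_of_homotopy (ModuleCat.{u} A) (mapBifunctorMapHomotopy₁ h (𝟙 L) _ _)

theorem tensor_homotopy₂ {L L' : DRing.Cx A} {a b : L ⟶ L'} (K : DRing.Cx A) (h : Homotopy a b) :
    DerivedCategory.Q.map (K ◁ a) = DerivedCategory.Q.map (K ◁ b) :=
  DerivedCategory.Q_map_eq_of_homotopy (ModuleCat.{u} A) (mapBifunctorMapHomotopy₂ (𝟙 K) h _ _)

theorem whiskerRight_qis {K K' : DRing.Cx A} (f : K ⟶ K') [QuasiIso f] {L : DRing.Cx A} (hL : IsKFl L) :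
    QuasiIso (f ▷ L) := quasiIso_tot_flip hL f

theorem whiskerLeft_qis {L L' : DRing.Cx A} (K : DRing.Cx A) (g : L ⟶ L') [QuasiIso g]
    (hL : IsKFl L) (hL' : IsKFl L') : QuasiIso (K ◁ g) := quasiIso_tot_obj hL hL' g K

theorem whiskerRight_eq {K K' : DRing.Cx A} (f : K ⟶ K') (L : DRing.Cx A) :
    f ▷ L = (DTen.braidCx K L).hom ≫ (L ◁ f) ≫ (DTen.braidCx K' L).inv := by
  rw [← Category.assoc, Iso.eq_comp_inv]
  simpa using DTen.braidCx_naturality f (𝟙 L)

theorem whiskerLeft_eq {L L' : DRing.Cx A} (K : DRing.Cx A) (g : L ⟶ L') :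
    K ◁ g = (DTen.braidCx K L).hom ≫ (g ▷ K) ≫ (DTen.braidCx K L').inv := by
  rw [← Category.assoc, Iso.eq_comp_inv]
  simpa using DTen.braidCx_naturality (𝟙 K) g

theorem whiskerLeft_qis' {L L' : DRing.Cx A} (g : L ⟶ L') [QuasiIso g] {K : DRing.Cx A} (hK : IsKFl K) :
    QuasiIso (K ◁ g) := by
  haveI := whiskerRight_qis g hK
  rw [whiskerLeft_eq]
  infer_instance

theorem whiskerRight_qis' {K K' : DRing.Cx A} (f : K ⟶ K') [QuasiIso f] (hK : IsKFl K) (hK' : IsKFl K')
    (L : DRing.Cx A) : QuasiIso (f ▷ L) := by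
  haveI := whiskerLeft_qis L f hK hK'
  rw [whiskerRight_eq]
  infer_instance

/-- The tensor product of K-flat complexes is K-flat. -/
theorem isKFl_tensor {K L : DRing.Cx A} (hK : IsKFl K) (hL : IsKFl L) : IsKFl (K ⊗ L) := by
  refine isKFlat_iff.2 fun F hF => ?_
  exact acyclic_of_iso (α_ F K L) (isKFlat_iff.1 hL _ (isKFlat_iff.1 hK F hF))

variable (A) in
/-- K-projective complexes. -/
def KPr : ObjectProperty (DRing.Cx A) := fun P => CochainComplex.IsKProjective P

theorem exists_kproj (X : Dual.D A) : ∃ P : DRing.Cx A, KPr A P ∧ Nonempty (DerivedCategory.Q.obj P ≅ X) := by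
  obtain ⟨Q, π, hQ, hπ, -⟩ := DRingKProj.exists_resolution (DerivedCategory.Q.objPreimage X)
  haveI : IsIso (DerivedCategory.Q.map π) := (DerivedCategory.isIso_Q_map_iff_quasiIso _ π).2 hπ
  exact ⟨Q, hQ, ⟨asIso (DerivedCategory.Q.map π) ≪≫ DerivedCategory.Q.objObjPreimageIso X⟩⟩

/-- `Q` with any functor which respects homotopies is liftable. -/
theorem liftable_Q {H : Type*} [Category* H] (F : DRing.Cx A ⥤ H)
    (hF : ∀ {K L : DRing.Cx A} {a b : K ⟶ L}, Homotopy a b → F.map a = F.map b) :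
    Liftable DerivedCategory.Q F (KPr A) where
  res := exists_kproj
  lift {Y Z} hY g := haveI : Y.IsKProjective := hY; DRingComplete.exists_Q_map_eq Y Z g
  eq {Y Z} a b hY h := by
    haveI : Y.IsKProjective := hY
    obtain ⟨t⟩ := homotopy_of_Q_eq h
    exact hF t

end Groth.Agent.DTenLib
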