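import Groth.Agent.DTenLib.BaseChange
import Groth.Prelude.Def_DTen6

/-!
# The triple mixed tensor product
-/

universe u

open CategoryTheory Limits MonoidalCategory HomologicalComplex

namespace Groth.Agent.DTenLib

attribute [local instance] HasDerivedCategory.standard

set_option linter.style.haveILetI false

open Groth.Agent.DRingKFlat Groth.Agent.DRingTorAmp

variable {A B C : Type u} [CommRing A] [CommRing B] [CommRing C] (φ : A →+* B) (ψ : B →+* C)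

/-- Triples of K-projective complexes over three rings. -/
def KPrMix₃ : ObjectProperty (DRing.Cx A × (DRing.Cx B × DRing.Cx C)) :=
  fun X => KPr A X.1 ∧ KPrMix (R := B) (A := C) X.2

theorem liftableMix₃ : Liftable (DTen.QMix₃ A B C) (DTen.mix₃ φ ψ) (KPrMix₃ (A := A) (B := B) (C := C)) where
  res X := by
    obtain ⟨P, hP, ⟨e⟩⟩ := exists_kproj X.1
    obtain ⟨P', hP', ⟨e'⟩⟩ := (liftableMix ψ).res X.2
    exact ⟨(P, P'), ⟨hP, hP'⟩, ⟨Iso.prod e e'⟩⟩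
  lift {Y Z} hY g := by
    haveI : Y.1.IsKProjective := hY.1
    obtain ⟨f, hf⟩ := DRingComplete.exists_Q_map_eq Y.1 Z.1 g.1
    obtain ⟨f', hf'⟩ := (liftableMix ψ).lift hY.2 g.2
    exact ⟨Prod.mkHom f f', Prod.ext hf hf'⟩
  eq {Y Z} a b hY h := by
    haveI : Y.1.IsKProjective := hY.1
    haveI : Y.2.1.IsKProjective := hY.2.1
    haveI : Y.2.2.IsKProjective := hY.2.2
    obtain ⟨t⟩ := homotopy_of_Q_eq (congrArg Prod.fst h)
    obtain ⟨t'⟩ := homotopy_of_Q_eq (congrArg (fun x => (Prod.snd x).1) h)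
    obtain ⟨t''⟩ := homotopy_of_Q_eq (congrArg (fun x => (Prod.snd x).2) h)
    show DerivedCategory.Q.map ((DTen.extCx ψ).map ((DTen.extCx φ).map a.1 ▷ _ ≫ _ ◁ a.2.1) ▷ _ ≫ _ ◁ a.2.2) =
      DerivedCategory.Q.map ((DTen.extCx ψ).map ((DTen.extCx φ).map b.1 ▷ _ ≫ _ ◁ b.2.1) ▷ _ ≫ _ ◁ b.2.2)
    rw [DerivedCategory.Q.map_comp, DerivedCategory.Q.map_comp, tensor_homotopy₂ _ t'']
    congr 1
    exact tensor_homotopy₁ ((ModuleCat.extendScalars.{u, u, u} ψ).mapHomotopy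
      (((mapBifunctorMapHomotopy₁ ((ModuleCat.extendScalars.{u, u, u} φ).mapHomotopy t) (𝟙 _)
          (curriedTensor (ModuleCat.{u} B)) (ComplexShape.up ℤ)).compRight _).trans
        ((mapBifunctorMapHomotopy₂ (𝟙 _) t' (curriedTensor (ModuleCat.{u} B)) (ComplexShape.up ℤ)).compLeft _))) Y.2.2

theorem hasLTenMix₃ : DTen.HasLTenMix₃ φ ψ := (liftableMix₃ φ ψ).hasLeftDerivedFunctor

variable [DTen.HasLTenMix₃ φ ψ] {M : DRing.Cx A} {N : DRing.Cx B} {K : DRing.Cx C}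
  [M.IsKProjective] [N.IsKProjective] [K.IsKProjective]

theorem isIso_εMix₃ : IsIso ((DTen.εMix₃ φ ψ).app (M, (N, K))) :=
  (liftableMix₃ φ ψ).isIso_counit_app (W := DTen.qisMix₃ A B C)
    ⟨‹M.IsKProjective›, ‹N.IsKProjective›, ‹K.IsKProjective›⟩

theorem isIso_leg₃L_app [DTen.HasLTenMix φ] [DTen.HasLTenMix ψ] :
    IsIso ((DTen.leg₃L φ ψ).app ((DTen.QMix₃ A B C).obj (M, (N, K)))) := by
  haveI := isIso_εMix₃ φ ψ (M := M) (N := N) (K := K)
  haveI := isIso_εMix φ (isKFl_of_isKProjective M) N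
  haveI : IsIso ((DTen.εMix ψ).app ((DTen.mixT φ).obj (M, N), K)) :=
    isIso_εMix ψ (isKFl_tensor (DCohBridge.isKFlat_baseChange φ (isKFl_of_isKProjective M))
      (isKFl_of_isKProjective N)) K
  haveI : IsIso ((DTen.LTenMix ψ).map (Prod.mkHom ((DTen.εMix φ).app (M, N)) (𝟙 (DerivedCategory.Q.obj K)))) :=
    haveI : IsIso (Prod.mkHom ((DTen.εMix φ).app (M, N)) (𝟙 (DerivedCategory.Q.obj K))) :=
      (isIso_prod_iff _ _).2 ⟨inferInstance, inferInstance⟩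
    Functor.map_isIso _ _
  haveI : IsIso ((DTen.leg₃L φ ψ).app ((DTen.QMix₃ A B C).obj (M, (N, K))) ≫
      (DTen.εMix₃ φ ψ).app (M, (N, K))) := by
    rw [DTen.leg₃L_fac]
    exact IsIso.comp_isIso' ‹IsIso ((DTen.LTenMix ψ).map _)› ‹IsIso ((DTen.εMix ψ).app _)›
  exact IsIso.of_isIso_comp_right _ ((DTen.εMix₃ φ ψ).app (M, (N, K)))

theorem isIso_leg₃R_app [DTen.HasLTenMix ψ] [DTen.HasLTenMix (ψ.comp φ)] :
    IsIso ((DTen.leg₃R φ ψ).app ((DTen.QMix₃ A B C).obj (M, (N, K)))) := by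
  haveI := isIso_εMix₃ φ ψ (M := M) (N := N) (K := K)
  haveI := isIso_εMix ψ (isKFl_of_isKProjective N) K
  haveI : IsIso ((DTen.εMix (ψ.comp φ)).app (M, (DTen.mixT ψ).obj (N, K)) ≫
      DerivedCategory.Q.map ((DTen.θ₃ φ ψ).inv.app (M, (N, K)))) :=
    haveI := isIso_εMix (ψ.comp φ) (isKFl_of_isKProjective M) ((DTen.mixT ψ).obj (N, K))
    inferInstance
  haveI : IsIso ((DTen.LTenMix (ψ.comp φ)).map
      (Prod.mkHom (𝟙 (DerivedCategory.Q.obj M)) ((DTen.εMix ψ).app (N, K)))) :=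
    haveI : IsIso (Prod.mkHom (𝟙 (DerivedCategory.Q.obj M)) ((DTen.εMix ψ).app (N, K))) :=
      (isIso_prod_iff _ _).2 ⟨inferInstance, inferInstance⟩
    Functor.map_isIso _ _
  haveI : IsIso ((DTen.leg₃R φ ψ).app ((DTen.QMix₃ A B C).obj (M, (N, K))) ≫
      (DTen.εMix₃ φ ψ).app (M, (N, K))) := by
    rw [DTen.leg₃R_fac]
    exact IsIso.comp_isIso' ‹IsIso ((DTen.LTenMix (ψ.comp φ)).map _)› ‹_›
  exact IsIso.of_isIso_comp_right _ ((DTen.εMix₃ φ ψ).app (M, (N, K)))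

end Groth.Agent.DTenLib
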