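import Groth.Agent.DTenLib.DualCx

/-!
# Exact pairings of a bounded complex of finite projective modules with its dual
-/

universe u

open CategoryTheory Limits MonoidalCategory HomologicalComplex
open scoped TensorProduct

namespace Groth.Agent.DTenLib

variable {A : Type u} [CommRing A] {K : DRing.Cx A}

lemma ev_f_zero (z : (dualCx K ⊗ K : DRing.Cx A).X 0) : (ev K).f 0 z = ev₀ K z • one A := by
  rw [one]
  erw [mkHomToSingle_f]
  erw [← map_smul, smul_eq_mul, mul_one]
  rfl

lemma ev'_f_zero (z : (K ⊗ dualCx K : DRing.Cx A).X 0) : (ev' K).f 0 z = ev₀' K z • one A := by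
  rw [one]
  erw [mkHomToSingle_f]
  erw [← map_smul, smul_eq_mul, mul_one]
  rfl

namespace DualBases

variable (B : DualBases K)

lemma coev_one : B.coev.f 0 (one A) = B.cc := by
  erw [mkHomFromSingle_f]
  show (LinearMap.toSpanSingleton A _ B.cc) ((singleObjXSelf (ComplexShape.up ℤ) 0 (𝟙_ (ModuleCat.{u} A))).hom (one A)) = _
  rw [one]
  erw [Iso.inv_hom_id_apply]
  exact one_smul A _

lemma coev'_one : B.coev'.f 0 (one A) = B.cc' := by
  erw [mkHomFromSingle_f]
  show (LinearMap.toSpanSingleton A _ B.cc') ((singleObjXSelf (ComplexShape.up ℤ) 0 (𝟙_ (ModuleCat.{u} A))).hom (one A)) = _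
  rw [one]
  erw [Iso.inv_hom_id_apply]
  exact one_smul A _

lemma range_sum_single {M : Type*} [AddCommMonoid M] (q : ℤ) (f : ℤ → M) (hne : ∀ q', q' ≠ q → f q' = 0)
    (hout : (q < B.lo ∨ B.lo + B.N ≤ q) → f q = 0) :
    ∑ k ∈ Finset.range B.N, f (B.lo + k) = f q := by
  by_cases hq : q < B.lo ∨ B.lo + B.N ≤ q
  · rw [hout hq]
    exact Finset.sum_eq_zero fun k hk => hne _ (by simp at hk; omega)
  · push_neg at hq
    rw [Finset.sum_eq_single (q - B.lo).toNat]
    · congr 1; omega
    · exact fun k _ hk => hne _ (by omega)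
    · exact fun h => absurd (Finset.mem_range.2 (by omega)) h

theorem zigzag₁ :
    dualCx K ◁ B.coev ≫ (α_ (dualCx K) K (dualCx K)).inv ≫ ev K ▷ dualCx K =
      (ρ_ (dualCx K)).hom ≫ (λ_ (dualCx K)).inv := by
  refine cx_ext_right_one fun q φ => ?_
  simp only [HomologicalComplex.comp_f, ConcreteCategory.comp_apply]
  rw [rightUnitor_el, leftUnitor_inv_el, whiskerLeft_el, coev_one, cc, el_sum_right, map_sum, map_sum]
  let f : ℤ → (𝟙_ (DRing.Cx A) ⊗ dualCx K : DRing.Cx A).X q := fun q' =>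
    (ev K ▷ dualCx K).f q ((α_ (dualCx K) K (dualCx K)).inv.f q (el _ _ q 0 q (add_zero q) φ (B.c q')))
  have hf : ∀ q', f q' = ∑ i, el _ _ (q + -q') q' q (by omega)
      ((ev K).f (q + -q') (el _ _ q (-q') (q + -q') rfl φ (B.e q' i))) (fn K q' (B.φ q' i)) := fun q' => by
    simp only [f, c, el_sum_right, map_sum]
    refine Finset.sum_congr rfl fun i _ => ?_
    rw [assoc_inv_el (m := q + -q') rfl, whiskerRight_el]
  rw [B.range_sum_single q f ?_ ?_, hf]
  · refine Eq.trans ?_ (congrArg (el _ _ 0 q q (zero_add q) (one A)) (B.fn_eq q φ))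
    rw [el_sum_right]
    refine Finset.sum_congr rfl fun i _ => ?_
    have key : ∀ (m : ℤ) (hm : q + -q = m) (h2 : m + q = q),
        el (𝟙_ (DRing.Cx A)) _ m q q h2 ((ev K).f m (el _ _ q (-q) m hm φ (B.e q i))) (fn K q (B.φ q i)) =
          el _ _ 0 q q (zero_add q) (one A) (unfn K φ (B.e q i) • fn K q (B.φ q i)) := fun m hm h2 => by
      obtain rfl : m = 0 := by omega
      rw [ev_f_zero, ev₀_el, XIso_self, el_smul_left, el_smul_right]
    exact key _ rfl _
  · intro q' hq'
    rw [hf]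
    exact Finset.sum_eq_zero fun i _ => by rw [show (ev K).f (q + -q') _ = 0 from unit_X_zero (q := q + -q') (by omega) _, el_zero_left]
  · intro hq
    simp only [f]
    rw [B.c_eq_zero q (by omega), el_zero_right, map_zero, map_zero]

theorem zigzag₂ :
    B.coev ▷ K ≫ (α_ K (dualCx K) K).hom ≫ K ◁ ev K = (λ_ K).hom ≫ (ρ_ K).inv := by
  refine cx_ext_left_one fun p x => ?_
  obtain ⟨q, rfl⟩ : ∃ q, p = -q := ⟨-p, by simp⟩
  simp only [HomologicalComplex.comp_f, ConcreteCategory.comp_apply]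
  rw [leftUnitor_el, rightUnitor_inv_el, whiskerRight_el, coev_one, cc, el_sum_left, map_sum, map_sum]
  let f : ℤ → (K ⊗ 𝟙_ (DRing.Cx A) : DRing.Cx A).X (-q) := fun q' =>
    (K ◁ ev K).f (-q) ((α_ K (dualCx K) K).hom.f (-q) (el _ _ 0 (-q) (-q) (zero_add _) (B.c q') x))
  have hf : ∀ q', f q' = ∑ i, el _ _ (-q') (q' + -q) (-q) (by omega) (B.e q' i)
      ((ev K).f (q' + -q) (el _ _ q' (-q) (q' + -q) rfl (fn K q' (B.φ q' i)) x)) := fun q' => by
    simp only [f, c, el_sum_left, map_sum]
    refine Finset.sum_congr rfl fun i _ => ?_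
    rw [assoc_el (k := q' + -q) (show -q' + q' = 0 by omega) (zero_add (-q)) rfl, whiskerLeft_el]
  rw [B.range_sum_single q f ?_ ?_, hf]
  · refine Eq.trans ?_ (congrArg (fun v => el _ _ (-q) 0 (-q) (add_zero _) v (one A)) (B.spec q x))
    rw [el_sum_left]
    refine Finset.sum_congr rfl fun i _ => ?_
    have key : ∀ (m : ℤ) (hm : q + -q = m) (h2 : -q + m = -q),
        el _ (𝟙_ (DRing.Cx A)) (-q) m (-q) h2 (B.e q i) ((ev K).f m (el _ _ q (-q) m hm (fn K q (B.φ q i)) x)) =
          el _ _ (-q) 0 (-q) (add_zero _) (B.φ q i x • B.e q i) (one A) := fun m hm h2 => by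
      obtain rfl : m = 0 := by omega
      rw [ev_f_zero, ev₀_el, XIso_self, el_smul_left, el_smul_right]
      rfl
    exact key _ rfl _
  · intro q' hq'
    rw [hf]
    exact Finset.sum_eq_zero fun i _ => by rw [show (ev K).f (q' + -q) _ = 0 from unit_X_zero (q := q' + -q) (by omega) _, el_zero_right]
  · intro hq
    simp only [f]
    rw [B.c_eq_zero q (by omega), el_zero_left, map_zero, map_zero]

theorem zigzag₃ :
    K ◁ B.coev' ≫ (α_ K (dualCx K) K).inv ≫ ev' K ▷ K = (ρ_ K).hom ≫ (λ_ K).inv := by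
  refine cx_ext_right_one fun p x => ?_
  obtain ⟨q, rfl⟩ : ∃ q, p = -q := ⟨-p, by simp⟩
  simp only [HomologicalComplex.comp_f, ConcreteCategory.comp_apply]
  rw [rightUnitor_el, leftUnitor_inv_el, whiskerLeft_el, coev'_one, cc', el_sum_right, map_sum, map_sum]
  let f : ℤ → (𝟙_ (DRing.Cx A) ⊗ K : DRing.Cx A).X (-q) := fun q' =>
    (ev' K ▷ K).f (-q) ((α_ K (dualCx K) K).inv.f (-q) (el _ _ (-q) 0 (-q) (add_zero _) x (B.c' q')))
  have hf : ∀ q', f q' = (-q').negOnePow • ∑ i, el _ _ (-q + q') (-q') (-q) (by omega)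
      ((ev' K).f (-q + q') (el _ _ (-q) q' (-q + q') rfl x (fn K q' (B.φ q' i)))) (B.e q' i) := fun q' => by
    simp only [f, c', Units.smul_def, ← Int.cast_smul_eq_zsmul A, el_smul_right, map_smul, el_sum_right, map_sum]
    congr 1
    refine Finset.sum_congr rfl fun i _ => ?_
    rw [assoc_inv_el (m := -q + q') rfl, whiskerRight_el]
  rw [B.range_sum_single q f ?_ ?_, hf]
  · refine Eq.trans ?_ (congrArg (el _ _ 0 (-q) (-q) (zero_add _) (one A)) (B.spec q x))
    rw [el_sum_right, Finset.smul_sum]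
    refine Finset.sum_congr rfl fun i _ => ?_
    have key : ∀ (m : ℤ) (hm : -q + q = m) (h2 : m + -q = -q),
        (-q).negOnePow • el (𝟙_ (DRing.Cx A)) _ m (-q) (-q) h2
          ((ev' K).f m (el _ _ (-q) q m hm x (fn K q (B.φ q i)))) (B.e q i) =
          el _ _ 0 (-q) (-q) (zero_add _) (one A) (B.φ q i x • B.e q i) := fun m hm h2 => by
      obtain rfl : m = 0 := by omega
      rw [ev'_f_zero, ev₀'_el, XIso_self, el_smul_left, el_smul_right]
      simp only [Units.smul_def, ← Int.cast_smul_eq_zsmul A, smul_smul, smul_eq_mul, ← mul_assoc, ← Int.cast_mul,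
        ← Units.val_mul, Int.units_mul_self, Units.val_one, Int.cast_one, one_mul]
      rfl
    exact key _ rfl _
  · intro q' hq'
    rw [hf, Finset.sum_eq_zero fun i _ => by rw [show (ev' K).f (-q + q') _ = 0 from unit_X_zero (q := -q + q') (by omega) _, el_zero_left], smul_zero]
  · intro hq
    simp only [f]
    rw [B.c'_eq_zero q (by omega), el_zero_right, map_zero, map_zero]

theorem zigzag₄ :
    B.coev' ▷ dualCx K ≫ (α_ (dualCx K) K (dualCx K)).hom ≫ dualCx K ◁ ev' K =
      (λ_ (dualCx K)).hom ≫ (ρ_ (dualCx K)).inv := by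
  refine cx_ext_left_one fun q φ => ?_
  simp only [HomologicalComplex.comp_f, ConcreteCategory.comp_apply]
  rw [leftUnitor_el, rightUnitor_inv_el, whiskerRight_el, coev'_one, cc', el_sum_left, map_sum, map_sum]
  let f : ℤ → (dualCx K ⊗ 𝟙_ (DRing.Cx A) : DRing.Cx A).X q := fun q' =>
    (dualCx K ◁ ev' K).f q ((α_ (dualCx K) K (dualCx K)).hom.f q (el _ _ 0 q q (zero_add _) (B.c' q') φ))
  have hf : ∀ q', f q' = (-q').negOnePow • ∑ i, el _ _ q' (-q' + q) q (by omega) (fn K q' (B.φ q' i))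
      ((ev' K).f (-q' + q) (el _ _ (-q') q (-q' + q) rfl (B.e q' i) φ)) := fun q' => by
    simp only [f, c', Units.smul_def, ← Int.cast_smul_eq_zsmul A, el_smul_left, map_smul, el_sum_left, map_sum]
    congr 1
    refine Finset.sum_congr rfl fun i _ => ?_
    rw [assoc_el (k := -q' + q) (show q' + -q' = 0 by omega) (zero_add q) rfl, whiskerLeft_el]
  rw [B.range_sum_single q f ?_ ?_, hf]
  · refine Eq.trans ?_ (congrArg (fun v => el _ _ q 0 q (add_zero _) v (one A)) (B.fn_eq q φ))
    rw [el_sum_left, Finset.smul_sum]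
    refine Finset.sum_congr rfl fun i _ => ?_
    have key : ∀ (m : ℤ) (hm : -q + q = m) (h2 : q + m = q),
        (-q).negOnePow • el _ (𝟙_ (DRing.Cx A)) q m q h2 (fn K q (B.φ q i))
          ((ev' K).f m (el _ _ (-q) q m hm (B.e q i) φ)) =
          el _ _ q 0 q (add_zero _) (unfn K φ (B.e q i) • fn K q (B.φ q i)) (one A) := fun m hm h2 => by
      obtain rfl : m = 0 := by omega
      rw [ev'_f_zero, ev₀'_el, XIso_self, el_smul_left, el_smul_right]
      simp only [Units.smul_def, ← Int.cast_smul_eq_zsmul A, smul_smul, smul_eq_mul, ← mul_assoc, ← Int.cast_mul,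
        ← Units.val_mul, Int.units_mul_self, Units.val_one, Int.cast_one, one_mul]
    exact key _ rfl _
  · intro q' hq'
    rw [hf, Finset.sum_eq_zero fun i _ => by rw [show (ev' K).f (-q' + q) _ = 0 from unit_X_zero (q := -q' + q) (by omega) _, el_zero_right], smul_zero]
  · intro hq
    simp only [f]
    rw [B.c'_eq_zero q (by omega), el_zero_left, map_zero, map_zero]

/-- `K^∨` is right dual to `K`. -/
@[reducible]
noncomputable def pairing : ExactPairing K (dualCx K) where
  coevaluation' := B.coev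
  evaluation' := ev K
  coevaluation_evaluation' := B.zigzag₁
  evaluation_coevaluation' := B.zigzag₂

/-- `K^∨` is left dual to `K`. -/
@[reducible]
noncomputable def pairing' : ExactPairing (dualCx K) K where
  coevaluation' := B.coev'
  evaluation' := ev' K
  coevaluation_evaluation' := B.zigzag₃
  evaluation_coevaluation' := B.zigzag₄

end DualBases

end Groth.Agent.DTenLib
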