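import Groth.Agent.DTenLib.Closed
import Groth.Agent.DTenLib.BaseChange
import Groth.Agent.DTenLib.Elem
import Groth.Prelude.Def_DTen5
import Groth.Prelude.Def_DTen6

/-!
# Derived base change is monoidal; the comparison `rhomBC`
-/

universe u

open CategoryTheory Limits MonoidalCategory HomologicalComplex DTen

namespace Groth.Agent.DTenLib

attribute [local instance] HasDerivedCategory.standard

set_option linter.style.haveILetI false

open Groth.Agent.DRingKFlat Groth.Agent.DRingTorAmp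

variable {R R' : Type u} [CommRing R] [CommRing R'] (φ : R →+* R')

open scoped TensorProduct ChangeOfRings

/-- The adjunct of `extTenCxIso`. -/
theorem cxAdj_extTenCxIso (X Y : DRing.Cx R) :
    (cxAdj φ).homEquiv _ _ (extTenCxIso φ X Y).hom =
      ((DTen.unitCx φ).app X ▷ Y ≫ (DTen.resCx φ).obj ((DTen.extCx φ).obj X) ◁ (DTen.unitCx φ).app Y) ≫
        resTenCx φ ((DTen.extCx φ).obj X) ((DTen.extCx φ).obj Y) := by
  refine cx_ext_el fun n p q h x y => ?_
  let u := (ModuleCat.extendRestrictScalarsAdj.{u, u, u} φ).unit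
  have e₁ : (extTenCxIso φ X Y).hom.f n ((1 : R') ⊗ₜ[R,φ] el X Y p q n h x y) =
      el ((DTen.extCx φ).obj X) ((DTen.extCx φ).obj Y) p q n h ((1 : R') ⊗ₜ[R,φ] x) ((1 : R') ⊗ₜ[R,φ] y) :=
    (congrArg (fun f => f ((1 : R') ⊗ₜ[R,φ] (x ⊗ₜ[R] y))) (map_ι_extTenCxIso_hom φ X Y p q n h)).trans rfl
  have e₂ : (resTenCx φ ((DTen.extCx φ).obj X) ((DTen.extCx φ).obj Y)).f n
      (el ((DTen.resCx φ).obj ((DTen.extCx φ).obj X)) ((DTen.resCx φ).obj ((DTen.extCx φ).obj Y)) p q n h
        (u.app (X.X p) x) (u.app (Y.X q) y)) =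
      el ((DTen.extCx φ).obj X) ((DTen.extCx φ).obj Y) p q n h ((1 : R') ⊗ₜ[R,φ] x) ((1 : R') ⊗ₜ[R,φ] y) :=
    (congrArg (fun f => f (u.app (X.X p) x ⊗ₜ[R] u.app (Y.X q) y))
      (ι_resTenCx φ ((DTen.extCx φ).obj X) ((DTen.extCx φ).obj Y) p q n h)).trans rfl
  rw [Adjunction.homEquiv_unit]
  show (extTenCxIso φ X Y).hom.f n ((1 : R') ⊗ₜ[R,φ] el X Y p q n h x y) =
    (resTenCx φ _ _).f n ((_ ◁ (DTen.unitCx φ).app Y).f n
      (((DTen.unitCx φ).app X ▷ Y).f n (el X Y p q n h x y)))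
  have e₃ := whiskerRight_el (L := Y) ((DTen.unitCx φ).app X) h x y
  have e₄ := whiskerLeft_el (K := (DTen.resCx φ).obj ((DTen.extCx φ).obj X)) ((DTen.unitCx φ).app Y) h
    (((DTen.unitCx φ).app X).f p x) y
  exact e₁.trans (e₂.symm.trans (congrArg _ (e₄.symm.trans (congrArg _ e₃.symm))))

variable [DTen.HasLTen R] [DTen.HasLTen R'] [DTen.HasLBase φ] [DTen.HasResTen φ] [DTen.ResLegIso φ]

/-- The oplax comparison `(X ⊗ K) ⊗ R' ⟶ (X ⊗ R') ⊗' (K ⊗ R')`. -/
noncomputable def baseDelta (X K : Dual.D R) :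
    (LBase φ).obj ((LTen₂ R).obj (X, K)) ⟶ (LTen₂ R').obj ((LBase φ).obj X, (LBase φ).obj K) :=
  ((baseAdj φ).homEquiv _ _).symm
    (tm ((baseAdj φ).unit.app X) ((baseAdj φ).unit.app K) ≫ (resPF φ).app ((LBase φ).obj X, (LBase φ).obj K))

theorem baseDelta_natural {X X' K K' : Dual.D R} (f : X ⟶ X') (g : K ⟶ K') :
    (LBase φ).map (tm f g) ≫ baseDelta φ X' K' = baseDelta φ X K ≫ tm ((LBase φ).map f) ((LBase φ).map g) := by
  apply ((baseAdj φ).homEquiv _ _).injective
  rw [(baseAdj φ).homEquiv_naturality_left, (baseAdj φ).homEquiv_naturality_right, baseDelta, baseDelta,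
    Equiv.apply_symm_apply, Equiv.apply_symm_apply, Category.assoc]
  have h := (resPF φ).naturality
    (Prod.mkHom ((LBase φ).map f) ((LBase φ).map g) :
      (((LBase φ).obj X, (LBase φ).obj K) : Dual.D R' × Dual.D R') ⟶ ((LBase φ).obj X', (LBase φ).obj K'))
  have hx := (baseAdj φ).unit.naturality f
  have hy := (baseAdj φ).unit.naturality g
  dsimp at h hx hy ⊢
  erw [← h, ← tm_comp_assoc, ← tm_comp_assoc, hx, hy]

theorem baseDelta_eq {P P' : DRing.Cx R} :
    baseDelta φ (DerivedCategory.Q.obj P) (DerivedCategory.Q.obj P') ≫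
        tm ((DTen.baseCmp φ).app P) ((DTen.baseCmp φ).app P') ≫
          (DTen.ε R').app ((DTen.extCx φ).obj P, (DTen.extCx φ).obj P') =
      (LBase φ).map ((DTen.ε R).app (P, P')) ≫ (DTen.baseCmp φ).app (P ⊗ P') ≫
        DerivedCategory.Q.map (extTenCxIso φ P P').hom := by
  apply ((baseAdj φ).homEquiv _ _).injective
  rw [(baseAdj φ).homEquiv_naturality_right, baseDelta, Equiv.apply_symm_apply,
    (baseAdj φ).homEquiv_naturality_left, (baseAdj φ).homEquiv_unit, Functor.map_comp, Functor.map_comp]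
  rw [← cancel_mono ((DTen.resFactors φ).hom.app ((tensorT R').obj ((DTen.extCx φ).obj P, (DTen.extCx φ).obj P')))]
  have hpf := resPF_fac φ ((DTen.extCx φ).obj P, (DTen.extCx φ).obj P')
  have hn := (resPF φ).naturality
    (Prod.mkHom ((DTen.baseCmp φ).app P) ((DTen.baseCmp φ).app P') :
      (((LBase φ).obj (DerivedCategory.Q.obj P), (LBase φ).obj (DerivedCategory.Q.obj P')) : Dual.D R' × Dual.D R') ⟶
        (DerivedCategory.Q.obj ((DTen.extCx φ).obj P), DerivedCategory.Q.obj ((DTen.extCx φ).obj P')))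
  dsimp [resβB, resβA] at hpf hn
  have hg := baseγ_eq φ (P ⊗ P') (extTenCxIso φ P P').hom
  have hu : ∀ K : DRing.Cx R, (baseAdj φ).unit.app (DerivedCategory.Q.obj K) ≫
      (DRing.restrictD φ).map ((DTen.baseCmp φ).app K) ≫ (DTen.resFactors φ).hom.app ((DTen.extCx φ).obj K) =
      DerivedCategory.Q.map ((DTen.unitCx φ).app K) := fun K => by
    rw [reassoc_of% DTen.baseCmp_fac φ K]
    dsimp [DTen.baseγ]
    rw [Category.assoc]
    erw [Iso.inv_hom_id_app, Category.comp_id]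
  simp only [Category.assoc]
  erw [← reassoc_of% hn, hpf, reassoc_of% DTen.baseCmp_fac φ (P ⊗ P'), reassoc_of% hg, Iso.inv_hom_id_app,
    Category.comp_id, ← tm_comp_assoc, ← tm_comp_assoc, Category.assoc, Category.assoc, hu, hu, cxAdj_extTenCxIso,
    ε_natural_assoc, ← Functor.map_comp]
  rfl

theorem isIso_baseDelta (X K : Dual.D R) : IsIso (baseDelta φ X K) := by
  obtain ⟨P, hP, ⟨i⟩⟩ := exists_kproj X
  obtain ⟨P', hP', ⟨i'⟩⟩ := exists_kproj K
  haveI : P.IsKProjective := hP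
  haveI : P'.IsKProjective := hP'
  have hf := isKFl_of_isKProjective P
  have hf' := isKFl_of_isKProjective P'
  haveI := isIso_baseCmp φ hf
  haveI := isIso_baseCmp φ hf'
  haveI := isIso_ε (A := R') (K := (DTen.extCx φ).obj P) (L := (DTen.extCx φ).obj P')
    (Or.inl (DCohBridge.isKFlat_baseChange φ hf))
  haveI := isIso_ε (A := R) (K := P) (L := P') (Or.inl hf)
  haveI := isIso_baseCmp φ (isKFl_tensor hf hf')
  haveI : IsIso (baseDelta φ (DerivedCategory.Q.obj P) (DerivedCategory.Q.obj P')) := by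
    haveI : IsIso (baseDelta φ (DerivedCategory.Q.obj P) (DerivedCategory.Q.obj P') ≫
        tm ((DTen.baseCmp φ).app P) ((DTen.baseCmp φ).app P') ≫
          (DTen.ε R').app ((DTen.extCx φ).obj P, (DTen.extCx φ).obj P')) := by
      rw [baseDelta_eq]
      exact IsIso.comp_isIso' inferInstance
        (IsIso.comp_isIso' ‹IsIso ((DTen.baseCmp φ).app (P ⊗ P'))› inferInstance)
    exact IsIso.of_isIso_comp_right _
      (tm ((DTen.baseCmp φ).app P) ((DTen.baseCmp φ).app P') ≫
        (DTen.ε R').app ((DTen.extCx φ).obj P, (DTen.extCx φ).obj P'))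
  have h := baseDelta_natural φ i.hom i'.hom
  haveI : IsIso ((LBase φ).map (tm i.hom i'.hom) ≫ baseDelta φ X K) := by rw [h]; infer_instance
  exact IsIso.of_isIso_comp_left ((LBase φ).map (tm i.hom i'.hom)) _

variable [DTen.HasRHom R] [DTen.HasRHom R']

theorem isIso_rhomBC (K : Dual.D R) (M : Dual.D R') : IsIso (rhomBC φ K M) := by
  refine isIso_adjunct fun X => ?_
  haveI := isIso_baseDelta φ X K
  let e := (baseAdj φ).homEquiv X ((RHomR R' ((LBase φ).obj K)).obj M)
  have key : (fun g : X ⟶ (DRing.restrictD φ).obj ((RHomR R' ((LBase φ).obj K)).obj M) =>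
      tm g (𝟙 K) ≫ rhomBCCore φ K M) =
      ((baseAdj φ).homEquiv _ M) ∘ (fun x => baseDelta φ X K ≫ x) ∘
        (fun g' => tm g' (𝟙 _) ≫ DTen.ev ((LBase φ).obj K) M) ∘ e.symm := by
    funext g
    obtain ⟨g', rfl⟩ := e.surjective g
    simp only [Function.comp_apply, Equiv.symm_apply_apply]
    rw [(baseAdj φ).homEquiv_naturality_right, baseDelta, Equiv.apply_symm_apply, rhomBCCore, Functor.map_comp]
    have hn := (resPF φ).naturality
      (Prod.mkHom g' (𝟙 ((LBase φ).obj K)) :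
        (((LBase φ).obj X, (LBase φ).obj K) : Dual.D R' × Dual.D R') ⟶
          ((RHomR R' ((LBase φ).obj K)).obj M, (LBase φ).obj K))
    dsimp at hn
    simp only [Category.assoc]
    erw [← reassoc_of% hn, ← tm_comp_assoc, ← tm_comp_assoc]
    simp only [e, Adjunction.homEquiv_unit, CategoryTheory.Functor.map_id, Category.comp_id, Category.id_comp]
    erw [Category.comp_id]
  rw [key]
  exact ((baseAdj φ).homEquiv _ M).bijective.comp
    (((asIso (baseDelta φ X K)).symm.homFromEquiv).bijective.comp ((isUniv_ev _ M _).comp e.symm.bijective))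

end Groth.Agent.DTenLib
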