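import Groth.Agent.DTenLib.Proj

/-!
# The right adjoint of restriction along a ring that is perfect as a module
-/

universe u

open CategoryTheory Limits MonoidalCategory HomologicalComplex DTen

namespace Groth.Agent.DTenLib

attribute [local instance] HasDerivedCategory.standard

set_option linter.style.haveILetI false

open Groth.Agent.DRingKFlat Groth.Agent.DRingTorAmp

section LUniv

variable {R : Type u} [CommRing R] [HasLTen R]

/-- `u` exhibits `W` as the right adjoint of `S ⊗ -` at `L`. -/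
def LUniv {S W L : Dual.D R} (u : (LTen₂ R).obj (S, W) ⟶ L) : Prop :=
  ∀ X : Dual.D R, Function.Bijective fun g : X ⟶ W => tm (𝟙 S) g ≫ u

/-- The swapped dualizability datum. -/
def Dualizable.swap {K N : DRing.Cx R} (D : Dualizable K N) : Dualizable N K :=
  ⟨D.pairing', D.pairing, D.kflat', D.kflat⟩

theorem LUniv.isIso {S W W' L : Dual.D R} {u : (LTen₂ R).obj (S, W) ⟶ L} {u' : (LTen₂ R).obj (S, W') ⟶ L}
    (hu : LUniv u) (hu' : LUniv u') {j : W ⟶ W'} (h : tm (𝟙 S) j ≫ u' = u) : IsIso j := by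
  obtain ⟨k, hk⟩ := (hu W').2 u'
  dsimp only at hk
  refine ⟨k, (hu W).1 ?_, (hu' W').1 ?_⟩
  · show tm (𝟙 S) (j ≫ k) ≫ u = tm (𝟙 S) (𝟙 W) ≫ u
    rw [tm_comp_right_assoc, hk, h, tm_id, Category.id_comp]
  · show tm (𝟙 S) (k ≫ j) ≫ u' = tm (𝟙 S) (𝟙 W') ≫ u'
    rw [tm_comp_right_assoc, h, hk, tm_id, Category.id_comp]

theorem LUniv.comp_iso {S W L L' : Dual.D R} {u : (LTen₂ R).obj (S, W) ⟶ L} (hu : LUniv u) (i : L ⟶ L') [IsIso i] :
    LUniv (u ≫ i) := fun X => by
  have h : (fun g : X ⟶ W => tm (𝟙 S) g ≫ u ≫ i) = (asIso i).homToEquiv ∘ fun g => tm (𝟙 S) g ≫ u :=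
    funext fun g => (Category.assoc _ _ _).symm
  rw [h]
  exact (asIso i).homToEquiv.bijective.comp (hu X)

theorem LUniv.of_iso {S W W' L : Dual.D R} {u : (LTen₂ R).obj (S, W) ⟶ L} (hu : LUniv u) (j : W' ⟶ W) [IsIso j] :
    LUniv (tm (𝟙 S) j ≫ u) := fun X => by
  have h : (fun g : X ⟶ W' => tm (𝟙 S) g ≫ tm (𝟙 S) j ≫ u) =
      (fun g => tm (𝟙 S) g ≫ u) ∘ (asIso j).homToEquiv :=
    funext fun g => by rw [← tm_comp_right_assoc]; rfl
  rw [h]
  exact (hu X).comp (asIso j).homToEquiv.bijective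

theorem LUniv.of_iso_left {S S' W L : Dual.D R} {u : (LTen₂ R).obj (S, W) ⟶ L} (hu : LUniv u) (i : S' ⟶ S) [IsIso i] :
    LUniv (tm i (𝟙 W) ≫ u) := fun X => by
  have h : (fun g : X ⟶ W => tm (𝟙 S') g ≫ tm i (𝟙 W) ≫ u) =
      (fun x => (asIso (tm i (𝟙 X))).hom ≫ x) ∘ fun g => tm (𝟙 S) g ≫ u :=
    funext fun g => by rw [← tm_exchange_assoc]; rfl
  rw [h]
  exact (asIso (tm i (𝟙 X))).symm.homFromEquiv.bijective.comp (hu X)

theorem lUniv_counit {M N : DRing.Cx R} (D : Dualizable M N) (L : Dual.D R) :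
    LUniv ((adjLeft D.swap).counit.app L :
      (LTen₂ R).obj (DerivedCategory.Q.obj M, (LTen₂ R).obj (DerivedCategory.Q.obj N, L)) ⟶ L) := fun X => by
  have h : (fun g : X ⟶ (LTen₂ R).obj (DerivedCategory.Q.obj N, L) =>
      tm (𝟙 _) g ≫ (adjLeft D.swap).counit.app L) = ((adjLeft D.swap).homEquiv X L).symm :=
    funext fun g => ((adjLeft D.swap).homEquiv_counit X L g).symm
  exact h ▸ ((adjLeft D.swap).homEquiv X L).symm.bijective

variable [HasLTen₃ R] [IsSymMonoidal R]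

theorem LUniv.tensor {S W : Dual.D R} {M N : DRing.Cx R} (D : Dualizable M N) (i : DerivedCategory.Q.obj M ≅ S)
    {L : DRing.Cx R} (hL : IsKFl L) {u : (LTen₂ R).obj (S, W) ⟶ DerivedCategory.Q.obj L} (hu : LUniv u)
    (E : Dual.D R) :
    LUniv ((DTen.associator S W E).inv ≫ tm u (𝟙 E)) := by
  obtain ⟨E, rfl⟩ := Q_obj_surjective E
  let τ := adjLeft D.swap
  let u₀ := tm i.hom (𝟙 W) ≫ u
  have hu₀ : LUniv u₀ := hu.of_iso_left i.hom
  have hc := lUniv_counit D (DerivedCategory.Q.obj L)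
  let j : W ⟶ (LTen₂ R).obj (DerivedCategory.Q.obj N, DerivedCategory.Q.obj L) := τ.homEquiv _ _ u₀
  have hj : tm (𝟙 _) j ≫ τ.counit.app (DerivedCategory.Q.obj L) = u₀ :=
    (τ.homEquiv_counit W (DerivedCategory.Q.obj L) j).symm.trans (Equiv.symm_apply_apply _ _)
  haveI : IsIso j := hu₀.isIso hc hj
  have h₀ : LUniv ((DTen.associator (DerivedCategory.Q.obj M) W (DerivedCategory.Q.obj E)).inv ≫
      tm u₀ (𝟙 (DerivedCategory.Q.obj E))) := by
    have hk : (DTen.associator (DerivedCategory.Q.obj M)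
        ((LTen₂ R).obj (DerivedCategory.Q.obj N, DerivedCategory.Q.obj L)) (DerivedCategory.Q.obj E)).inv ≫
          tm (τ.counit.app (DerivedCategory.Q.obj L)) (𝟙 _) =
        tm (𝟙 _) (DTen.associator (DerivedCategory.Q.obj N) (DerivedCategory.Q.obj L) (DerivedCategory.Q.obj E)).hom ≫
          τ.counit.app ((LTen₂ R).obj (DerivedCategory.Q.obj L, DerivedCategory.Q.obj E)) := by
      rw [Iso.inv_comp_eq]
      exact (adjLeft_key D.swap hL E).symm
    have e : (DTen.associator (DerivedCategory.Q.obj M) W (DerivedCategory.Q.obj E)).inv ≫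
        tm u₀ (𝟙 (DerivedCategory.Q.obj E)) =
      tm (𝟙 _) (tm j (𝟙 _) ≫
          (DTen.associator (DerivedCategory.Q.obj N) (DerivedCategory.Q.obj L) (DerivedCategory.Q.obj E)).hom) ≫
        τ.counit.app ((LTen₂ R).obj (DerivedCategory.Q.obj L, DerivedCategory.Q.obj E)) := by
      rw [tm_comp_right_assoc, ← hk, Iso.inv_comp_eq, ← associator_natural_assoc, Iso.hom_inv_id_assoc,
        ← hj, tm_comp_left]
    rw [e]
    exact (lUniv_counit D _).of_iso _
  have e : (DTen.associator S W (DerivedCategory.Q.obj E)).inv ≫ tm u (𝟙 (DerivedCategory.Q.obj E)) =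
      tm i.inv (𝟙 _) ≫ (DTen.associator (DerivedCategory.Q.obj M) W (DerivedCategory.Q.obj E)).inv ≫
        tm u₀ (𝟙 (DerivedCategory.Q.obj E)) := by
    rw [Iso.inv_comp_eq, ← tm_id W (DerivedCategory.Q.obj E), ← associator_natural_assoc, Iso.hom_inv_id_assoc,
      ← tm_comp_left]
    congr 1
    rw [← tm_comp_left_assoc, Iso.inv_hom_id, tm_id, Category.id_comp]
  rw [e]
  exact h₀.of_iso_left i.inv

end LUniv

section RelDual

variable {R A : Type u} [CommRing R] [CommRing A] (φ : R →+* A) [HasLTen R] [HasLTen A] [HasLBase φ]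
  [HasResTen φ] [ResLegIso φ] [HasRHomRel φ]

/-- The evaluation `res A ⊗ res RHom(A, E) ⟶ E`. -/
noncomputable def relEv (E : Dual.D R) :
    (LTen₂ R).obj (resOne φ, (DRing.restrictD φ).obj ((RHomRel φ).obj E)) ⟶ E :=
  act φ ((RHomRel φ).obj E) ≫ (relAdj φ).counit.app E

theorem lUniv_relEv [HasLTen₃ R] [IsSymMonoidal R] (E : Dual.D R) : LUniv (relEv φ E) := fun X => by
  haveI := isIso_baseProj φ X
  let e := (baseAdj φ).homEquiv X ((RHomRel φ).obj E)
  have key : (fun g : X ⟶ (DRing.restrictD φ).obj ((RHomRel φ).obj E) => tm (𝟙 _) g ≫ relEv φ E) =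
      (fun x => (asIso (baseProj φ X)).hom ≫ x) ∘ ((relAdj φ).homEquiv _ E).symm ∘ e.symm := by
    funext g
    obtain ⟨g', rfl⟩ := e.surjective g
    simp only [Function.comp_apply, Equiv.symm_apply_apply, asIso_hom]
    show tm (𝟙 _) ((baseAdj φ).homEquiv X _ g') ≫ _ = _
    rw [Adjunction.homEquiv_unit, Adjunction.homEquiv_counit, relEv, baseProj, tm_comp_right, Category.assoc,
      Category.assoc, reassoc_of% (act_natural φ g')]
  rw [key]
  exact (asIso (baseProj φ X)).symm.homFromEquiv.bijective.comp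
    (((relAdj φ).homEquiv _ E).symm.bijective.comp e.symm.bijective)

/-- `RHom(A, R) ⊗^L_A (E ⊗^L_R A) ⟶ RHom(A, E)`. -/
noncomputable def relCmp (E : Dual.D R) :
    (LTen₂ A).obj ((RHomRel φ).obj (DTen.unit R), (LBase φ).obj E) ⟶ (RHomRel φ).obj E :=
  haveI := isIso_projPF φ ((RHomRel φ).obj (DTen.unit R)) E
  (relAdj φ).homEquiv _ E (inv (projPF φ ((RHomRel φ).obj (DTen.unit R)) E) ≫
    tm ((relAdj φ).counit.app (DTen.unit R)) (𝟙 E) ≫ (unitL R).app E)

theorem relCmp_natural {E E' : Dual.D R} (f : E ⟶ E') :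
    tm (𝟙 _) ((LBase φ).map f) ≫ relCmp φ E' = relCmp φ E ≫ (RHomRel φ).map f := by
  rw [relCmp, relCmp, ← Adjunction.homEquiv_naturality_left, ← Adjunction.homEquiv_naturality_right]
  refine congrArg _ ?_
  have h := projPF_natural φ (𝟙 ((RHomRel φ).obj (DTen.unit R))) f
  rw [CategoryTheory.Functor.map_id] at h
  have hu : tm (𝟙 (DTen.unit R)) f ≫ (unitL R).app E' = (unitL R).app E ≫ f := (unitL R).naturality f
  haveI := isIso_projPF φ ((RHomRel φ).obj (DTen.unit R)) E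
  haveI := isIso_projPF φ ((RHomRel φ).obj (DTen.unit R)) E'
  rw [← cancel_epi (projPF φ ((RHomRel φ).obj (DTen.unit R)) E), ← reassoc_of% h, IsIso.hom_inv_id_assoc,
    ← tm_exchange_assoc]
  erw [hu]
  rw [Category.assoc, Category.assoc, IsIso.hom_inv_id_assoc]

theorem isIso_relCmp [HasLTen₃ R] [IsSymMonoidal R] (hA : DRing.IsPerfect R (resOne φ)) (E : Dual.D R) :
    IsIso (relCmp φ E) := by
  obtain ⟨M, N, ⟨D⟩, ⟨i⟩⟩ := exists_dualizable hA
  let W := (RHomRel φ).obj (DTen.unit R)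
  haveI := isIso_projPF φ W E
  let c := projPF φ W E ≫ (DRing.restrictD φ).map (relCmp φ E)
  have hc : c ≫ (relAdj φ).counit.app E =
      tm ((relAdj φ).counit.app (DTen.unit R)) (𝟙 E) ≫ (unitL R).app E := by
    have h := ((relAdj φ).homEquiv_counit _ E (relCmp φ E)).symm
    rw [relCmp, Equiv.symm_apply_apply] at h
    show (_ ≫ _) ≫ _ = _
    rw [Category.assoc]
    exact (congrArg (_ ≫ ·) h).trans (IsIso.hom_inv_id_assoc _ _)
  have hkey : tm (𝟙 (resOne φ)) (projPF φ W E) ≫ act φ ((LTen₂ A).obj (W, (LBase φ).obj E)) =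
      (DTen.associator (resOne φ) ((DRing.restrictD φ).obj W) E).inv ≫ tm (act φ W) (𝟙 E) ≫ projPF φ W E := by
    rw [Iso.eq_inv_comp, projPF, tm_comp_right_assoc, ← associator_natural_assoc]
    erw [act_resPF, ← tm_comp_assoc, ← tm_comp_assoc]
    simp only [Category.comp_id, Category.id_comp, tm_id]
    erw [Category.comp_id]
  have hv : tm (𝟙 (resOne φ)) c ≫ relEv φ E =
      ((DTen.associator (resOne φ) ((DRing.restrictD φ).obj W) E).inv ≫ tm (relEv φ (DTen.unit R)) (𝟙 E)) ≫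
        (unitL R).app E := by
    rw [relEv, relEv, tm_comp_right_assoc, reassoc_of% (act_natural φ (relCmp φ E)), reassoc_of% hkey,
      tm_comp_left, Category.assoc, Category.assoc]
    simp only [c, Category.assoc] at hc
    rw [hc]
  have h₁ : LUniv (((DTen.associator (resOne φ) ((DRing.restrictD φ).obj W) E).inv ≫
      tm (relEv φ (DTen.unit R)) (𝟙 E)) ≫ (unitL R).app E) := by
    obtain ⟨P, hP, ⟨e⟩⟩ := exists_kproj (DTen.unit R)
    haveI : P.IsKProjective := hP
    have h := (((lUniv_relEv φ (DTen.unit R)).comp_iso e.inv).tensor D i (isKFl_of_isKProjective P) E).comp_iso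
      (tm e.hom (𝟙 E) ≫ (unitL R).app E)
    rw [Category.assoc, ← tm_comp_left_assoc, Category.assoc, Iso.inv_hom_id, Category.comp_id] at h
    rw [Category.assoc]
    exact h
  haveI : IsIso c := h₁.isIso (lUniv_relEv φ E) hv
  haveI : IsIso ((DRing.restrictD φ).map (relCmp φ E)) := IsIso.of_isIso_comp_left (projPF φ W E) _
  exact isIso_of_restrictD φ _

theorem nonempty_rhomRel_iso [HasLTenMix φ] [HasLTen₃ R] [IsSymMonoidal R] (hA : DRing.IsPerfect R (resOne φ)) :
    Nonempty (RHomRel φ ≅ (Functor.curry.obj (LTenMix φ)).flip.obj ((RHomRel φ).obj (DTen.unit R))) := by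
  let W := (RHomRel φ).obj (DTen.unit R)
  haveI := fun E => isIso_relCmp φ hA E
  haveI := isIso_split φ
  haveI := isIso_symm (A := A)
  let b₀ : LBase φ ⋙ (LTen A).obj W ≅ RHomRel φ :=
    NatIso.ofComponents (fun E => asIso (relCmp φ E)) (fun f => relCmp_natural φ f)
  let b₁ : LBase φ ⋙ (LTen A).flip.obj W ≅ LBase φ ⋙ (LTen A).obj W :=
    NatIso.ofComponents (fun E => asIso ((DTen.symm A).app (W, (LBase φ).obj E))) (fun f =>
      (DTen.symm A).naturality (Prod.mkHom (𝟙 W) ((LBase φ).map f)))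
  let b₂ : LBase φ ⋙ (LTen A).flip.obj W ≅ (Functor.curry.obj (LTenMix φ)).flip.obj W :=
    NatIso.ofComponents (fun E => (asIso (DTen.split φ)).app (E, W)) (fun {E E'} f => by
      have h := (DTen.split φ).naturality (Prod.mkHom f (𝟙 W) : (E, W) ⟶ (E', W))
      dsimp at h
      exact h)
  exact ⟨b₀.symm ≪≫ b₁.symm ≪≫ b₂⟩

end RelDual

end Groth.Agent.DTenLib
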